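import Groth.Agent.Variety2.Growth.Basic
import Groth.Agent.RefRank.RefPowLoc
import Groth.Prelude.Def_W4c5asymptcohfnACF

/-!
# Asymptotic cohomology only sees the generic rank
-/

set_option autoImplicit false

universe u

open CategoryTheory CategoryTheory.Limits AlgebraicGeometry TopologicalSpace Opposite Filter

noncomputable section

namespace Groth.Variety2.Growth

open Groth.PicAux Groth.HilbStab Groth.PropsBasic.Ample Groth.Inter

variable {k : Type u} [Field k] {X : Scheme.{u}} [X.Over (Spec (CommRingCat.of k))]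
  [IsProper (X ↘ Spec (CommRingCat.of k))]

/-- The weight `(j+1)^(n-1)`, zero for `n = 0`. -/
def wgt : ℕ → ℕ → ℕ
  | 0, _ => 0
  | n + 1, j => (j + 1) ^ n

theorem bndQ_wgt {A L : X.Modules} (hA : CohB1.IsAmple A) (hL : PicF.IsInvertible L) {n : ℕ}
    {F : X.Modules} (hF : Coh.IsCoh F)
    (hd : topologicalKrullDim (CohB1.support F) < ((n : ℕ) : WithBot ℕ∞)) : BndQ k L (wgt n) F := by
  have := hF.1
  cases n with
  | zero =>
    exact bndQ_isZero ((QCohMod.isZero_iff_support_eq_empty _).2 (eq_empty_of_dim_lt_zero hd))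
  | succ n => exact bndQ_of_dim hL hA n hF (topologicalKrullDim_le_of_lt hd)

variable [IsIntegral X]

omit [IsProper (X ↘ Spec (CommRingCat.of k))] [X.Over (Spec (CommRingCat.of k))] in
theorem dim_lt_of_notMem {n : ℕ} (hn : topologicalKrullDim X = n) {Z : Set X} (hZ : IsClosed Z)
    (hξ : genericPoint X ∉ Z) : topologicalKrullDim Z < ((n : ℕ) : WithBot ℕ∞) := by
  have hu : topologicalKrullDim (Set.univ : Set X) = n :=
    (IsHomeomorph.topologicalKrullDim_eq _ (Homeomorph.Set.univ X).isHomeomorph).trans hn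
  exact (LocCohTransform.topologicalKrullDim_lt_of_ssubset (Set.subset_univ _)
    (fun h => hξ (h trivial)) hZ isClosed_univ (IrreducibleSpace.isIrreducible_univ X)
    (hu.trans_lt (WithBot.coe_lt_coe.2 (ENat.natCast_lt_top _)))).trans_eq hu

variable {A L : X.Modules} (hA : CohB1.IsAmple A) (hL : PicF.IsInvertible L) {n : ℕ}
  (hn : topologicalKrullDim X = n)

include hA hL hn in
/-- A morphism which is bijective at the generic point changes nothing asymptotically. -/
theorem close_of_generic {M N : X.Modules} (f : M ⟶ N) (hM : Coh.IsCoh M) (hN : Coh.IsCoh N)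
    (hf : Function.Bijective ((QCohMod.stalk (genericPoint X)).map f)) :
    Close k L (wgt n) M N := by
  have : IsNoetherian X := isNoetherian k
  have := hM.1
  have := hN.1
  have hK : Coh.IsCoh (kernel f) := QCohMod.isCoh_kernel f hM
  have hQ : Coh.IsCoh (cokernel f) := QCohMod.isCoh_cokernel f hN
  refine close_of_hom hL f hM hN ?_ ?_
  · refine bndQ_wgt hA hL hK (dim_lt_of_notMem hn (CohTwo.isClosed_support _ hK) fun hx => hx ?_)
    haveI := (AddCommGrpCat.mono_iff_injective _).2 hf.1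
    exact AddCommGrpCat.subsingleton_of_isZero
      ((isZero_kernel_of_mono ((QCohMod.stalk (genericPoint X)).map f)).of_iso
        (PreservesKernel.iso (QCohMod.stalk (genericPoint X)) _))
  · exact bndQ_wgt hA hL hQ (dim_lt_of_notMem hn (CohTwo.isClosed_support _ hQ) fun hx =>
      KTheory.Devissage.subsingleton_cokernel_stalk _ (genericPoint X) hf.2 hx)

omit [X.Over (Spec (CommRingCat.of k))] [IsProper (X ↘ Spec (CommRingCat.of k))] in
/-- A module spanned by global sections receives a generically bijective map from a free module. -/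
theorem exists_free_generic {M : X.Modules} [M.IsQuasicoherent] (hft : CohB1.IsFT M)
    (hgg : Curv2.IsGloballyGenerated M) (r : ℕ)
    (hr : Module.finrank (X.presheaf.stalk (genericPoint X)) (M.presheaf.stalk (genericPoint X)) = r) :
    ∃ φ : (∐ fun _ : Fin r => Coh.structureModule X) ⟶ M,
      Function.Bijective ((QCohMod.stalk (genericPoint X)).map φ) := by
  letI : Field (X.presheaf.stalk (genericPoint X)) := inferInstanceAs (Field X.functionField)
  let ξ := genericPoint X
  have := QCohMod.finite_stalk M hft ξ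
  obtain ⟨b, hb, hspan, hli⟩ := exists_linearIndependent (X.presheaf.stalk ξ)
    (Set.range fun t : Γ(M, (⊤ : X.Opens)) =>
      Groth.QCohMod.germ M ξ (Set.mem_univ ξ : ξ ∈ (⊤ : X.Opens)) t)
  have htop : Submodule.span (X.presheaf.stalk ξ) b = ⊤ :=
    hspan.trans (VarietyBC.GGen.spansStalks hgg ξ)
  let B₀ : Module.Basis b (X.presheaf.stalk ξ) (M.presheaf.stalk ξ) :=
    Module.Basis.mk hli (by rw [Subtype.range_coe, htop])
  let B := B₀.reindex (B₀.indexEquiv (Module.finBasisOfFinrankEq _ _ hr))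
  have hB : ∀ i, ∃ t : Γ(M, (⊤ : X.Opens)),
      Groth.QCohMod.germ M ξ (Set.mem_univ ξ : ξ ∈ (⊤ : X.Opens)) t = B i := fun i => by
    have : B i ∈ b := by
      rw [Module.Basis.reindex_apply, Module.Basis.mk_apply]
      exact Subtype.coe_prop _
    exact hb this
  choose t ht using hB
  let S := fun _ : Fin r => Coh.structureModule X
  let φ : ∐ S ⟶ M := Sigma.desc fun i => homOfSection (t i)
  let e : Fin r → (∐ S).presheaf.stalk ξ := fun i =>
    RefHull.stalkMapₗ (Sigma.ι S i) ξ (RefRank.oneGerm ξ)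
  have he : ∀ i, RefHull.stalkMapₗ φ ξ (e i) = B i := fun i => by
    rw [← ht i]
    change ((QCohMod.stalk ξ).map φ) ((QCohMod.stalk ξ).map (Sigma.ι S i) (RefRank.oneGerm ξ)) = _
    rw [← ConcreteCategory.comp_apply, ← Functor.map_comp, Sigma.ι_desc]
    refine (QCohMod.stalk_map_germ (homOfSection (t i)) ξ (Set.mem_univ ξ) _).trans ?_
    exact congrArg _ (homOfSection_one (t i))
  have hgen : ∀ z : (∐ S).presheaf.stalk ξ, ∃ c : Fin r → X.presheaf.stalk ξ, ∑ i, c i • e i = z :=
    fun z => by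
    choose c hc using fun i => (RefRank.oneEquiv ξ).surjective
      (RefHull.stalkMapₗ (PnCoh.sigmaProj S i) ξ z)
    refine ⟨c, ?_⟩
    have h1 : ∀ i, c i • e i = ((QCohMod.stalk ξ).map (PnCoh.sigmaProj S i ≫ Sigma.ι S i)) z := fun i => by
      rw [Functor.map_comp, ConcreteCategory.comp_apply]
      refine ((map_smul (RefHull.stalkMapₗ (Sigma.ι S i) ξ) (c i) (RefRank.oneGerm ξ)).symm).trans ?_
      exact congrArg (RefHull.stalkMapₗ (Sigma.ι S i) ξ) ((RefRank.oneEquiv_apply ξ (c i)).symm.trans (hc i))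
    simp only [h1]
    let ev : ((∐ S) ⟶ (∐ S)) →+ (QCohMod.stalk ξ).obj (∐ S) :=
      { toFun := fun f => (QCohMod.stalk ξ).map f z
        map_zero' := by rw [Functor.map_zero]; rfl
        map_add' := fun f g => by rw [Functor.map_add]; rfl }
    refine (map_sum ev (fun i => PnCoh.sigmaProj S i ≫ Sigma.ι S i) Finset.univ).symm.trans ?_
    rw [PnCoh.sigmaProj_total]
    change (QCohMod.stalk ξ).map (𝟙 (∐ S)) z = z
    exact congr($((QCohMod.stalk ξ).map_id (∐ S)) z)
  refine ⟨φ, (injective_iff_map_eq_zero _).2 fun z hz => ?_, fun y => ?_⟩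
  · obtain ⟨c, rfl⟩ := hgen z
    have hz' : ∑ i, c i • B i = 0 := by
      have : RefHull.stalkMapₗ φ ξ (∑ i, c i • e i) = 0 := hz
      simpa [map_sum, map_smul, he] using this
    have hc0 := Fintype.linearIndependent_iff.1 B.linearIndependent c hz'
    exact Finset.sum_eq_zero fun i _ => (congrArg (· • e i) (hc0 i)).trans (zero_smul _ _)
  · refine ⟨∑ i, B.repr y i • e i, ?_⟩
    have : RefHull.stalkMapₗ φ ξ (∑ i, B.repr y i • e i) = y := by
      simp only [map_sum, map_smul, he]
      exact B.sum_repr y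
    exact this

omit [IsProper (X ↘ Spec (CommRingCat.of k))] [IsIntegral X] in
/-- Cohomology of a split finite sum of copies. -/
theorem h_sum {r : ℕ} {S N : X.Modules} (p : Fin r → (S ⟶ N)) (ι : Fin r → (N ⟶ S))
    (hδ : ∀ i j, ι i ≫ p j = if i = j then 𝟙 N else 0) (htot : ∑ i, p i ≫ ι i = 𝟙 S) (q : ℕ)
    [Module.Finite k (Coh.HH X N q)] : h k S q = r * h k N q := by
  classical
  let a : Coh.HH X S q →ₗ[k] (Fin r → Coh.HH X N q) := LinearMap.pi fun i => EulerDeg.hMap k (p i) q
  let b : (Fin r → Coh.HH X N q) →ₗ[k] Coh.HH X S q :=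
    ∑ i, (EulerDeg.hMap k (ι i) q).comp (LinearMap.proj i)
  have hz : EulerDeg.hMap k (0 : N ⟶ N) q = 0 := LinearMap.ext fun x => by
    have := EulerDeg.hMap_comp k (0 : N ⟶ N) (0 : N ⟶ N) q
    rw [EulerDeg.hMap_apply, EulerDeg.abMap_zero, Sheaf.H.map_apply, Abelian.Ext.mk₀_zero,
      Abelian.Ext.comp_zero]
    rfl
  let E : Coh.HH X S q ≃ₗ[k] (Fin r → Coh.HH X N q) := LinearEquiv.ofLinearMap a b
    (LinearMap.ext fun v => funext fun j => by
      simp only [a, b, LinearMap.comp_apply, LinearMap.pi_apply, LinearMap.coe_sum, Finset.sum_apply,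
        LinearMap.proj_apply, map_sum, LinearMap.id_apply]
      rw [Finset.sum_eq_single j]
      · rw [← LinearMap.comp_apply, ← EulerDeg.hMap_comp, hδ, if_pos rfl, EulerDeg.hMap_id]; rfl
      · intro i _ hij
        rw [← LinearMap.comp_apply, ← EulerDeg.hMap_comp, hδ, if_neg hij, hz]; rfl
      · simp)
    (LinearMap.ext fun x => by
      simp only [a, b, LinearMap.comp_apply, LinearMap.pi_apply, LinearMap.coe_sum, Finset.sum_apply,
        LinearMap.proj_apply, LinearMap.id_apply]
      simp only [← LinearMap.comp_apply, ← EulerDeg.hMap_comp]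
      rw [← LinearMap.sum_apply]
      have hs : ∀ s : Finset (Fin r), ∑ i ∈ s, EulerDeg.hMap k (p i ≫ ι i) q =
          EulerDeg.hMap k (∑ i ∈ s, p i ≫ ι i) q := fun s => by
        refine LinearMap.ext fun x => ?_
        rw [LinearMap.sum_apply]
        exact (PnCoh.mapL_sum (X ↘ Spec (CommRingCat.of k)) s (fun i => p i ≫ ι i) q x).symm
      rw [hs, htot, EulerDeg.hMap_id]; rfl)
  unfold h
  rw [E.finrank_eq, Module.finrank_pi_fintype, Finset.sum_const, Finset.card_univ, Fintype.card_fin,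
    smul_eq_mul]

include hL in
omit [IsIntegral X] in
theorem hT_sum (r q j : ℕ) : hT k L (∐ fun _ : Fin r => Coh.structureModule X) q j =
    r * hT k L (Coh.structureModule X) q j := by
  classical
  let S := fun _ : Fin r => Coh.structureModule X
  let T := tw L j
  haveI : T.Additive := DCoh.additive_tensorRightMod _
  have hO := isCoh_twist hL (isCoh_of_isInvertible (EulerDeg.isInvertible_structureModule X)) j
  haveI : Module.Finite k (Coh.HH X (T.obj (Coh.structureModule X)) q) := (finCoh k hO).finite q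
  unfold hT
  refine h_sum (k := k) (S := T.obj (∐ S)) (N := T.obj (Coh.structureModule X))
    (fun i => T.map (PnCoh.sigmaProj S i)) (fun i => T.map (Sigma.ι S i)) (fun i l => ?_) ?_ q
  · rw [← T.map_comp, PnCoh.sigmaProj, Sigma.ι_desc]
    split_ifs with h1
    · exact T.map_id _
    · exact T.map_zero _ _
  · simp only [← T.map_comp]
    rw [← Functor.map_sum, PnCoh.sigmaProj_total]
    exact T.map_id _

include hA hL hn in
/-- Up to `O(j^(n-1))`, a coherent module of generic rank `r` behaves like `r` copies of `O`. -/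
theorem close_free {F : X.Modules} (hF : Coh.IsCoh F) (r : ℕ)
    (hr : Module.finrank (X.presheaf.stalk (genericPoint X)) (F.presheaf.stalk (genericPoint X)) = r) :
    Close k L (wgt n) (∐ fun _ : Fin r => Coh.structureModule X) F := by
  have hOc := isCoh_of_isInvertible (EulerDeg.isInvertible_structureModule X)
  have : IsNoetherian X := isNoetherian k
  have := hF.1
  have := hOc.1
  obtain ⟨p₁, hp₁⟩ := Chow.exists_isGloballyGenerated_twist hA F hF.2
  obtain ⟨p₂, hp₂⟩ := Chow.exists_isGloballyGenerated_twist hA (Coh.structureModule X) hOc.2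
  let P := CohB1.tensorPow A (p₁ + p₂)
  let C := CohB1.tensorMod (Coh.structureModule X) P
  have hP : PicF.IsInvertible P := isInvertible_tensorPow hA.1 _
  have hC : PicF.IsInvertible C := isInvertible_tensorMod (EulerDeg.isInvertible_structureModule X) hP
  obtain ⟨c, hc⟩ := VarietyBC.GGen.exists_mem_gloc hC (hp₂ _ (Nat.le_add_left _ _)) (genericPoint X)
  let e : CohB1.tensorMod F C ≅ CohB1.tensorMod F P := (tensor_congr ⟨Iso.refl F⟩ (tensor_one P)).some
  let g : F ⟶ CohB1.tensorMod F P := mulSec c F ≫ e.hom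
  have hM : Coh.IsCoh (CohB1.tensorMod F P) := RefRank.isCoh_tensorMod hF (isCoh_of_isInvertible hP)
  have hg : Function.Bijective ((QCohMod.stalk (genericPoint X)).map g) := by
    rw [Functor.map_comp, ConcreteCategory.coe_comp]
    exact (ConcreteCategory.bijective_of_isIso ((QCohMod.stalk (genericPoint X)).map e.hom)).comp
      (mulSec_stalk_bijective c F hc)
  have hr' : Module.finrank (X.presheaf.stalk (genericPoint X))
      ((CohB1.tensorMod F P).presheaf.stalk (genericPoint X)) = r :=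
    (LinearEquiv.ofBijective (RefHull.stalkMapₗ g (genericPoint X)) hg).finrank_eq.symm.trans hr
  have := hM.1
  obtain ⟨φ, hφ⟩ := exists_free_generic hM.2 (hp₁ _ (Nat.le_add_right _ _)) r hr'
  exact (close_of_generic hA hL hn φ (PnCoh.isCoh_sigma _ fun _ => hOc) hM hφ).trans
    (close_of_generic hA hL hn g hF hM hg).symm

omit [IsIntegral X] in
/-- Small differences do not change the upper limit. -/
theorem limsup_eq_of_close {u v : ℕ → ℝ} {B : ℝ} (hu : ∀ m, 0 ≤ u m) (hv : ∀ m, 0 ≤ v m)
    (hvB : ∀ᶠ m in atTop, v m ≤ B) {d : ℕ → ℝ} (hd : Tendsto d atTop (nhds 0))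
    (huv : ∀ᶠ m in atTop, |u m - v m| ≤ d m) : limsup u atTop = limsup v atTop := by
  have hd1 : ∀ᶠ m in atTop, d m ≤ 1 := hd.eventually (Iic_mem_nhds one_pos)
  have huB : ∀ᶠ m in atTop, u m ≤ B + 1 := by
    filter_upwards [hvB, hd1, huv] with m a b c
    linarith [(abs_le.1 c).2]
  have bu : IsBoundedUnder (· ≤ ·) atTop u := ⟨B + 1, eventually_map.2 huB⟩
  have bv : IsBoundedUnder (· ≤ ·) atTop v := ⟨B, eventually_map.2 hvB⟩
  have cu : IsCoboundedUnder (· ≤ ·) atTop u := IsBoundedUnder.isCoboundedUnder_le ⟨0, eventually_map.2 (Eventually.of_forall hu)⟩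
  have cv : IsCoboundedUnder (· ≤ ·) atTop v := IsBoundedUnder.isCoboundedUnder_le ⟨0, eventually_map.2 (Eventually.of_forall hv)⟩
  refine le_antisymm (le_of_forall_gt_imp_ge_of_dense fun a ha => ?_) (le_of_forall_gt_imp_ge_of_dense fun a ha => ?_)
  · obtain ⟨b, hb, hba⟩ := exists_between ha
    refine limsup_le_of_le cu ?_
    filter_upwards [eventually_lt_of_limsup_lt hb bv, huv,
      hd.eventually (Iic_mem_nhds (sub_pos.2 hba))] with m h1 h2 h3
    have h4 : d m ≤ a - b := h3
    linarith [(abs_le.1 h2).2]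
  · obtain ⟨b, hb, hba⟩ := exists_between ha
    refine limsup_le_of_le cv ?_
    filter_upwards [eventually_lt_of_limsup_lt hb bu, huv,
      hd.eventually (Iic_mem_nhds (sub_pos.2 hba))] with m h1 h2 h3
    have h4 : d m ≤ a - b := h3
    linarith [(abs_le.1 h2).1]

lemma wgt_div_tendsto (n : ℕ) (C : ℝ) :
    Tendsto (fun m : ℕ => C * (wgt n m : ℝ) / (m : ℝ) ^ n) atTop (nhds 0) := by
  cases n with
  | zero => simp [wgt]
  | succ n =>
    have h : Tendsto (fun m : ℕ => C * ((1 + (m : ℝ)⁻¹) ^ n * (m : ℝ)⁻¹)) atTop (nhds (C * ((1 + 0) ^ n * 0))) :=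
      (((tendsto_inv_atTop_nhds_zero_nat (𝕜 := ℝ)).const_add 1).pow n |>.mul
        (tendsto_inv_atTop_nhds_zero_nat (𝕜 := ℝ))).const_mul C
    rw [mul_zero, mul_zero] at h
    refine h.congr' ?_
    filter_upwards [eventually_gt_atTop 0] with m hm
    have hm' : (m : ℝ) ≠ 0 := by positivity
    simp only [wgt]
    push_cast
    rw [show 1 + (m : ℝ)⁻¹ = ((m : ℝ) + 1) / m by field_simp, div_pow, pow_succ]
    field_simp

omit [IsIntegral X] in
theorem cohSeq_nonneg (n i : ℕ) (F L : X.Modules) (m : ℕ) :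
    0 ≤ W4c5asymptcohfn.cohSeq k X n i F L m := by
  unfold W4c5asymptcohfn.cohSeq
  positivity

omit [IsIntegral X] in
theorem cohSeq_eq (n i : ℕ) (F L : X.Modules) (m : ℕ) : W4c5asymptcohfn.cohSeq k X n i F L m =
    (hT k L F i m : ℝ) * (n.factorial : ℝ) / (m : ℝ) ^ n := rfl

include hA hL hn in
omit [IsIntegral X] in
theorem eventually_cohSeq_le {F : X.Modules} (hF : Coh.IsCoh F) (i : ℕ) :
    ∃ B : ℝ, ∀ᶠ m in atTop, W4c5asymptcohfn.cohSeq k X n i F L m ≤ B := by
  obtain ⟨C, hC⟩ := bndQ_of_dim (k := k) hL hA n hF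
    ((topologicalKrullDim_subspace_le X _).trans hn.le) i
  refine ⟨(C : ℝ) * 2 ^ n * n.factorial, ?_⟩
  filter_upwards [eventually_ge_atTop 1] with m hm
  rw [cohSeq_eq]
  have hm' : (0 : ℝ) < (m : ℝ) ^ n := by
    have : (0 : ℝ) < m := by exact_mod_cast hm
    positivity
  rw [div_le_iff₀ hm']
  have h1 : hT k L F i m ≤ C * 2 ^ n * m ^ n := by
    refine (hC m).trans ?_
    rw [mul_assoc, ← mul_pow]
    exact Nat.mul_le_mul_left _ (Nat.pow_le_pow_left (by omega) n)
  have h2 : (hT k L F i m : ℝ) ≤ (C : ℝ) * 2 ^ n * (m : ℝ) ^ n := by exact_mod_cast h1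
  calc (hT k L F i m : ℝ) * n.factorial ≤ (C : ℝ) * 2 ^ n * (m : ℝ) ^ n * n.factorial := by gcongr
    _ = _ := by ring

include hA hL hn in
omit [IsIntegral X] in
theorem hhatF_eq_of_close {F G : X.Modules} (hG : Coh.IsCoh G) (c : Close k L (wgt n) F G) (i : ℕ) :
    W4c5asymptcohfn.hhatF k X n i F L = W4c5asymptcohfn.hhatF k X n i G L := by
  obtain ⟨C, hC⟩ := c i
  obtain ⟨B, hB⟩ := eventually_cohSeq_le (k := k) hA hL hn hG i
  refine limsup_eq_of_close (cohSeq_nonneg n i F L) (cohSeq_nonneg n i G L) hB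
    (wgt_div_tendsto n ((C : ℝ) * n.factorial)) (Eventually.of_forall fun m => ?_)
  rw [cohSeq_eq, cohSeq_eq, ← sub_div, ← sub_mul, abs_div, abs_mul,
    abs_of_nonneg (by positivity : (0 : ℝ) ≤ (n.factorial : ℝ)),
    abs_of_nonneg (by positivity : (0 : ℝ) ≤ (m : ℝ) ^ n)]
  have h1 : (hT k L F i m : ℝ) ≤ hT k L G i m + C * wgt n m := by exact_mod_cast (hC m).1
  have h2 : (hT k L G i m : ℝ) ≤ hT k L F i m + C * wgt n m := by exact_mod_cast (hC m).2
  have h3 : |(hT k L F i m : ℝ) - hT k L G i m| ≤ C * wgt n m := abs_le.2 ⟨by linarith, by linarith⟩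
  calc |(hT k L F i m : ℝ) - hT k L G i m| * n.factorial / (m : ℝ) ^ n
      ≤ C * wgt n m * n.factorial / (m : ℝ) ^ n := by gcongr
    _ = (C : ℝ) * n.factorial * wgt n m / (m : ℝ) ^ n := by ring

omit [IsProper (X ↘ Spec (CommRingCat.of k))] [IsIntegral X] in
theorem hhatF_structureModule (n i : ℕ) (L : X.Modules) :
    W4c5asymptcohfn.hhatF k X n i (Coh.structureModule X) L = W4c5asymptcohfn.hhat k X n i L := by
  unfold W4c5asymptcohfn.hhatF W4c5asymptcohfn.hhat
  refine congrArg (fun u => limsup u atTop) (funext fun m => ?_)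
  unfold W4c5asymptcohfn.cohSeq
  rw [(EulerDeg.hEquiv k (tensor_one (CohB1.tensorPow L m)).some i).finrank_eq]

include hA hL hn in
/-- `ĥ^i(F, L) = rank(F) · ĥ^i(L)`. -/
theorem hhatF_eq_rank_mul {F : X.Modules} (hF : Coh.IsCoh F) (r : ℕ)
    (hr : Module.finrank (X.presheaf.stalk (genericPoint X)) (F.presheaf.stalk (genericPoint X)) = r)
    (i : ℕ) :
    W4c5asymptcohfn.hhatF k X n i F L = (r : ℝ) * W4c5asymptcohfn.hhat k X n i L := by
  have hOc := isCoh_of_isInvertible (EulerDeg.isInvertible_structureModule X)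
  rw [← hhatF_eq_of_close hA hL hn hF (close_free hA hL hn hF r hr) i, ← hhatF_structureModule]
  have e : W4c5asymptcohfn.cohSeq k X n i (∐ fun _ : Fin r => Coh.structureModule X) L =
      fun m => (r : ℝ) * W4c5asymptcohfn.cohSeq k X n i (Coh.structureModule X) L m := funext fun m => by
    rw [cohSeq_eq, cohSeq_eq, hT_sum hL, Nat.cast_mul]
    ring
  obtain ⟨B, hB⟩ := eventually_cohSeq_le (k := k) hA hL hn hOc i
  unfold W4c5asymptcohfn.hhatF
  rw [e]
  exact (Monotone.map_limsup_of_continuousAt (f := fun x : ℝ => (r : ℝ) * x)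
    (fun a b hab => by dsimp only; gcongr) (W4c5asymptcohfn.cohSeq k X n i (Coh.structureModule X) L)
    (by fun_prop) ⟨B, eventually_map.2 hB⟩
    (IsBoundedUnder.isCoboundedUnder_le ⟨0, eventually_map.2 (Eventually.of_forall (cohSeq_nonneg n i _ L))⟩)).symm

end Groth.Variety2.Growth
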