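import Groth.Agent.Inter.Growth
import Groth.Agent.PnCoh.Finite

/-!
# Polynomial growth of higher cohomology of twists by powers
-/

set_option autoImplicit false

universe u

open CategoryTheory CategoryTheory.Limits AlgebraicGeometry TopologicalSpace Opposite

noncomputable section

namespace Groth.Variety2.Growth

open Groth.PicAux Groth.HilbStab Groth.PropsBasic.Ample Groth.Inter

variable (k : Type u) [Field k] {X : Scheme.{u}} [X.Over (Spec (CommRingCat.of k))]

/-- `dim H^q(F)`. -/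
def h (F : X.Modules) (q : ℕ) : ℕ := Module.finrank k (Coh.HH X F q)

/-- `dim H^q(F ⊗ L^j)`. -/
def hT (L F : X.Modules) (q j : ℕ) : ℕ := h k (CohB1.tensorMod F (CohB1.tensorPow L j)) q

lemma h_congr {F G : X.Modules} (e : F ≅ G) (q : ℕ) : h k F q = h k G q :=
  (EulerDeg.hEquiv k e q).finrank_eq

lemma h_isZero {F : X.Modules} (hz : IsZero F) (q : ℕ) : h k F q = 0 := by
  have : Subsingleton (Coh.HH X F q) :=
    Sheaf.subsingleton_H_of_isZero ((SheafOfModules.toSheaf X.ringCatSheaf).map_isZero hz) q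
  exact Module.finrank_zero_of_subsingleton

lemma hT_isZero {L F : X.Modules} (hz : IsZero F) (q j : ℕ) : hT k L F q j = 0 :=
  h_isZero k ((tw L j).map_isZero hz) q

lemma hT_congr {L F G : X.Modules} (e : F ≅ G) (q j : ℕ) : hT k L F q j = hT k L G q j :=
  h_congr k (tensor_congr ⟨e⟩ ⟨Iso.refl _⟩).some q

lemma finrank_le_of_exact {A B C : Type*} [AddCommGroup A] [Module k A] [AddCommGroup B]
    [Module k B] [AddCommGroup C] [Module k C] [Module.Finite k A] [Module.Finite k B]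
    [Module.Finite k C] (f : A →ₗ[k] B) (g : B →ₗ[k] C) (he : Function.Exact f g) :
    Module.finrank k B ≤ Module.finrank k A + Module.finrank k C := by
  have h1 := LinearMap.finrank_range_add_finrank_ker g
  have h2 := Submodule.finrank_le (LinearMap.range g)
  have h3 : Module.finrank k (LinearMap.ker g) ≤ Module.finrank k A := by
    rw [he.linearMap_ker_eq]
    exact LinearMap.finrank_range_le f
  omega

variable [IsProper (X ↘ Spec (CommRingCat.of k))]

section Exact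

variable {S : ShortComplex X.Modules} (hS : S.ShortExact) (h₁ : Coh.IsCoh S.X₁) (h₂ : Coh.IsCoh S.X₂)
  (h₃ : Coh.IsCoh S.X₃)

include hS h₁ h₂ h₃

lemma h_mid_le (q : ℕ) : h k S.X₂ q ≤ h k S.X₁ q + h k S.X₃ q := by
  have := (finCoh k h₁).finite q
  have := (finCoh k h₂).finite q
  have := (finCoh k h₃).finite q
  exact finrank_le_of_exact k _ _ (EulerDeg.exact_mid k hS q)

lemma h_right_le (q : ℕ) : h k S.X₃ q ≤ h k S.X₂ q + h k S.X₁ (q + 1) := by
  have := (finCoh k h₁).finite (q + 1)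
  have := (finCoh k h₂).finite q
  have := (finCoh k h₃).finite q
  exact finrank_le_of_exact k _ _ (EulerDeg.exact_right k hS q)

lemma h_left_zero_le : h k S.X₁ 0 ≤ h k S.X₂ 0 := by
  have := (finCoh k h₂).finite 0
  exact LinearMap.finrank_le_finrank_of_injective (EulerDeg.injective_zero k hS)

lemma h_left_succ_le (q : ℕ) : h k S.X₁ (q + 1) ≤ h k S.X₃ q + h k S.X₂ (q + 1) := by
  have := (finCoh k h₁).finite (q + 1)
  have := (finCoh k h₂).finite (q + 1)
  have := (finCoh k h₃).finite q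
  exact finrank_le_of_exact k _ _ (EulerDeg.exact_left k hS q)

end Exact

/-- `h^q(F ⊗ L^j) = O(w j)` in every degree. -/
def BndQ (L : X.Modules) (w : ℕ → ℕ) (F : X.Modules) : Prop :=
  ∀ q : ℕ, ∃ C : ℕ, ∀ j : ℕ, hT k L F q j ≤ C * w j

/-- `h^q(F ⊗ L^j) - h^q(G ⊗ L^j) = O(w j)` in every degree. -/
def Close (L : X.Modules) (w : ℕ → ℕ) (F G : X.Modules) : Prop :=
  ∀ q : ℕ, ∃ C : ℕ, ∀ j : ℕ,
    hT k L F q j ≤ hT k L G q j + C * w j ∧ hT k L G q j ≤ hT k L F q j + C * w j

variable {k} {L : X.Modules} {w : ℕ → ℕ}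

omit [IsProper (X ↘ Spec (CommRingCat.of k))] in
theorem bndQ_iso {F G : X.Modules} (e : F ≅ G) (b : BndQ k L w F) : BndQ k L w G := fun q => by
  obtain ⟨C, hC⟩ := b q
  exact ⟨C, fun j => (hT_congr k e.symm q j).trans_le (hC j)⟩

omit [IsProper (X ↘ Spec (CommRingCat.of k))] in
theorem bndQ_isZero {F : X.Modules} (hz : IsZero F) : BndQ k L w F :=
  fun q => ⟨0, fun j => by rw [hT_isZero k hz]; exact Nat.zero_le _⟩

omit [IsProper (X ↘ Spec (CommRingCat.of k))] in
theorem close_of_iso {F G : X.Modules} (e : F ≅ G) : Close k L w F G :=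
  fun q => ⟨0, fun j => by rw [hT_congr k e]; exact ⟨Nat.le_add_right _ _, Nat.le_add_right _ _⟩⟩

omit [IsProper (X ↘ Spec (CommRingCat.of k))] in
theorem Close.symm {F G : X.Modules} (c : Close k L w F G) : Close k L w G F := fun q => by
  obtain ⟨C, hC⟩ := c q
  exact ⟨C, fun j => (hC j).symm⟩

omit [IsProper (X ↘ Spec (CommRingCat.of k))] in
theorem Close.trans {F G H : X.Modules} (c : Close k L w F G) (c' : Close k L w G H) :
    Close k L w F H := fun q => by
  obtain ⟨C, hC⟩ := c q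
  obtain ⟨C', hC'⟩ := c' q
  refine ⟨C + C', fun j => ?_⟩
  have := hC j
  have := hC' j
  rw [add_mul]
  omega

lemma isCoh_twist (hL : PicF.IsInvertible L) {F : X.Modules} (hF : Coh.IsCoh F) (j : ℕ) :
    Coh.IsCoh (CohB1.tensorMod F (CohB1.tensorPow L j)) :=
  RefRank.isCoh_tensorMod hF (isCoh_of_isInvertible (isInvertible_tensorPow hL j))

variable (hL : PicF.IsInvertible L)

section ShortExact

variable {S : ShortComplex X.Modules} (hS : S.ShortExact) (h₁ : Coh.IsCoh S.X₁) (h₂ : Coh.IsCoh S.X₂)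
  (h₃ : Coh.IsCoh S.X₃)

include hL hS h₁ h₂ h₃

theorem hT_mid_le (q j : ℕ) : hT k L S.X₂ q j ≤ hT k L S.X₁ q j + hT k L S.X₃ q j :=
  h_mid_le k (shortExact_tensorRightMod (isInvertible_tensorPow hL j) hS) (isCoh_twist hL h₁ j) (isCoh_twist hL h₂ j) (isCoh_twist hL h₃ j) q

theorem hT_right_le (q j : ℕ) : hT k L S.X₃ q j ≤ hT k L S.X₂ q j + hT k L S.X₁ (q + 1) j :=
  h_right_le k (shortExact_tensorRightMod (isInvertible_tensorPow hL j) hS) (isCoh_twist hL h₁ j) (isCoh_twist hL h₂ j) (isCoh_twist hL h₃ j) q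

theorem hT_left_zero_le (j : ℕ) : hT k L S.X₁ 0 j ≤ hT k L S.X₂ 0 j := by
  have := h_left_zero_le k (shortExact_tensorRightMod (isInvertible_tensorPow hL j) hS)
    (isCoh_twist hL h₁ j) (isCoh_twist hL h₂ j) (isCoh_twist hL h₃ j)
  unfold hT
  exact this

theorem hT_left_succ_le (q j : ℕ) :
    hT k L S.X₁ (q + 1) j ≤ hT k L S.X₃ q j + hT k L S.X₂ (q + 1) j :=
  h_left_succ_le k (shortExact_tensorRightMod (isInvertible_tensorPow hL j) hS) (isCoh_twist hL h₁ j) (isCoh_twist hL h₂ j) (isCoh_twist hL h₃ j) q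

theorem bndQ_mid (b₁ : BndQ k L w S.X₁) (b₃ : BndQ k L w S.X₃) : BndQ k L w S.X₂ := fun q => by
  obtain ⟨C₁, hC₁⟩ := b₁ q
  obtain ⟨C₃, hC₃⟩ := b₃ q
  refine ⟨C₁ + C₃, fun j => (hT_mid_le hL hS h₁ h₂ h₃ q j).trans ?_⟩
  rw [add_mul]
  exact Nat.add_le_add (hC₁ j) (hC₃ j)

theorem bndQ_left (b₂ : BndQ k L w S.X₂) (b₃ : BndQ k L w S.X₃) : BndQ k L w S.X₁ := fun q => by
  cases q with
  | zero =>
    obtain ⟨C₂, hC₂⟩ := b₂ 0
    exact ⟨C₂, fun j => (hT_left_zero_le hL hS h₁ h₂ h₃ j).trans (hC₂ j)⟩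
  | succ q =>
    obtain ⟨C₂, hC₂⟩ := b₂ (q + 1)
    obtain ⟨C₃, hC₃⟩ := b₃ q
    refine ⟨C₃ + C₂, fun j => (hT_left_succ_le hL hS h₁ h₂ h₃ q j).trans ?_⟩
    rw [add_mul]
    exact Nat.add_le_add (hC₃ j) (hC₂ j)

/-- Removing a small sub-module. -/
theorem close_of_left (b₁ : BndQ k L w S.X₁) : Close k L w S.X₂ S.X₃ := fun q => by
  obtain ⟨C, hC⟩ := b₁ q
  obtain ⟨C', hC'⟩ := b₁ (q + 1)
  refine ⟨C + C', fun j => ?_⟩
  have q1 := hT_mid_le (k := k) hL hS h₁ h₂ h₃ q j
  have q2 := hT_right_le (k := k) hL hS h₁ h₂ h₃ q j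
  have := hC j
  have := hC' j
  rw [add_mul]
  omega

/-- Removing a small quotient. -/
theorem close_of_right (b₃ : BndQ k L w S.X₃) : Close k L w S.X₁ S.X₂ := fun q => by
  cases q with
  | zero =>
    obtain ⟨C, hC⟩ := b₃ 0
    refine ⟨C, fun j => ?_⟩
    have q1 := hT_mid_le (k := k) hL hS h₁ h₂ h₃ 0 j
    have q2 := hT_left_zero_le (k := k) hL hS h₁ h₂ h₃ j
    have := hC j
    omega
  | succ q =>
    obtain ⟨C, hC⟩ := b₃ (q + 1)
    obtain ⟨C', hC'⟩ := b₃ q
    refine ⟨C + C', fun j => ?_⟩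
    have q1 := hT_mid_le (k := k) hL hS h₁ h₂ h₃ (q + 1) j
    have q2 := hT_left_succ_le (k := k) hL hS h₁ h₂ h₃ q j
    have := hC j
    have := hC' j
    rw [add_mul]
    omega

end ShortExact

include hL in
omit [X.Over (Spec (CommRingCat.of k))] [IsProper (X ↘ Spec (CommRingCat.of k))] in
lemma exists_factor [IsLocallyNoetherian X] {M N : X.Modules} (f : M ⟶ N) (hM : Coh.IsCoh M)
    (hN : Coh.IsCoh N) :
    ∃ (I : X.Modules) (π : M ⟶ I) (ι : I ⟶ N) (w₁ : kernel.ι f ≫ π = 0) (Q : X.Modules) (c : N ⟶ Q)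
      (w₂ : ι ≫ c = 0), (ShortComplex.mk (kernel.ι f) π w₁).ShortExact ∧
      (ShortComplex.mk ι c w₂).ShortExact ∧ Coh.IsCoh I ∧ Coh.IsCoh Q ∧ Coh.IsCoh (kernel f) ∧
      Nonempty (cokernel f ≅ Q) := by
  have := hM.1
  have := hN.1
  have hK₀ : Coh.IsCoh (kernel f) := QCohMod.isCoh_kernel f hM
  have := hK₀.1
  have hI : Coh.IsCoh (cokernel (kernel.ι f)) := QCohMod.isCoh_cokernel (kernel.ι f) hM
  have := hI.1
  let ι : cokernel (kernel.ι f) ⟶ N := cokernel.desc (kernel.ι f) f (kernel.condition f)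
  have : Mono ι := inferInstanceAs (Mono (Abelian.factorThruCoimage f))
  exact ⟨_, cokernel.π (kernel.ι f), ι, cokernel.condition _, _, cokernel.π ι, cokernel.condition _,
    { exact := ShortComplex.exact_of_g_is_cokernel _ (cokernelIsCokernel (kernel.ι f)) },
    CohTwo.cokerSeq_shortExact ι, hI, QCohMod.isCoh_cokernel ι hN, hK₀,
    ⟨cokernelIsoOfEq (cokernel.π_desc (kernel.ι f) f (kernel.condition f)).symm ≪≫
      cokernelEpiComp (cokernel.π (kernel.ι f)) ι⟩⟩

include hL in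
/-- A morphism with small kernel and cokernel. -/
theorem close_of_hom {M N : X.Modules} (f : M ⟶ N) (hM : Coh.IsCoh M) (hN : Coh.IsCoh N)
    (bK : BndQ k L w (kernel f)) (bQ : BndQ k L w (cokernel f)) : Close k L w M N := by
  have : IsNoetherian X := isNoetherian k
  obtain ⟨I, π, ι, w₁, Q, c, w₂, s1, s2, hI, hQ, hK, ⟨e⟩⟩ := exists_factor hL f hM hN
  have c1 := close_of_left (k := k) (w := w) hL s1 hK hM hI bK
  have c2 := close_of_right (k := k) (w := w) hL s2 hI hN hQ (bndQ_iso e bQ)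
  exact c1.trans c2

/-- Summing increments of size `O(j^r)`. -/
lemma exists_bound_of_step (e : ℕ → ℕ) (C r : ℕ) (he : ∀ j, e (j + 1) ≤ e j + C * (j + 2) ^ r) :
    ∃ C', ∀ j, e j ≤ C' * (j + 1) ^ (r + 1) := by
  refine ⟨e 0 + C, fun j => ?_⟩
  induction j with
  | zero => simp
  | succ j ih =>
    have h1 : (j + 1) ^ (r + 1) ≤ (j + 2) ^ r * (j + 1) := by
      rw [pow_succ]
      exact Nat.mul_le_mul_right _ (Nat.pow_le_pow_left (by omega) r)
    have h2 : (j + 2) ^ (r + 1) = (j + 2) ^ r * (j + 1) + (j + 2) ^ r := by ring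
    calc e (j + 1) ≤ e j + C * (j + 2) ^ r := he j
      _ ≤ (e 0 + C) * ((j + 2) ^ r * (j + 1)) + (e 0 + C) * (j + 2) ^ r :=
        Nat.add_le_add (ih.trans (Nat.mul_le_mul_left _ h1))
          (Nat.mul_le_mul_right _ (Nat.le_add_left _ _))
      _ = (e 0 + C) * (j + 1 + 1) ^ (r + 1) := by rw [← mul_add, ← h2]

lemma topologicalKrullDim_le_of_lt {Z : Type u} [TopologicalSpace Z] {r : ℕ}
    (hd : topologicalKrullDim Z < ((r + 1 : ℕ) : WithBot ℕ∞)) :
    topologicalKrullDim Z ≤ (r : WithBot ℕ∞) := by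
  revert hd
  generalize topologicalKrullDim Z = d
  intro hd
  match d with
  | ⊥ => exact bot_le
  | (⊤ : ℕ∞) =>
    exact absurd (WithBot.coe_lt_coe.mp hd) (not_lt.mpr le_top)
  | ((m : ℕ) : ℕ∞) =>
    have : (m : ℕ∞) < ((r + 1 : ℕ) : ℕ∞) := WithBot.coe_lt_coe.mp hd
    have h' : m ≤ r := Nat.lt_succ_iff.mp (by exact_mod_cast this)
    exact WithBot.coe_le_coe.mpr (by exact_mod_cast h')

lemma eq_empty_of_dim_lt_zero {Z : Set X}
    (hd : topologicalKrullDim Z < ((0 : ℕ) : WithBot ℕ∞)) : Z = ∅ := by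
  by_contra hne
  have : Nonempty Z := Set.nonempty_coe_sort.mpr (Set.nonempty_iff_ne_empty.mpr hne)
  have : Nonempty (IrreducibleCloseds ↑Z) :=
    ⟨⟨closure {Classical.arbitrary Z}, isIrreducible_singleton.closure, isClosed_closure⟩⟩
  exact not_le.mpr hd (by
    rw [Nat.cast_zero]
    exact Order.krullDim_nonneg)

include hL in
/-- The integral case: compare consecutive twists with sections avoiding the generic point. -/
theorem exists_step {A : X.Modules} (hA : CohB1.IsAmple A) {F : X.Modules} (hF : Coh.IsCoh F) (ξ : X)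
    (hsmall : ∀ G : X.Modules, Coh.IsCoh G → CohB1.support G ⊆ CohB1.support F →
      ξ ∉ CohB1.support G → BndQ k L w G) :
    ∀ q : ℕ, ∃ D : ℕ, ∀ j, hT k L F q (j + 1) ≤ hT k L F q j + D * (w j + w (j + 1)) := by
  have hN : IsNoetherian X := isNoetherian k
  have hLc := isCoh_of_isInvertible hL
  have hOc := isCoh_of_isInvertible (EulerDeg.isInvertible_structureModule X)
  have := hLc.1
  have := hOc.1
  obtain ⟨p₁, hp₁⟩ := Chow.exists_isGloballyGenerated_twist hA L hLc.2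
  obtain ⟨p₂, hp₂⟩ := Chow.exists_isGloballyGenerated_twist hA (Coh.structureModule X) hOc.2
  let P := CohB1.tensorPow A (p₁ + p₂)
  let C := CohB1.tensorMod (Coh.structureModule X) P
  let B := CohB1.tensorMod L P
  have hP : PicF.IsInvertible P := isInvertible_tensorPow hA.1 _
  have hB : PicF.IsInvertible B := isInvertible_tensorMod hL hP
  have hC : PicF.IsInvertible C :=
    isInvertible_tensorMod (EulerDeg.isInvertible_structureModule X) hP
  obtain ⟨b, hb⟩ := VarietyBC.GGen.exists_mem_gloc hB (hp₁ _ (Nat.le_add_right _ _)) ξ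
  obtain ⟨c, hc⟩ := VarietyBC.GGen.exists_mem_gloc hC (hp₂ _ (Nat.le_add_left _ _)) ξ
  have := hF.1
  have key : ∀ (M : X.Modules) (t : Γ(M, (⊤ : X.Opens))), PicF.IsInvertible M → ξ ∈ gloc t →
      Close k L w F (CohB1.tensorMod F M) := fun M t hM ht => by
    have hFM : Coh.IsCoh (CohB1.tensorMod F M) := RefRank.isCoh_tensorMod hF (isCoh_of_isInvertible hM)
    have := hFM.1
    refine close_of_hom hL (mulSec t F) hF hFM ?_ ?_
    · exact hsmall _ (QCohMod.isCoh_kernel _ hF) (CohTwo.support_subset_of_mono (kernel.ι _))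
        fun hm => support_kernel_mulSec_subset t F hm ht
    · refine hsmall _ (QCohMod.isCoh_cokernel _ hFM) (fun x hx => ?_)
        fun hm => support_cokernel_mulSec_subset t F hm ht
      have := (isCoh_of_isInvertible hM).1
      have hx' : x ∈ CohB1.support (CohB1.tensorMod F M) :=
        CohTwo.support_subset_of_epi (cokernel.π (mulSec t F)) hx
      rw [Groth.QCohMod.support_tensorMod F M hF.2 (isCoh_of_isInvertible hM).2] at hx'
      exact hx'.1
  intro q
  obtain ⟨D₁, hD₁⟩ := key B b hB hb q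
  obtain ⟨D₂, hD₂⟩ := key C c hC hc q
  refine ⟨D₁ + D₂, fun j => ?_⟩
  let T := CohB1.tensorPow L j
  have e : Nonempty (CohB1.tensorMod (CohB1.tensorMod F C) (CohB1.tensorPow L (j + 1)) ≅
      CohB1.tensorMod (CohB1.tensorMod F B) T) :=
    ⟨(tensor_assoc F C _).some ≪≫ (tensor_congr ⟨Iso.refl F⟩
      ⟨(tensor_comm C _).some ≪≫ (tensor_assoc T L C).some ≪≫ (tensor_congr ⟨Iso.refl T⟩
        (tensor_congr ⟨Iso.refl L⟩ (tensor_one P))).some ≪≫ (tensor_comm T B).some⟩).some ≪≫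
      (tensor_assoc F B T).some.symm⟩
  have e' : hT k L (CohB1.tensorMod F C) q (j + 1) = hT k L (CohB1.tensorMod F B) q j :=
    h_congr k e.some q
  have := (hD₁ j).2
  have := (hD₂ (j + 1)).1
  have h3 : (D₁ + D₂) * (w j + w (j + 1)) =
      D₁ * w j + D₁ * w (j + 1) + (D₂ * w j + D₂ * w (j + 1)) := by ring
  omega

include hL in
/-- `h^q(F ⊗ L^j) = O(j^{dim F})`. -/
theorem bndQ_of_dim {A : X.Modules} (hA : CohB1.IsAmple A) :
    ∀ (r : ℕ) {F : X.Modules}, Coh.IsCoh F → topologicalKrullDim (CohB1.support F) ≤ (r : ℕ) →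
      BndQ k L (fun j => (j + 1) ^ r) F := by
  have hN : IsNoetherian X := isNoetherian k
  intro r
  induction r using Nat.strong_induction_on with
  | _ r IH =>
  intro F₀ hF₀ hd
  refine CohTwo.coh_induction (BndQ k L (fun j => (j + 1) ^ r)) (fun _ _ e b => bndQ_iso e.some b) (fun _ h => bndQ_isZero h)
    (fun S hS a b c p q => bndQ_mid hL hS a b c p q) (CohB1.support F₀) ?_
    (CohTwo.isClosed_support F₀ hF₀) F₀ hF₀ subset_rfl
  intro Y ξ hY hYF G hG hkill hsmall
  have := hG.1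
  obtain rfl : Y = ⟨closure {ξ}, isClosed_closure⟩ := Closeds.ext hY
  have hGs : CohB1.support G ⊆ closure {ξ} := hkill.support_subset.trans (by
    rw [Scheme.IdealSheafData.coe_support_vanishingIdeal]; rfl)
  have hZd : topologicalKrullDim (closure ({ξ} : Set X)) ≤ (r : ℕ) :=
    (LocCohTransform.topologicalKrullDim_mono hYF).trans hd
  have hlt : ∀ H : X.Modules, Coh.IsCoh H → CohB1.support H ⊆ CohB1.support G → ξ ∉ CohB1.support H →
      topologicalKrullDim (CohB1.support H) < ((r : ℕ) : WithBot ℕ∞) := fun H hH hHs hξH =>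
    lt_of_lt_of_le (LocCohTransform.topologicalKrullDim_lt_of_ssubset (hHs.trans hGs)
      (fun h => hξH (h (subset_closure rfl))) (CohTwo.isClosed_support H hH) isClosed_closure
      isIrreducible_singleton.closure
      (lt_of_le_of_lt hZd (WithBot.coe_lt_coe.2 (ENat.natCast_lt_top _)))) hZd
  intro q
  cases r with
  | zero =>
    obtain ⟨D, hD⟩ := exists_step hL hA hG ξ (k := k) (w := fun _ => 0) (fun H hH hHs hξH => bndQ_isZero (k := k)
      ((QCohMod.isZero_iff_support_eq_empty _).2 (eq_empty_of_dim_lt_zero (hlt H hH hHs hξH)))) q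
    refine ⟨hT k L G q 0, fun j => ?_⟩
    simp only [pow_zero, mul_one]
    induction j with
    | zero => exact le_rfl
    | succ j ih => exact ((hD j).trans_eq (by simp)).trans ih
  | succ s =>
    obtain ⟨D, hD⟩ := exists_step hL hA hG ξ (w := fun j => (j + 1) ^ s) (fun H hH hHs hξH =>
      IH s (Nat.lt_succ_self s) hH (topologicalKrullDim_le_of_lt (hlt H hH hHs hξH))) q
    refine exists_bound_of_step (fun j => hT k L G q j) (2 * D) s fun j => (hD j).trans ?_
    have : (j + 1) ^ s ≤ (j + 2) ^ s := Nat.pow_le_pow_left (by omega) s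
    have h4 := Nat.mul_le_mul_left D this
    change _ + D * ((j + 1) ^ s + (j + 1 + 1) ^ s) ≤ _ + 2 * D * (j + 2) ^ s
    rw [show j + 1 + 1 = j + 2 from rfl, mul_add, mul_assoc]
    omega

end Groth.Variety2.Growth
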