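import Groth.Agent.Variety2.Growth.Avoid
import Groth.Agent.DerivedCoh.KFlat.SchemeStalk

/-!
# Combinations of sections avoiding finitely many points
-/

set_option autoImplicit false

universe u v

open CategoryTheory CategoryTheory.Limits AlgebraicGeometry TopologicalSpace Opposite

noncomputable section

namespace Groth.Variety2.Growth

open Groth.PicAux Groth.HilbStab Groth.PropsBasic.Ample Groth.Inter

variable {X : Scheme.{u}}

/-- Some combination of generating sections is nonvanishing at finitely many prescribed points, when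
there are infinitely many coefficients with invertible differences. -/
theorem exists_mem_gloc_comb {A : Type v} [CommRing A] (g : A →+* Γ(X, (⊤ : X.Opens))) {R : Set A}
    (hR : R.Infinite) (hRu : ∀ a ∈ R, ∀ b ∈ R, a ≠ b → IsUnit (a - b))
    {H : X.Modules} (hH : PicF.IsInvertible H) {ι : Type} [Fintype ι] [DecidableEq ι]
    (σ : ι → Γ(H, (⊤ : X.Opens))) (hgen : ∀ x : X, ∃ i, x ∈ gloc (σ i)) {S : Set X} (hS : S.Finite) :
    ∃ a : ι → A, ∀ x ∈ S, x ∈ gloc (∑ i, g (a i) • σ i) := by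
  refine Set.Finite.induction_on S hS ⟨0, by simp⟩ ?_
  intro x S _ hS' ⟨a₁, ht₁⟩
  let t₁ : Γ(H, (⊤ : X.Opens)) := ∑ i, g (a₁ i) • σ i
  by_cases hx : x ∈ gloc t₁
  · exact ⟨a₁, by rintro y (rfl | hy); exacts [hx, ht₁ y hy]⟩
  obtain ⟨i₀, ht₂⟩ := hgen x
  let T : A → Γ(H, (⊤ : X.Opens)) := fun c => g c • t₁ + σ i₀
  have key : ∀ y : X, ∃ (U : X.Opens) (hy : y ∈ U) (c₁ c₂ : Γ(X, U)),
      (∀ c : A, y ∈ gloc (T c) ↔
        IsUnit (X.presheaf.germ U y hy (resX X le_top (g c) * c₁ + c₂))) ∧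
      (y ∈ gloc t₁ ↔ IsUnit (X.presheaf.germ U y hy c₁)) ∧
      (y ∈ gloc (σ i₀) ↔ IsUnit (X.presheaf.germ U y hy c₂)) := fun y => by
    obtain ⟨U, e, -, hy, he⟩ := exists_affine_gen_mem hH y
    obtain ⟨c₁, hc₁⟩ := he.exists_coeff le_rfl (res H le_top t₁)
    obtain ⟨c₂, hc₂⟩ := he.exists_coeff le_rfl (res H le_top (σ i₀))
    rw [res_self] at hc₁ hc₂
    have h1 : ∀ (t : Γ(H, (⊤ : X.Opens))) (c : Γ(X, U)), res H le_top t = c • e →
        (y ∈ gloc t ↔ IsUnit (X.presheaf.germ U y hy c)) := fun t c hc => by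
      rw [← Scheme.mem_basicOpen _ c y hy, ← gloc_inf_eq_basicOpen he hc]
      exact ⟨fun h => ⟨h, hy⟩, fun h => h.1⟩
    refine ⟨U, hy, c₁, c₂, fun a => h1 (T a) _ ?_, h1 t₁ c₁ hc₁, h1 (σ i₀) c₂ hc₂⟩
    rw [res_add, res_smul, hc₁, hc₂, smul_smul, ← add_smul]
  have hbad : ∀ y ∈ S, {c : A | c ∈ R ∧ y ∉ gloc (T c)}.Subsingleton := fun y hyS a ha b hb => by
    obtain ⟨U, hy, c₁, c₂, hT, h1, -⟩ := key y
    by_contra hab
    have ha' : ¬ IsUnit (X.presheaf.germ U y hy (resX X le_top (g a) * c₁ + c₂)) := fun h => ha.2 ((hT a).2 h)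
    have hb' : ¬ IsUnit (X.presheaf.germ U y hy (resX X le_top (g b) * c₁ + c₂)) := fun h => hb.2 ((hT b).2 h)
    rw [← mem_nonunits_iff] at ha' hb'
    have hsub := (IsLocalRing.maximalIdeal (X.presheaf.stalk y)).sub_mem ha' hb'
    have hu : IsUnit ((X.presheaf.germ U y hy).hom (resX X le_top (g (a - b)))) :=
      ((hRu a ha.1 b hb.1 hab).map g).map ((X.presheaf.germ U y hy).hom.comp (resX X le_top))
    refine (mem_nonunits_iff.1 hsub) ?_
    rw [← map_sub, show resX X le_top (g a) * c₁ + c₂ - (resX X le_top (g b) * c₁ + c₂) =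
      resX X le_top (g (a - b)) * c₁ by rw [map_sub, map_sub]; ring, map_mul]
    exact hu.mul (h1.1 (ht₁ y hyS))
  obtain ⟨c, hc⟩ : ∃ c : A, ∀ y ∈ S, y ∈ gloc (T c) := by
    by_contra hne
    simp only [not_exists, not_forall] at hne
    refine hR ((hS'.biUnion fun y hy => (hbad y hy).finite).subset fun a ha => ?_)
    obtain ⟨y, hy, h⟩ := hne a
    exact Set.mem_iUnion₂.2 ⟨y, hy, ha, h⟩
  refine ⟨fun i => c * a₁ i + (Pi.single i₀ 1 : ι → A) i, ?_⟩
  have e : (∑ i, g (c * a₁ i + (Pi.single i₀ 1 : ι → A) i) • σ i) = T c := by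
    simp [T, t₁, map_add, map_mul, add_smul, mul_smul, Finset.sum_add_distrib, Finset.smul_sum,
      Pi.single_apply, apply_ite g]
  rw [e]
  rintro y (rfl | hy)
  · obtain ⟨U, hy, c₁, c₂, hT, h1, h2⟩ := key y
    refine (hT c).2 ?_
    rw [map_add]
    by_contra h
    have hc₁ : ¬ IsUnit (X.presheaf.germ U y hy c₁) := fun h' => hx (h1.2 h')
    rw [← mem_nonunits_iff] at h hc₁
    have hm : X.presheaf.germ U y hy (resX X le_top (g c) * c₁) ∈ IsLocalRing.maximalIdeal (X.presheaf.stalk y) := by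
      rw [map_mul]
      exact Ideal.mul_mem_left _ _ hc₁
    have := (IsLocalRing.maximalIdeal (X.presheaf.stalk y)).sub_mem h hm
    rw [add_sub_cancel_left] at this
    exact mem_nonunits_iff.1 this (h2.1 ht₂)
  · exact hc y hy

theorem tensorBi_homOfSection_app (F L : X.Modules) (t : Γ(L, (⊤ : X.Opens))) (W : X.Opens) (b : Γ(F, W))
    (c : Γ(Coh.structureModule X, W)) :
    (((DCoh.tensorBi (X := X)).obj F).map (homOfSection t)).app W (tmulSec b c) =
      (tmulSec b ((homOfSection t).app W c) : Γ(CohB1.tensorMod F L, W)) :=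
  Groth.DerivedCoh.KFlat.tensorMap_tmulSec F (homOfSection t) W b c

theorem mulSec_one_app_bijective (F : X.Modules) (W : X.Opens) :
    Function.Bijective ((mulSec (gsec (𝟙 (Coh.structureModule X))) F).app W) :=
  mulSec_app_bijective _ F (by
    rw [← genLocus_eq_gloc, genLocus_id_structure]
    exact le_top)

theorem tensorBi_comp_mulSec (F L : X.Modules) (t : Γ(L, (⊤ : X.Opens))) (W : X.Opens) (b : Γ(F, W)) :
    (((DCoh.tensorBi (X := X)).obj F).map (homOfSection t)).app W
      ((mulSec (gsec (𝟙 (Coh.structureModule X))) F).app W b) = (mulSec t F).app W b := by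
  rw [mulSec_app, mulSec_app]
  refine (tensorBi_homOfSection_app F L t W b _).trans ?_
  rw [app_res]
  exact congrArg (fun z => tmulSec b (res L le_top z)) (homOfSection_one t)

/-- Tensoring with a section is multiplication by it. -/
theorem mono_tensorBi_homOfSection {F L : X.Modules} {t : Γ(L, (⊤ : X.Opens))} (h : Mono (mulSec t F)) :
    Mono (((DCoh.tensorBi (X := X)).obj F).map (homOfSection t)) := by
  rw [Groth.CohTwo.mono_iff_app_injective] at h ⊢
  intro W a b hab
  obtain ⟨a', rfl⟩ := (mulSec_one_app_bijective F W).2 a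
  obtain ⟨b', rfl⟩ := (mulSec_one_app_bijective F W).2 b
  have := h W (((tensorBi_comp_mulSec F L t W a').symm.trans hab).trans (tensorBi_comp_mulSec F L t W b'))
  rw [this]

end Groth.Variety2.Growth
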