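import Groth.Agent.Variety2.Growth.GenFinite
import Groth.Agent.Misc13.HodgeProper
import Groth.Agent.Inter.NakaiCor
import Groth.Agent.PicAux.EffCartierLine
import Groth.Prelude.Def_EGA4Misc

/-!
# Growth of sections on proper schemes
-/

set_option autoImplicit false

universe u

open CategoryTheory CategoryTheory.Limits AlgebraicGeometry TopologicalSpace Opposite Filter

noncomputable section

namespace Groth.Variety2.Growth

open Groth.PicAux Groth.HilbStab Groth.PropsBasic.Ample Groth.Inter

variable {k : Type u} [Field k] {X : Scheme.{u}} [X.Over (Spec (CommRingCat.of k))]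

omit [X.Over (Spec (CommRingCat.of k))] in
/-- The maximal ideal at the image of the generic point kills the stalk of the direct image. -/
theorem smul_push_structure_eq_zero {Z : Scheme.{u}} [IsIntegral Z] (ρ : Z ⟶ X) {ξ : X}
    (hξ : ρ (genericPoint Z) = ξ) :
    ∀ a ∈ IsLocalRing.maximalIdeal (X.presheaf.stalk ξ),
      ∀ m : ↑(((Coh.push ρ).obj (Coh.structureModule Z)).presheaf.stalk ξ), a • m = 0 := by
  subst hξ
  intro a ha m
  obtain ⟨V, hV, b, rfl⟩ := TopCat.Presheaf.exists_germ_eq X.presheaf a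
  obtain ⟨U, hU, s, rfl⟩ := Groth.QCohMod.exists_germ _ (ρ (genericPoint Z)) m
  have hW : ρ (genericPoint Z) ∈ V ⊓ U := ⟨hV, hU⟩
  rw [← TopCat.Presheaf.germ_res_apply X.presheaf (homOfLE (inf_le_left : V ⊓ U ≤ V)) _ hW b] at ha ⊢
  rw [← Groth.QCohMod.germ_res ((Coh.push ρ).obj (Coh.structureModule Z)) (inf_le_right : V ⊓ U ≤ U) _ hW s,
    ← Groth.QCohMod.germ_smul]
  set b' := X.presheaf.map (homOfLE (inf_le_left : V ⊓ U ≤ V)).op b
  have hb : ρ.app (V ⊓ U) b' = 0 := by
    refine germ_injective_of_isIntegral _ (U := ρ ⁻¹ᵁ (V ⊓ U)) (genericPoint Z) hW ?_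
    rw [map_zero, ← Scheme.Hom.germ_stalkMap_apply]
    have hF : IsField (Z.presheaf.stalk (genericPoint Z)) := Field.toIsField Z.functionField
    have h1 : (ρ.stalkMap (genericPoint Z)) (X.presheaf.germ (V ⊓ U) _ hW b') ∈
        IsLocalRing.maximalIdeal (Z.presheaf.stalk (genericPoint Z)) :=
      map_nonunit (ρ.stalkMap (genericPoint Z)).hom _ ha
    rwa [IsLocalRing.isField_iff_maximalIdeal_eq.1 hF, Ideal.mem_bot] at h1
  refine (congrArg _ ?_).trans (map_zero _)
  change (show Γ(Z, ρ ⁻¹ᵁ (V ⊓ U)) from ρ.app (V ⊓ U) b') •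
    (show Γ(Coh.structureModule Z, ρ ⁻¹ᵁ (V ⊓ U)) from _) = 0
  rw [hb, zero_smul]

variable [IsProper (X ↘ Spec (CommRingCat.of k))]

/-- `h⁰(F ⊗ L^j) = O(j^{dim F})` on any proper scheme. -/
theorem bnd_of_dim_proper {L : X.Modules} (hL : PicF.IsInvertible L) (r : ℕ) {F₀ : X.Modules}
    (hF₀ : Coh.IsCoh F₀) (hd : topologicalKrullDim (CohB1.support F₀) ≤ (r : ℕ)) : Inter.Bnd k L r F₀ := by
  have hN : IsNoetherian X := isNoetherian k
  refine CohTwo.coh_induction (Inter.Bnd k L r) (fun _ _ e h => bnd_iso k e.some h) (fun _ h => bnd_isZero k h)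
    (fun S hS a b c p q => bnd_ext k hL hS a b c p q) (CohB1.support F₀) ?_
    (CohTwo.isClosed_support F₀ hF₀) F₀ hF₀ subset_rfl
  intro Y ξ hY hYF G hG hkill hsmall
  obtain rfl : Y = ⟨closure {ξ}, isClosed_closure⟩ := Closeds.ext hY
  obtain ⟨Z, iO, iP, iI, ρ, A, hρp, hρ, hA, hdim, hρξ⟩ := Misc13.HodgeProper.exists_model k ξ
  have hN' : IsNoetherian Z := isNoetherian k
  have hOc := isCoh_of_isInvertible (EulerDeg.isInvertible_structureModule Z)
  let P := (Coh.push ρ).obj (Coh.structureModule Z)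
  have hPc : Coh.IsCoh P := isCoh_push_proper ρ hOc
  have hPs : CohB1.support P ⊆ closure ({ξ} : Set X) := fun x hx => by
    obtain ⟨z, -, rfl⟩ := support_push_subset' ρ (Coh.structureModule Z)
      (CohTwo.isClosed_support _ hOc) hx
    exact hρξ ▸ ((genericPoint_specializes z).map ρ.continuous).mem_closure
  have hne : Nontrivial ↑(P.presheaf.stalk ξ) :=
    not_subsingleton_iff_nontrivial.1
      (hρξ ▸ Misc13.HodgeProper.mem_support_push_structure ρ (genericPoint Z))
  have hPb : Inter.Bnd k L r P := by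
    obtain ⟨C, hC⟩ := bnd_of_dim k hA (PicAux.isInvertible_pullback ρ hL) r hOc
      ((topologicalKrullDim_subspace_le Z _).trans
        (hdim.le.trans ((LocCohTransform.topologicalKrullDim_mono hYF).trans hd)))
    refine ⟨C, fun j => ?_⟩
    obtain ⟨e, -⟩ := PnCoh.exists_projectionFormula ρ (Coh.structureModule Z) (isInvertible_tensorPow hL j)
    have e1 : h k (CohB1.tensorMod P (CohB1.tensorPow L j)) 0 =
        h k (CohB1.tensorMod (Coh.structureModule Z)
          (CohB1.tensorPow ((Scheme.Modules.pullback ρ).obj L) j)) 0 :=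
      (h_congr k e 0).trans ((h_push_zero (k := k) ρ hρ _).trans
        (h_congr k (tensor_congr ⟨Iso.refl _⟩ (pullback_tensorPow ρ L j)).some 0))
    exact e1.trans_le (hC j)
  have := hG.1
  refine CohTwo.step_two (Inter.Bnd k L r) (fun _ h => bnd_isZero k h)
    (fun S hS a b c => ⟨fun p _ => ?_, fun p q => bnd_ext k hL hS a b c p q⟩) (fun F' d hd hF' hP => ?_)
    (Y := closure ({ξ} : Set X)) hsmall hPc hPb hPs (smul_push_structure_eq_zero ρ hρξ) hG ?_
    (fun a ha m => hkill.stalk_maximalIdeal (Y := ⟨closure {ξ}, isClosed_closure⟩) rfl a ha m)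
  · have := hS.mono_f
    exact bnd_sub k hL S.f b p
  · have : Mono (Sigma.ι (fun _ : Fin d => F') ⟨0, hd⟩) := inferInstance
    exact bnd_sub k hL (Sigma.ι (fun _ : Fin d => F') ⟨0, hd⟩) (CohTwo.isCoh_powMod hF' d) hP
  · exact hkill.support_subset.trans (by
      rw [Scheme.IdealSheafData.coe_support_vanishingIdeal]; rfl)

/-- The bound with exponent `d - 1`. -/
theorem exists_bound_lt {L : X.Modules} (hL : PicF.IsInvertible L) {d : ℕ} {Q : X.Modules}
    (hQ : Coh.IsCoh Q) (hd : topologicalKrullDim (CohB1.support Q) < ((d : ℕ) : WithBot ℕ∞)) :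
    ∃ C : ℕ, ∀ j, h k (CohB1.tensorMod Q (CohB1.tensorPow L j)) 0 ≤ C * wgt d j := by
  cases d with
  | zero =>
    have := hQ.1
    have hz : IsZero Q := (QCohMod.isZero_iff_support_eq_empty _).2 (eq_empty_of_dim_lt_zero hd)
    exact ⟨0, fun j => by rw [← hT, hT_isZero k hz]; exact Nat.zero_le _⟩
  | succ e => exact bnd_of_dim_proper hL e hQ (topologicalKrullDim_le_of_lt hd)

/-- Big growth beats the weight. -/
theorem exists_pos_of_growth {u : ℕ → ℕ} {d C : ℕ} {c : ℝ} (hc : 0 < c)
    (hu : ∀ᶠ n : ℕ in atTop, c * (n : ℝ) ^ d < (u n : ℝ)) :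
    ∀ᶠ n : ℕ in atTop, 0 < n ∧ C * wgt d n < u n := by
  have ht := wgt_div_tendsto d (C : ℝ)
  filter_upwards [hu, ht.eventually (Iio_mem_nhds hc), eventually_gt_atTop 0] with n h1 h2 hn
  have hn' : (0 : ℝ) < (n : ℝ) ^ d := by
    have : (0 : ℝ) < n := by exact_mod_cast hn
    positivity
  have h3 : (C : ℝ) * wgt d n < c * (n : ℝ) ^ d := (div_lt_iff₀ hn').1 h2
  exact ⟨hn, by exact_mod_cast h3.trans h1⟩

/-- Big modules have sections vanishing on a given small closed subscheme. -/
theorem exists_section_idealMod {d : ℕ} {L : X.Modules} (hL : PicF.IsInvertible L)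
    (hbig : ∃ c : ℝ, 0 < c ∧ ∀ᶠ n : ℕ in atTop,
      c * (n : ℝ) ^ d < (Module.finrank k (Coh.HH X (CohB1.tensorPow L n) 0) : ℝ))
    (Z : X.IdealSheafData) (hZ : topologicalKrullDim (Z.support : Set X) < d) :
    ∃ m : ℕ, 0 < m ∧
      Nontrivial (Coh.HH X (CohB1.tensorMod (ClSub.idealMod Z) (CohB1.tensorPow L m)) 0) := by
  have hN : IsNoetherian X := isNoetherian k
  obtain ⟨c, hc, hev⟩ := hbig
  obtain ⟨hQc, hQs⟩ := Inter.support_quotMod k Z
  obtain ⟨C, hC⟩ := exists_bound_lt (k := k) hL hQc (d := d) (hQs ▸ hZ)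
  obtain ⟨m, hm, hlt⟩ := (exists_pos_of_growth (C := C) hc hev).exists
  refine ⟨m, hm, not_subsingleton_iff_nontrivial.1 fun hs => ?_⟩
  have hI : Coh.IsCoh (ClSub.idealMod Z) := by
    have := hQc.1
    exact QCohMod.isCoh_kernel (ClSub.toSubscheme Z)
      (isCoh_of_isInvertible (EulerDeg.isInvertible_structureModule X))
  have hO := isCoh_of_isInvertible (EulerDeg.isInvertible_structureModule X)
  have hP := isInvertible_tensorPow hL m
  have h1 := h_mid_le (k := k) (PicAux.shortExact_idealMod_twist Z hP)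
    (RefRank.isCoh_tensorMod hI (isCoh_of_isInvertible hP))
    (RefRank.isCoh_tensorMod hO (isCoh_of_isInvertible hP))
    (RefRank.isCoh_tensorMod hQc (isCoh_of_isInvertible hP)) 0
  have h0 : h k (CohB1.tensorMod (ClSub.idealMod Z) (CohB1.tensorPow L m)) 0 = 0 := by
    haveI := hs
    exact Module.finrank_zero_of_subsingleton
  have e : h k (CohB1.tensorMod (Coh.structureModule X) (CohB1.tensorPow L m)) 0 =
      h k (CohB1.tensorPow L m) 0 := h_congr k (tensor_one _).some 0
  have h2 := hC m
  change h k (CohB1.tensorMod (Coh.structureModule X) (CohB1.tensorPow L m)) 0 ≤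
    h k (CohB1.tensorMod (ClSub.idealMod Z) (CohB1.tensorPow L m)) 0 +
      h k (CohB1.tensorMod (ClSub.quotMod Z) (CohB1.tensorPow L m)) 0 at h1
  rw [h0, e, Nat.zero_add] at h1
  change C * wgt d m < h k (CohB1.tensorPow L m) 0 at hlt
  omega

omit [IsProper (X ↘ Spec (CommRingCat.of k))] in
/-- A dominant morphism gives an injection `O_X → f_* O_Y`. -/
theorem exists_mono_unit [IsIntegral X] {Y : Scheme.{u}} [IsIntegral Y] (f : Y ⟶ X)
    (hdom : f (genericPoint Y) = genericPoint X) :
    ∃ φ : Coh.structureModule X ⟶ (Scheme.Modules.pushforward f).obj (Coh.structureModule Y), Mono φ := by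
  let P := (Scheme.Modules.pushforward f).obj (Coh.structureModule Y)
  let φ : Coh.structureModule X ⟶ P := homOfSection (show Γ(P, ⊤) from (1 : Γ(Y, ⊤)))
  refine ⟨φ, (QCohMod.mono_iff_stalk φ).2 fun x => (injective_iff_map_eq_zero _).2 fun t ht => ?_⟩
  obtain ⟨U, hU, s, rfl⟩ := Groth.QCohMod.exists_germ (Coh.structureModule X) x t
  rw [Groth.QCohMod.stalk_map_germ φ x hU s] at ht
  obtain ⟨W, hW, i₁, i₂, he⟩ := TopCat.Presheaf.germ_eq P.presheaf x hU hU _ 0
    (ht.trans (map_zero _).symm)
  have he' : φ.app W (res (Coh.structureModule X) i₁.le s) = 0 := by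
    rw [app_res]
    exact he.trans (map_zero _)
  have hz : (show Γ(X, W) from res (Coh.structureModule X) i₁.le s) = 0 := by
    have : Nonempty W := ⟨⟨x, hW⟩⟩
    have hξ : genericPoint X ∈ W := ((genericPoint_spec X).mem_open_set_iff W.2).2 ⟨x, trivial, hW⟩
    refine germ_injective_of_isIntegral _ (U := W) (genericPoint X) hξ ?_
    rw [map_zero]
    have hη : genericPoint Y ∈ f ⁻¹ᵁ W := by rw [Scheme.Hom.mem_preimage, hdom]; exact hξ
    have h1 : f.app W (show Γ(X, W) from res (Coh.structureModule X) i₁.le s) = 0 := by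
      rw [hom_structure_apply, homOfSection_one] at he'
      have h2 : f.app W (show Γ(X, W) from res (Coh.structureModule X) i₁.le s) *
          Y.presheaf.map (homOfLE (f.preimage_mono (le_top : W ≤ ⊤))).op 1 = 0 := he'
      rwa [map_one, mul_one] at h2
    have h3 : X.presheaf.germ W (f (genericPoint Y)) hη
        (show Γ(X, W) from res (Coh.structureModule X) i₁.le s) = 0 := by
      have hFX : IsField (X.presheaf.stalk (f (genericPoint Y))) :=
        hdom ▸ Field.toIsField X.functionField
      letI := hFX.toField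
      refine (f.stalkMap (genericPoint Y)).hom.injective ?_
      rw [map_zero]
      refine (Scheme.Hom.germ_stalkMap_apply f W (genericPoint Y) hη _).trans ?_
      rw [h1, map_zero]
    have : ∀ (y : X) (hy : y ∈ W), f (genericPoint Y) = y →
        X.presheaf.germ W y hy (show Γ(X, W) from res (Coh.structureModule X) i₁.le s) = 0 := by
      rintro y hy rfl
      exact h3
    exact this _ hξ hdom
  rw [← Groth.QCohMod.germ_res (Coh.structureModule X) i₁.le x hW s]
  exact (congrArg (Groth.QCohMod.germ (Coh.structureModule X) x hW) hz).trans (map_zero _)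

/-- Bigness is a birational invariant. -/
theorem big_iff_pullback [IsIntegral X] {Y : Scheme.{u}} [Y.Over (Spec (CommRingCat.of k))]
    [IsProper (Y ↘ Spec (CommRingCat.of k))] [IsIntegral Y] (f : Y ⟶ X)
    (hf : f ≫ (X ↘ Spec (CommRingCat.of k)) = Y ↘ Spec (CommRingCat.of k)) (hbir : RadPt.IsBirational f)
    {d : ℕ} (hd : topologicalKrullDim X = d) {L : X.Modules} (hL : PicF.IsInvertible L) :
    (∃ c : ℝ, 0 < c ∧ ∀ᶠ n : ℕ in atTop,
        c * (n : ℝ) ^ d < (Module.finrank k (Coh.HH X (CohB1.tensorPow L n) 0) : ℝ)) ↔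
      (∃ c : ℝ, 0 < c ∧ ∀ᶠ n : ℕ in atTop,
        c * (n : ℝ) ^ d < (Module.finrank k (Coh.HH Y
          (CohB1.tensorPow ((Scheme.Modules.pullback f).obj L) n) 0) : ℝ)) := by
  have hN : IsNoetherian X := isNoetherian k
  have : IsProper f := by
    have : IsProper (f ≫ (X ↘ Spec (CommRingCat.of k))) := hf ▸ inferInstance
    exact IsProper.of_comp f (X ↘ Spec (CommRingCat.of k))
  have hgY : genericPoint Y ∈ genericPoints Y := by
    change closure {genericPoint Y} ∈ irreducibleComponents Y
    rw [genericPoint_closure, irreducibleComponents_eq_singleton]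
    exact Set.mem_singleton _
  have hdom : f (genericPoint Y) = genericPoint X := by
    have h1 : closure ({f (genericPoint Y)} : Set X) ∈ irreducibleComponents X := hbir.1.1 hgY
    rw [irreducibleComponents_eq_singleton, Set.mem_singleton_iff] at h1
    exact IsGenericPoint.eq (S := Set.univ) h1 (genericPoint_spec X)
  have hb : Function.Bijective (f.residueFieldMap (genericPoint Y)).hom :=
    (hbir.2 _ (hbir.1.1 hgY)).2 _ rfl
  have hres : f.residueDegree (genericPoint Y) = 1 := by
    letI := (f.residueFieldMap (genericPoint Y)).hom.toAlgebra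
    exact Module.finrank_of_bijective_algebraMap hb
  have hu : ∀ x : Y, f x = f (genericPoint Y) → x = genericPoint Y :=
    eq_genericPoint_of_apply f hf hd hdom (by rw [hres]; exact one_pos)
  let P := (Scheme.Modules.pushforward f).obj (Coh.structureModule Y)
  have hPc : Coh.IsCoh P :=
    isCoh_push_proper f (isCoh_of_isInvertible (EulerDeg.isInvertible_structureModule Y))
  have hr : Module.finrank (X.presheaf.stalk (genericPoint X)) (P.presheaf.stalk (genericPoint X)) = 1 :=
    (Curves1.RR.finrank_push_stalk f f.isClosedMap hu hdom).trans hres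
  obtain ⟨φ, hφ⟩ := exists_mono_unit f hdom
  have hOc := isCoh_of_isInvertible (EulerDeg.isInvertible_structureModule X)
  have := hOc.1
  have := hPc.1
  have hQc : Coh.IsCoh (cokernel φ) := QCohMod.isCoh_cokernel φ hPc
  have hξQ : genericPoint X ∉ CohB1.support (cokernel φ) := by
    letI : Field (X.presheaf.stalk (genericPoint X)) := inferInstanceAs (Field X.functionField)
    let ψ := RefHull.stalkMapₗ φ (genericPoint X)
    have hinj : Function.Injective ψ := (QCohMod.mono_iff_stalk φ).1 hφ (genericPoint X)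
    haveI : Module.Finite (X.presheaf.stalk (genericPoint X)) (P.presheaf.stalk (genericPoint X)) :=
      Module.finite_of_finrank_eq_succ hr
    haveI : Module.Finite (X.presheaf.stalk (genericPoint X))
        ((Coh.structureModule X).presheaf.stalk (genericPoint X)) :=
      Module.Finite.equiv (RefRank.oneEquiv (genericPoint X))
    have h1 : Module.finrank (X.presheaf.stalk (genericPoint X))
        ((Coh.structureModule X).presheaf.stalk (genericPoint X)) =
        Module.finrank (X.presheaf.stalk (genericPoint X)) (P.presheaf.stalk (genericPoint X)) := by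
      rw [hr, ← (RefRank.oneEquiv (genericPoint X)).finrank_eq]
      exact Module.finrank_self _
    exact KTheory.Devissage.subsingleton_cokernel_stalk φ (genericPoint X)
      ((LinearMap.injective_iff_surjective_of_finrank_eq_finrank h1).1 hinj)
  obtain ⟨C, hC⟩ := exists_bound_lt (k := k) hL hQc (d := d)
    (dim_lt_of_notMem hd (CohTwo.isClosed_support _ hQc) hξQ)
  have key : ∀ n, h k (CohB1.tensorPow L n) 0 ≤
        h k (CohB1.tensorPow ((Scheme.Modules.pullback f).obj L) n) 0 ∧
      h k (CohB1.tensorPow ((Scheme.Modules.pullback f).obj L) n) 0 ≤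
        h k (CohB1.tensorPow L n) 0 + C * wgt d n := fun n => by
    haveI := hφ
    have hS := CohTwo.cokerSeq_shortExact φ
    have h1 := hT_mid_le (k := k) hL hS hOc hPc hQc 0 n
    have h2 := hT_left_zero_le (k := k) hL hS hOc hPc hQc n
    obtain ⟨e, -⟩ := PnCoh.exists_projectionFormula f (Coh.structureModule Y) (isInvertible_tensorPow hL n)
    have e1 : hT k L P 0 n = h k (CohB1.tensorPow ((Scheme.Modules.pullback f).obj L) n) 0 :=
      (h_congr k e 0).trans ((h_push_zero (k := k) f hf _).trans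
        (h_congr k ((tensor_one _).some ≪≫ (pullback_tensorPow f L n).some) 0))
    have e2 : hT k L (Coh.structureModule X) 0 n = h k (CohB1.tensorPow L n) 0 :=
      h_congr k (tensor_one _).some 0
    have e3 := hC n
    change hT k L P 0 n ≤ hT k L (Coh.structureModule X) 0 n +
      h k (CohB1.tensorMod (cokernel φ) (CohB1.tensorPow L n)) 0 at h1
    change hT k L (Coh.structureModule X) 0 n ≤ hT k L P 0 n at h2
    rw [e1, e2] at h1 h2
    omega
  constructor
  · rintro ⟨c, hc, hev⟩
    exact ⟨c, hc, hev.mono fun n hn => hn.trans_le (by exact_mod_cast (key n).1)⟩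
  · rintro ⟨c, hc, hev⟩
    refine ⟨c / 2, by positivity, ?_⟩
    filter_upwards [hev, (wgt_div_tendsto d (C : ℝ)).eventually (Iio_mem_nhds (half_pos hc)),
      eventually_gt_atTop 0] with n h1 h2 hn
    have hn' : (0 : ℝ) < (n : ℝ) ^ d := by
      have : (0 : ℝ) < n := by exact_mod_cast hn
      positivity
    have h3 : (C : ℝ) * wgt d n < c / 2 * (n : ℝ) ^ d := (div_lt_iff₀ hn').1 h2
    have h4 : (h k (CohB1.tensorPow ((Scheme.Modules.pullback f).obj L) n) 0 : ℝ) ≤
        (h k (CohB1.tensorPow L n) 0 : ℝ) + C * wgt d n := by exact_mod_cast (key n).2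
    change _ < (h k (CohB1.tensorPow L n) 0 : ℝ)
    change _ < (h k (CohB1.tensorPow ((Scheme.Modules.pullback f).obj L) n) 0 : ℝ) at h1
    linarith

end Groth.Variety2.Growth
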