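import Groth.Agent.Variety2.Growth.Rank
import Groth.Agent.Curves1.RR.PullDeg
import Groth.Agent.WeilCoh.DimResidue
import Groth.Agent.Inter.PushFormula
import Groth.Agent.Inter.Growth3

/-!
# Pullbacks along generically finite morphisms
-/

set_option autoImplicit false

universe u

open CategoryTheory CategoryTheory.Limits AlgebraicGeometry TopologicalSpace Opposite Filter

noncomputable section

namespace Groth.Variety2.Growth

open Groth.PicAux Groth.HilbStab Groth.PropsBasic.Ample Groth.Inter

variable {k : Type u} [Field k] {X Y : Scheme.{u}} [X.Over (Spec (CommRingCat.of k))]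
  [Y.Over (Spec (CommRingCat.of k))] (f : Y ⟶ X)
  (hf : f ≫ (X ↘ Spec (CommRingCat.of k)) = Y ↘ Spec (CommRingCat.of k))

include hf in
theorem toGlobal_app_top (a : k) :
    f.app ⊤ (Coh.toGlobal (X ↘ Spec (CommRingCat.of k)) a) = Coh.toGlobal (Y ↘ Spec (CommRingCat.of k)) a := by
  rw [← hf]
  rfl

include hf in
/-- `H⁰(X, f_* N) = H⁰(Y, N)`. -/
theorem h_push_zero (N : Y.Modules) :
    h k ((Scheme.Modules.pushforward f).obj N) 0 = h k N 0 := by
  let fX := X ↘ Spec (CommRingCat.of k)
  let fY := Y ↘ Spec (CommRingCat.of k)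
  let M := (Scheme.Modules.pushforward f).obj N
  let e : CohFin.HA fX M 0 ≃+ CohFin.HA fY N 0 :=
    (CohFin.equivSections fX M).trans (CohFin.equivSections fY N).symm
  have hlin : ∀ (a : k) (x : CohFin.HA fX M 0), e (a • x) = a • e x := fun a x => by
    apply (CohFin.equivSections fY N).injective
    rw [CohFin.equivSections_smul]
    simp only [e, AddEquiv.trans_apply]
    refine ((CohFin.equivSections fY N).apply_symm_apply _).trans ?_
    refine Eq.trans ?_ (congrArg (fun z : Γ(N, (⊤ : Y.Opens)) =>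
      (show Γ(Y, ⊤) from Coh.toGlobal fY a) • z)
      ((CohFin.equivSections fY N).apply_symm_apply (CohFin.equivSections fX M x))).symm
    refine (CohFin.equivSections_smul fX M a x).trans ?_
    rw [← toGlobal_app_top f hf a]
    rfl
  exact (e.toLinearEquiv hlin).finrank_eq

variable [IsProper (X ↘ Spec (CommRingCat.of k))] [IsProper (Y ↘ Spec (CommRingCat.of k))]
  [IsIntegral X] [IsIntegral Y]

include hf in
/-- A generically finite dominant morphism has a single point over the generic point. -/
theorem eq_genericPoint_of_apply {d : ℕ} (hd : topologicalKrullDim X = d)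
    (hdom : f (genericPoint Y) = genericPoint X) (hn0 : 0 < f.residueDegree (genericPoint Y))
    (x : Y) (hx : f x = f (genericPoint Y)) : x = genericPoint Y := by
  have : IsProper f := by
    have : IsProper (f ≫ (X ↘ Spec (CommRingCat.of k))) := hf ▸ inferInstance
    exact IsProper.of_comp f (X ↘ Spec (CommRingCat.of k))
  have hu : topologicalKrullDim (closure ({genericPoint X} : Set X)) = d := by
    rw [genericPoint_closure]
    exact (IsHomeomorph.topologicalKrullDim_eq _ (Homeomorph.Set.univ X).isHomeomorph).trans hd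
  rw [Variety2.Dim.dim_closure_singleton] at hu
  have hX : Order.height (genericPoint X) = (d : ℕ∞) := WithBot.coe_inj.1 hu
  have hY : Order.height (genericPoint Y) = (d : ℕ∞) := by
    have h1 := Groth.WeilCoh.height_eq_of_residueDegree_ne_zero f (X ↘ Spec (CommRingCat.of k))
      (Y ↘ Spec (CommRingCat.of k)) hf (genericPoint Y) hn0.ne'
    rw [hdom, hX, ENat.toNat_natCast] at h1
    obtain ⟨m, hm⟩ := ENat.ne_top_iff_exists.1
      (Variety2.Dim.height_ne_top (Y ↘ Spec (CommRingCat.of k)) (genericPoint Y))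
    rw [← hm, ENat.toNat_natCast] at h1
    rw [← hm, h1]
  refine eq_of_dim_closure (n := d) (genericPoint_specializes x).mem_closure ?_ ?_
  · rw [Variety2.Dim.dim_closure_singleton, hY]; exact le_rfl
  · rw [Variety2.Dim.dim_closure_singleton]
    refine WithBot.coe_le_coe.2 ?_
    rw [← hX, ← hdom, ← hx]
    exact height_apply_le f x

include hf in
/-- `h⁰(f^*L^m) = n·h⁰(L^m) + O(m^(d-1))`. -/
theorem isBigO_h0_pullback {A : X.Modules} (hA : CohB1.IsAmple A) {d : ℕ} (hd : topologicalKrullDim X = d)
    (hdom : f (genericPoint Y) = genericPoint X) {n : ℕ} (hn : f.residueDegree (genericPoint Y) = n)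
    (hn0 : 0 < n) {L : X.Modules} (hL : PicF.IsInvertible L) :
    (fun m : ℕ => (Module.finrank k (Coh.HH Y (CohB1.tensorPow ((Scheme.Modules.pullback f).obj L) m) 0) : ℝ) -
        n * Module.finrank k (Coh.HH X (CohB1.tensorPow L m) 0)) =O[atTop]
      (fun m : ℕ => (m : ℝ) ^ (d - 1)) := by
  have hN : IsNoetherian X := isNoetherian k
  have : IsProper f := by
    have : IsProper (f ≫ (X ↘ Spec (CommRingCat.of k))) := hf ▸ inferInstance
    exact IsProper.of_comp f (X ↘ Spec (CommRingCat.of k))
  let O := Coh.structureModule Y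
  let P := (Scheme.Modules.pushforward f).obj O
  have hP : Coh.IsCoh P := isCoh_push_proper f (isCoh_of_isInvertible (EulerDeg.isInvertible_structureModule Y))
  have hu : ∀ x : Y, f x = f (genericPoint Y) → x = genericPoint Y :=
    eq_genericPoint_of_apply f hf hd hdom (hn ▸ hn0)
  have hr : Module.finrank (X.presheaf.stalk (genericPoint X)) (P.presheaf.stalk (genericPoint X)) = n :=
    (Curves1.RR.finrank_push_stalk f f.isClosedMap hu hdom).trans hn
  obtain ⟨C, hC⟩ := close_free (k := k) hA hL hd hP n hr 0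
  have e1 : ∀ m, hT k L P 0 m = h k (CohB1.tensorPow ((Scheme.Modules.pullback f).obj L) m) 0 := fun m => by
    obtain ⟨e, -⟩ := PnCoh.exists_projectionFormula f O (isInvertible_tensorPow hL m)
    exact (h_congr k e 0).trans ((h_push_zero (k := k) f hf _).trans
      (h_congr k ((tensor_one _).some ≪≫ (pullback_tensorPow f L m).some) 0))
  refine Asymptotics.IsBigO.of_bound ((C : ℝ) * 2 ^ (d - 1)) ?_
  filter_upwards [eventually_gt_atTop 0] with m hm
  have hw : wgt d m ≤ 2 ^ (d - 1) * m ^ (d - 1) := by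
    cases d with
    | zero => exact Nat.zero_le _
    | succ e =>
      rw [Nat.add_sub_cancel, ← mul_pow]
      exact Nat.pow_le_pow_left (by omega) e
  obtain ⟨h1, h2⟩ := hC m
  rw [hT_sum hL, e1] at h1 h2
  have e2 : hT k L (Coh.structureModule X) 0 m = h k (CohB1.tensorPow L m) 0 :=
    h_congr k (tensor_one _).some 0
  rw [e2] at h1 h2
  have hw' := Nat.mul_le_mul_left C hw
  have h1' : ((n * h k (CohB1.tensorPow L m) 0 : ℕ) : ℝ) ≤
      (h k (CohB1.tensorPow ((Scheme.Modules.pullback f).obj L) m) 0 : ℝ) + C * (2 ^ (d - 1) * (m : ℝ) ^ (d - 1)) := by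
    exact_mod_cast h1.trans (Nat.add_le_add_left hw' _)
  have h2' : (h k (CohB1.tensorPow ((Scheme.Modules.pullback f).obj L) m) 0 : ℝ) ≤
      ((n * h k (CohB1.tensorPow L m) 0 : ℕ) : ℝ) + C * (2 ^ (d - 1) * (m : ℝ) ^ (d - 1)) := by
    exact_mod_cast h2.trans (Nat.add_le_add_left hw' _)
  rw [Nat.cast_mul] at h1' h2'
  rw [Real.norm_eq_abs, Real.norm_eq_abs, abs_of_nonneg (by positivity : (0 : ℝ) ≤ (m : ℝ) ^ (d - 1)),
    mul_assoc]
  change |(h k _ 0 : ℝ) - n * (h k _ 0 : ℝ)| ≤ _
  exact abs_le.2 ⟨by linarith, by linarith⟩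

end Groth.Variety2.Growth
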