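import Groth.Agent.Variety2.Growth.Fam

/-!
# Continuity of asymptotic cohomology
-/

set_option autoImplicit false

universe u

open CategoryTheory CategoryTheory.Limits AlgebraicGeometry TopologicalSpace Opposite Filter

noncomputable section

namespace Groth.Variety2.Growth

open Groth.PicAux Groth.HilbStab Groth.PropsBasic.Ample Groth.Inter

/-- Upper limits of sequences differing by at most `d_m → K`. -/
theorem limsup_le_add_of_le {u v d : ℕ → ℝ} {K B : ℝ} (hu : ∀ m, 0 ≤ u m)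
    (hvB : ∀ᶠ m in atTop, v m ≤ B) (hd : Tendsto d atTop (nhds K))
    (h : ∀ᶠ m in atTop, u m ≤ v m + d m) : limsup u atTop ≤ limsup v atTop + K := by
  have cu : IsCoboundedUnder (· ≤ ·) atTop u :=
    IsBoundedUnder.isCoboundedUnder_le ⟨0, eventually_map.2 (Eventually.of_forall hu)⟩
  refine le_of_forall_gt_imp_ge_of_dense fun a ha => limsup_le_of_le cu ?_
  obtain ⟨b, hb, hba⟩ := exists_between (show limsup v atTop < a - K by linarith)
  filter_upwards [eventually_lt_of_limsup_lt hb ⟨B, eventually_map.2 hvB⟩,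
    hd.eventually (Iic_mem_nhds (show K < a - b by linarith)), h] with m h1 h2 h3
  have h4 : d m ≤ a - b := h2
  linarith

variable {k : Type u} [Field k] {X : Scheme.{u}} [X.Over (Spec (CommRingCat.of k))]

omit [X.Over (Spec (CommRingCat.of k))] in
theorem nonempty_tensorPow_multiTwist : ∀ (r : ℕ) (L : Fin r → X.Modules) (a : Fin r → ℕ) (m : ℕ),
    Nonempty (CohB1.tensorPow (FGA.multiTwist L a) m ≅ FGA.multiTwist L (m • a))
  | 0, L, a, m => by
    induction m with
    | zero => exact ⟨Iso.refl _⟩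
    | succ m ih => exact ⟨(tensor_congr ih ⟨Iso.refl _⟩).some ≪≫ (tensor_one _).some⟩
  | r + 1, L, a, m => by
    obtain ⟨e⟩ := nonempty_tensorPow_multiTwist r (fun i => L i.succ) (fun i => a i.succ) m
    rw [multiTwist_succ, multiTwist_succ]
    obtain ⟨e1⟩ := Inter.tensorPow_tensorMod' (CohB1.tensorPow (L 0) (a 0))
      (FGA.multiTwist (fun i => L i.succ) fun i => a i.succ) m
    obtain ⟨e2⟩ := Inter.tensorPow_mul' (L 0) (a 0) m
    exact ⟨e1 ≪≫ (tensor_congr ⟨e2 ≪≫ eqToIso (congrArg (CohB1.tensorPow (L 0))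
      (show a 0 * m = (m • a) 0 by simp [mul_comm]))⟩ ⟨e⟩).some⟩

omit [X.Over (Spec (CommRingCat.of k))] in
theorem nonempty_multiTwist_single : ∀ (r : ℕ) (L : Fin r → X.Modules) (a : Fin r → ℕ) (j : Fin r),
    Nonempty (FGA.multiTwist L (a + Pi.single j 1) ≅ CohB1.tensorMod (FGA.multiTwist L a) (L j))
  | 0, _, _, j => j.elim0
  | r + 1, L, a, j => by
    rw [multiTwist_succ, multiTwist_succ]
    cases j using Fin.cases with
    | zero =>
      have e1 : (fun i : Fin r => (a + Pi.single 0 1 : Fin (r + 1) → ℕ) i.succ) = fun i => a i.succ := funext fun i => by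
        simp [Pi.single_eq_of_ne (Fin.succ_ne_zero i)]
      rw [e1]
      obtain ⟨e⟩ := PicAux.tensorPow_add (L 0) (a 0) 1
      exact ⟨(tensor_congr ⟨eqToIso (congrArg (CohB1.tensorPow (L 0))
          (show (a + Pi.single 0 1 : Fin (r + 1) → ℕ) 0 = a 0 + 1 by simp)) ≪≫ e ≪≫
            (tensor_congr ⟨Iso.refl _⟩ (tensor_one (L 0))).some⟩ ⟨Iso.refl _⟩).some ≪≫
        (tensor_assoc _ (L 0) _).some ≪≫ (tensor_congr ⟨Iso.refl _⟩ (tensor_comm _ _)).some ≪≫
        (tensor_assoc _ _ (L 0)).some.symm⟩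
    | succ j =>
      obtain ⟨e⟩ := nonempty_multiTwist_single r (fun i => L i.succ) (fun i => a i.succ) j
      have e1 : (fun i : Fin r => (a + Pi.single j.succ 1 : Fin (r + 1) → ℕ) i.succ) =
          (fun i => a i.succ) + Pi.single j 1 := funext fun i => by
        simp only [Pi.add_apply]
        by_cases h : i = j
        · subst h; simp
        · rw [Pi.single_eq_of_ne h, Pi.single_eq_of_ne (fun hh => h (Fin.succ_injective _ hh))]
      rw [e1]
      exact ⟨(tensor_congr ⟨eqToIso (congrArg (CohB1.tensorPow (L 0))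
        (show (a + Pi.single j.succ 1 : Fin (r + 1) → ℕ) 0 = a 0 by
          simp [Pi.single_eq_of_ne (Fin.succ_ne_zero j).symm]))⟩ ⟨e⟩).some ≪≫
        (tensor_assoc _ _ _).some.symm⟩

variable [IsProper (X ↘ Spec (CommRingCat.of k))] [IsIntegral X]

section General

variable {s : Type} [Fintype s] [DecidableEq s] {T : (s → ℕ) → X.Modules} {G : s → X.Modules}
  (hT : ∀ e, PicF.IsInvertible (T e)) (hG : ∀ t, PicF.IsInvertible (G t))
  (hstep : ∀ e t, Nonempty (T (e + Pi.single t 1) ≅ CohB1.tensorMod (T e) (G t)))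
  {A : X.Modules} (hA : CohB1.IsAmple A) {n : ℕ} (hn : topologicalKrullDim X = n) (q : ℕ)

variable (k) (T) (n) in
/-- The normalised sequence along the ray through `e`. -/
def raySeq (q : ℕ) (e : s → ℕ) (m : ℕ) : ℝ :=
  (hF k T (Coh.structureModule X) q (m • e) : ℝ) * (n.factorial : ℝ) / (m : ℝ) ^ n

omit [IsProper (X ↘ Spec (CommRingCat.of k))] [IsIntegral X] [Fintype s] [DecidableEq s] in
theorem raySeq_nonneg (e : s → ℕ) (m : ℕ) : 0 ≤ raySeq k T n q e m := by
  unfold raySeq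
  positivity

omit [IsProper (X ↘ Spec (CommRingCat.of k))] [IsIntegral X] [Fintype s] [DecidableEq s] in
theorem hhat_eq_limsup_raySeq {M : X.Modules} {e : s → ℕ}
    (h : ∀ m, Nonempty (CohB1.tensorPow M m ≅ T (m • e))) :
    W4c5asymptcohfn.hhat k X n q M = limsup (raySeq k T n q e) atTop := by
  unfold W4c5asymptcohfn.hhat
  refine congrArg (fun u => limsup u atTop) (funext fun m => ?_)
  simp only [raySeq, hF, Growth.h]
  rw [(EulerDeg.hEquiv k ((h m).some ≪≫ (tensor_one _).some.symm) q).finrank_eq]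

lemma tendsto_add_inv_pow (E : ℝ) (d : ℕ) (C : ℝ) :
    Tendsto (fun m : ℕ => C * (E + (m : ℝ)⁻¹) ^ d) atTop (nhds (C * E ^ d)) := by
  have := (((tendsto_inv_atTop_nhds_zero_nat (𝕜 := ℝ)).const_add E).pow d).const_mul C
  rwa [add_zero] at this

include hT hG hstep hA hn in
theorem exists_ray_bound : ∃ C : ℝ, 0 ≤ C ∧ ∀ e : s → ℕ,
    (∀ᶠ m in atTop, raySeq k T n q e m ≤ C * ((∑ t, (e t : ℝ)) + (m : ℝ)⁻¹) ^ n) ∧
    limsup (raySeq k T n q e) atTop ≤ C * (∑ t, (e t : ℝ)) ^ n := by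
  obtain ⟨C, hC⟩ := bndF_of_dim (k := k) hT hG hstep hA n
    (isCoh_of_isInvertible (EulerDeg.isInvertible_structureModule X))
    ((topologicalKrullDim_subspace_le X _).trans hn.le) q
  refine ⟨(C : ℝ) * n.factorial, by positivity, fun e => ?_⟩
  have h1 : ∀ᶠ m in atTop, raySeq k T n q e m ≤
      (C : ℝ) * n.factorial * ((∑ t, (e t : ℝ)) + (m : ℝ)⁻¹) ^ n := by
    filter_upwards [eventually_gt_atTop 0] with m hm
    have hm' : (0 : ℝ) < m := by exact_mod_cast hm
    have h2 : (hF k T (Coh.structureModule X) q (m • e) : ℝ) ≤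
        (C : ℝ) * ((m : ℝ) * (∑ t, (e t : ℝ)) + 1) ^ n := by
      have := hC (m • e)
      simp only [fwgt, Pi.smul_apply, smul_eq_mul, ← Finset.mul_sum] at this
      exact_mod_cast this
    unfold raySeq
    rw [div_le_iff₀ (by positivity)]
    calc (hF k T (Coh.structureModule X) q (m • e) : ℝ) * n.factorial
        ≤ (C : ℝ) * ((m : ℝ) * (∑ t, (e t : ℝ)) + 1) ^ n * n.factorial := by gcongr
      _ = (C : ℝ) * n.factorial * (((∑ t, (e t : ℝ)) + (m : ℝ)⁻¹) * m) ^ n := by
        rw [add_mul, inv_mul_cancel₀ hm'.ne', mul_comm (m : ℝ)]; ring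
      _ = _ := by rw [mul_pow]; ring
  refine ⟨h1, ?_⟩
  have ht := tendsto_add_inv_pow (∑ t, (e t : ℝ)) n ((C : ℝ) * n.factorial)
  rw [← ht.limsup_eq]
  exact limsup_le_limsup h1
    (IsBoundedUnder.isCoboundedUnder_le ⟨0, eventually_map.2 (Eventually.of_forall (raySeq_nonneg q e))⟩)
    ht.isBoundedUnder_le

include hT hG hstep hA hn in
theorem exists_ray_lipschitz : ∃ D : ℝ, 0 ≤ D ∧ ∀ (R : ℕ) (a b : s → ℕ), (∀ u, a u ≤ R) →
    (∀ u, b u ≤ R) → |limsup (raySeq k T n q a) atTop - limsup (raySeq k T n q b) atTop| ≤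
      (if n = 0 then 0 else D * (∑ u, |(a u : ℝ) - b u|) * (R : ℝ) ^ (n - 1)) := by
  obtain ⟨D, hD⟩ := exists_lipschitz (k := k) hT hG hstep hA hn (Coh.structureModule X)
    (isCoh_of_isInvertible (EulerDeg.isInvertible_structureModule X)) q
  obtain ⟨C, hC0, hC⟩ := exists_ray_bound (k := k) hT hG hstep hA hn q
  refine ⟨(D : ℝ) * n.factorial, by positivity, ?_⟩
  suffices H : ∀ (R : ℕ) (a b : s → ℕ), (∀ u, a u ≤ R) → (∀ u, b u ≤ R) →
      limsup (raySeq k T n q a) atTop ≤ limsup (raySeq k T n q b) atTop +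
        (if n = 0 then 0 else (D : ℝ) * n.factorial * (∑ u, |(a u : ℝ) - b u|) * (R : ℝ) ^ (n - 1)) by
    intro R a b ha hb
    have h1 := H R a b ha hb
    have h2 := H R b a hb ha
    simp only [abs_sub_comm ((b _ : ℕ) : ℝ)] at h2
    exact abs_le.2 ⟨by linarith, by linarith⟩
  intro R a b ha hb
  have hB : ∀ᶠ m in atTop, raySeq k T n q b m ≤ C * ((∑ t, (b t : ℝ)) + 1) ^ n := by
    filter_upwards [(hC b).1, eventually_gt_atTop 0] with m hm hm0
    refine hm.trans ?_
    have : (m : ℝ)⁻¹ ≤ 1 := inv_le_one_of_one_le₀ (by exact_mod_cast hm0)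
    gcongr
  have hdist : ∀ u, (((a u - b u) + (b u - a u) : ℕ) : ℝ) = |(a u : ℝ) - b u| := fun u => by
    rcases le_total (a u) (b u) with h | h
    · rw [Nat.sub_eq_zero_of_le h, zero_add, Nat.cast_sub h, abs_of_nonpos (by
        have : (a u : ℝ) ≤ b u := by exact_mod_cast h
        linarith)]
      ring
    · rw [Nat.sub_eq_zero_of_le h, add_zero, Nat.cast_sub h, abs_of_nonneg (by
        have : (b u : ℝ) ≤ a u := by exact_mod_cast h
        linarith)]
  have key : ∀ m : ℕ, (hF k T (Coh.structureModule X) q (m • a) : ℝ) ≤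
      hF k T (Coh.structureModule X) q (m • b) +
        (∑ u, |(a u : ℝ) - b u|) * m * ((D : ℝ) * wgt n (m * R)) := fun m => by
    have h1 := hD (m * R) (m • a) (m • b) (fun u => Nat.mul_le_mul_left m (ha u))
      (fun u => Nat.mul_le_mul_left m (hb u))
    simp only [Pi.smul_apply, smul_eq_mul, ← Nat.mul_sub, ← mul_add, ← Finset.mul_sum] at h1
    have h2 : (hF k T (Coh.structureModule X) q (m • a) : ℝ) ≤
        (hF k T (Coh.structureModule X) q (m • b) : ℝ) +
          (((m * ∑ u, ((a u - b u) + (b u - a u))) * (D * wgt n (m * R)) : ℕ) : ℝ) := by exact_mod_cast h1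
    refine h2.trans_eq ?_
    rw [Nat.cast_mul, Nat.cast_mul, Nat.cast_mul, Nat.cast_sum]
    simp only [hdist]
    ring
  cases n with
  | zero =>
    rw [if_pos rfl]
    refine limsup_le_add_of_le (raySeq_nonneg q a) hB tendsto_const_nhds (Eventually.of_forall fun m => ?_)
    have := key m
    simp only [wgt, Nat.cast_zero, mul_zero, add_zero] at this
    simp only [raySeq, add_zero]
    gcongr
  | succ d =>
    rw [if_neg (Nat.succ_ne_zero d), Nat.add_sub_cancel]
    refine limsup_le_add_of_le (raySeq_nonneg q a) hB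
      (tendsto_add_inv_pow (R : ℝ) d ((D : ℝ) * (d + 1).factorial * ∑ u, |(a u : ℝ) - b u|)) ?_
    filter_upwards [eventually_gt_atTop 0] with m hm
    have hm' : (0 : ℝ) < m := by exact_mod_cast hm
    unfold raySeq
    rw [div_le_iff₀ (by positivity), add_mul, div_mul_cancel₀ _ (by positivity)]
    calc (hF k T (Coh.structureModule X) q (m • a) : ℝ) * (d + 1).factorial
        ≤ ((hF k T (Coh.structureModule X) q (m • b) : ℝ) +
            (∑ u, |(a u : ℝ) - b u|) * m * ((D : ℝ) * wgt (d + 1) (m * R))) * (d + 1).factorial :=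
          mul_le_mul_of_nonneg_right (key m) (by positivity)
      _ = _ := by
        simp only [wgt]
        push_cast
        have : ((m : ℝ) * R + 1) ^ d = ((R : ℝ) + (m : ℝ)⁻¹) ^ d * (m : ℝ) ^ d := by
          rw [← mul_pow, add_mul, inv_mul_cancel₀ hm'.ne', mul_comm (R : ℝ)]
        rw [this]
        ring

end General

/-! ## Integer combinations of line bundles -/

variable {r : ℕ} (L M : Fin r → X.Modules)

/-- The twist with natural exponents for `L` and `M`. -/
def ztw (e : Fin r ⊕ Fin r → ℕ) : X.Modules :=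
  CohB1.tensorMod (FGA.multiTwist L (fun j => e (.inl j))) (FGA.multiTwist M (fun j => e (.inr j)))

/-- The exponents of `ztwist`. -/
def zexp (a : Fin r → ℤ) : Fin r ⊕ Fin r → ℕ := Sum.elim (fun j => (a j).toNat) fun j => (-(a j)).toNat

omit [X.Over (Spec (CommRingCat.of k))] [IsProper (X ↘ Spec (CommRingCat.of k))] [IsIntegral X] in
theorem nonempty_ztw_step (e : Fin r ⊕ Fin r → ℕ) (t : Fin r ⊕ Fin r) :
    Nonempty (ztw L M (e + Pi.single t 1) ≅ CohB1.tensorMod (ztw L M e) (Sum.elim L M t)) := by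
  unfold ztw
  cases t with
  | inl j =>
    have h1 : (fun i => (e + Pi.single (Sum.inl j) 1 : Fin r ⊕ Fin r → ℕ) (Sum.inl i)) =
        (fun i => e (Sum.inl i)) + Pi.single j 1 := funext fun i => by
      by_cases h : i = j
      · subst h; simp
      · simp [h]
    have h2 : (fun i => (e + Pi.single (Sum.inl j) 1 : Fin r ⊕ Fin r → ℕ) (Sum.inr i)) =
        fun i => e (Sum.inr i) := funext fun i => by simp
    rw [h1, h2]
    obtain ⟨e1⟩ := nonempty_multiTwist_single r L (fun i => e (Sum.inl i)) j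
    exact ⟨(tensor_congr ⟨e1⟩ ⟨Iso.refl _⟩).some ≪≫ (tensor_assoc _ _ _).some ≪≫
      (tensor_congr ⟨Iso.refl _⟩ (tensor_comm _ _)).some ≪≫ (tensor_assoc _ _ _).some.symm⟩
  | inr j =>
    have h1 : (fun i => (e + Pi.single (Sum.inr j) 1 : Fin r ⊕ Fin r → ℕ) (Sum.inr i)) =
        (fun i => e (Sum.inr i)) + Pi.single j 1 := funext fun i => by
      by_cases h : i = j
      · subst h; simp
      · simp [h]
    have h2 : (fun i => (e + Pi.single (Sum.inr j) 1 : Fin r ⊕ Fin r → ℕ) (Sum.inl i)) =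
        fun i => e (Sum.inl i) := funext fun i => by simp
    rw [h1, h2]
    obtain ⟨e1⟩ := nonempty_multiTwist_single r M (fun i => e (Sum.inr i)) j
    exact ⟨(tensor_congr ⟨Iso.refl _⟩ ⟨e1⟩).some ≪≫ (tensor_assoc _ _ _).some.symm⟩

omit [X.Over (Spec (CommRingCat.of k))] [IsProper (X ↘ Spec (CommRingCat.of k))] [IsIntegral X] in
theorem nonempty_ztwist_pow (a : Fin r → ℤ) (m : ℕ) :
    Nonempty (CohB1.tensorPow (W4c5asymptcohfn.ztwist X L M a) m ≅ ztw L M (m • zexp a)) := by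
  unfold W4c5asymptcohfn.ztwist ztw
  obtain ⟨e⟩ := Inter.tensorPow_tensorMod' (FGA.multiTwist L fun j => (a j).toNat)
    (FGA.multiTwist M fun j => (-(a j)).toNat) m
  exact ⟨e ≪≫ (tensor_congr (nonempty_tensorPow_multiTwist r L _ m)
    (nonempty_tensorPow_multiTwist r M _ m)).some⟩

omit [X.Over (Spec (CommRingCat.of k))] [IsProper (X ↘ Spec (CommRingCat.of k))] [IsIntegral X] in
lemma sum_zexp_le (a : Fin r → ℤ) :
    ∑ t, (zexp a t : ℝ) ≤ r * ‖(fun j => ((a j : ℤ) : ℝ))‖ := by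
  rw [Fintype.sum_sum_type, ← Finset.sum_add_distrib]
  refine (Finset.sum_le_card_nsmul _ _ ‖(fun j => ((a j : ℤ) : ℝ))‖ fun j _ => ?_).trans_eq ?_
  · refine le_trans (le_of_eq ?_) (norm_le_pi_norm (fun j => ((a j : ℤ) : ℝ)) j)
    rw [Real.norm_eq_abs, ← Int.cast_abs]
    simp only [zexp, Sum.elim_inl, Sum.elim_inr]
    have : ((a j).toNat : ℤ) + ((-(a j)).toNat : ℤ) = |a j| := by
      rcases le_total 0 (a j) with h | h
      · rw [abs_of_nonneg h]; omega
      · rw [abs_of_nonpos h]; omega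
    exact_mod_cast this
  · rw [Finset.card_univ, Fintype.card_fin, nsmul_eq_mul]

omit [X.Over (Spec (CommRingCat.of k))] [IsProper (X ↘ Spec (CommRingCat.of k))] [IsIntegral X] in
lemma sum_zexp_sub_le (a b : Fin r → ℤ) :
    ∑ t, |(zexp a t : ℝ) - zexp b t| ≤ 2 * r * ‖(fun j => ((a j - b j : ℤ) : ℝ))‖ := by
  rw [Fintype.sum_sum_type, ← Finset.sum_add_distrib]
  refine (Finset.sum_le_card_nsmul _ _ (2 * ‖(fun j => ((a j - b j : ℤ) : ℝ))‖) fun j _ => ?_).trans_eq ?_
  · have h := norm_le_pi_norm (fun j => ((a j - b j : ℤ) : ℝ)) j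
    rw [Real.norm_eq_abs, ← Int.cast_abs] at h
    simp only [zexp, Sum.elim_inl, Sum.elim_inr]
    have h1 : |((a j).toNat : ℤ) - ((b j).toNat : ℤ)| ≤ |a j - b j| := by
      rcases le_total (b j) (a j) with h | h
      · rw [abs_of_nonneg (by omega), abs_of_nonneg (by omega)]; omega
      · rw [abs_of_nonpos (by omega), abs_of_nonpos (by omega)]; omega
    have h2 : |((-(a j)).toNat : ℤ) - ((-(b j)).toNat : ℤ)| ≤ |a j - b j| := by
      rcases le_total (b j) (a j) with h | h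
      · rw [abs_of_nonpos (by omega), abs_of_nonneg (by omega)]; omega
      · rw [abs_of_nonneg (by omega), abs_of_nonpos (by omega)]; omega
    have h1' : |((a j).toNat : ℝ) - ((b j).toNat : ℝ)| ≤ ((|a j - b j| : ℤ) : ℝ) := by exact_mod_cast h1
    have h2' : |((-(a j)).toNat : ℝ) - ((-(b j)).toNat : ℝ)| ≤ ((|a j - b j| : ℤ) : ℝ) := by exact_mod_cast h2
    linarith
  · rw [Finset.card_univ, Fintype.card_fin, nsmul_eq_mul]
    ring

variable {L M} (hL : ∀ j, PicF.IsInvertible (L j)) (hM : ∀ j, PicF.IsInvertible (M j))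
  {A : X.Modules} (hA : CohB1.IsAmple A) {n : ℕ} (hn : topologicalKrullDim X = n) (i : ℕ)

include hL hM hA hn in
theorem hhat_ztwist_le : ∃ C : ℝ, ∀ a : Fin r → ℤ,
    W4c5asymptcohfn.hhat k X n i (W4c5asymptcohfn.ztwist X L M a) ≤
      C * ‖(fun j => ((a j : ℤ) : ℝ))‖ ^ n := by
  obtain ⟨C, hC0, hC⟩ := exists_ray_bound (k := k) (T := ztw L M) (G := Sum.elim L M)
    (fun e => isInvertible_tensorMod (isInvertible_multiTwist hL _) (isInvertible_multiTwist hM _))
    (fun t => by cases t; exacts [hL _, hM _]) (nonempty_ztw_step L M) hA hn i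
  refine ⟨C * (r : ℝ) ^ n, fun a => ?_⟩
  rw [hhat_eq_limsup_raySeq i (nonempty_ztwist_pow L M a), mul_assoc, ← mul_pow]
  refine (hC (zexp a)).2.trans ?_
  have := sum_zexp_le a
  gcongr

include hL hM hA hn in
theorem hhat_ztwist_lipschitz : ∃ C : ℝ, ∀ a b : Fin r → ℤ,
    |W4c5asymptcohfn.hhat k X n i (W4c5asymptcohfn.ztwist X L M a) -
        W4c5asymptcohfn.hhat k X n i (W4c5asymptcohfn.ztwist X L M b)| ≤
      C * (Finset.Icc 1 n).sum (fun q =>
        (max ‖(fun j => ((a j : ℤ) : ℝ))‖ ‖(fun j => ((b j : ℤ) : ℝ))‖) ^ (n - q) *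
          ‖(fun j => ((a j - b j : ℤ) : ℝ))‖ ^ q) := by
  obtain ⟨D, hD0, hD⟩ := exists_ray_lipschitz (k := k) (T := ztw L M) (G := Sum.elim L M)
    (fun e => isInvertible_tensorMod (isInvertible_multiTwist hL _) (isInvertible_multiTwist hM _))
    (fun t => by cases t; exacts [hL _, hM _]) (nonempty_ztw_step L M) hA hn i
  refine ⟨2 * r * D, fun a b => ?_⟩
  rw [hhat_eq_limsup_raySeq i (nonempty_ztwist_pow L M a),
    hhat_eq_limsup_raySeq i (nonempty_ztwist_pow L M b)]
  let R := max (Finset.univ.sup fun j => (a j).natAbs) (Finset.univ.sup fun j => (b j).natAbs)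
  have hle : ∀ c : Fin r → ℤ, ∀ t, zexp c t ≤ Finset.univ.sup fun j => (c j).natAbs := fun c t => by
    rcases t with j | j
    all_goals
      refine le_trans ?_ (Finset.le_sup (f := fun j => (c j).natAbs) (Finset.mem_univ j))
      simp only [zexp, Sum.elim_inl, Sum.elim_inr]
      omega
  refine (hD R (zexp a) (zexp b) (fun t => (hle a t).trans (le_max_left _ _))
    (fun t => (hle b t).trans (le_max_right _ _))).trans ?_
  have hnn : ∀ q, 0 ≤ (max ‖(fun j => ((a j : ℤ) : ℝ))‖ ‖(fun j => ((b j : ℤ) : ℝ))‖) ^ (n - q) *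
      ‖(fun j => ((a j - b j : ℤ) : ℝ))‖ ^ q := fun q => by positivity
  split_ifs with h0
  · exact mul_nonneg (by positivity) (Finset.sum_nonneg fun q _ => hnn q)
  · have hsup : ∀ c : Fin r → ℤ,
        ((Finset.univ.sup fun j => (c j).natAbs : ℕ) : ℝ) ≤ ‖(fun j => ((c j : ℤ) : ℝ))‖ := fun c => by
      rcases (Finset.univ : Finset (Fin r)).eq_empty_or_nonempty with he | hne
      · simp [he]
      · obtain ⟨j, -, hj⟩ := Finset.exists_mem_eq_sup _ hne (fun j => (c j).natAbs)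
        rw [hj]
        refine le_trans (le_of_eq ?_) (norm_le_pi_norm (fun j => ((c j : ℤ) : ℝ)) j)
        rw [Real.norm_eq_abs, Nat.cast_natAbs, Int.cast_abs]
    have hR : (R : ℝ) ≤ max ‖(fun j => ((a j : ℤ) : ℝ))‖ ‖(fun j => ((b j : ℤ) : ℝ))‖ := by
      simp only [R, Nat.cast_max]
      exact max_le_max (hsup a) (hsup b)
    refine le_trans ?_ (mul_le_mul_of_nonneg_left
      (Finset.single_le_sum (fun q _ => hnn q) (Finset.mem_Icc.2 ⟨le_rfl, Nat.one_le_iff_ne_zero.2 h0⟩))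
      (by positivity))
    rw [pow_one]
    calc D * (∑ u, |(zexp a u : ℝ) - zexp b u|) * (R : ℝ) ^ (n - 1)
        ≤ D * (2 * r * ‖(fun j => ((a j - b j : ℤ) : ℝ))‖) *
            (max ‖(fun j => ((a j : ℤ) : ℝ))‖ ‖(fun j => ((b j : ℤ) : ℝ))‖) ^ (n - 1) := by
          gcongr
          exact sum_zexp_sub_le a b
      _ = _ := by ring

include hA hn in
omit hL hM in
/-- `(ĥ(L^p ⊗ N) - ĥ(L^p)) / p^n → 0`. -/
theorem tendsto_hhat_sub_div {L N : X.Modules} (hL : PicF.IsInvertible L) (hN : PicF.IsInvertible N) :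
    Tendsto (fun p : ℕ =>
        (W4c5asymptcohfn.hhat k X n i (CohB1.tensorMod (CohB1.tensorPow L p) N) -
          W4c5asymptcohfn.hhat k X n i (CohB1.tensorPow L p)) / (p : ℝ) ^ n) atTop (nhds 0) := by
  let T : (Fin 2 → ℕ) → X.Modules := fun e => FGA.multiTwist ![L, N] e
  have hTi : ∀ j, PicF.IsInvertible (![L, N] j) := fun j => by fin_cases j <;> assumption
  obtain ⟨D, hD0, hD⟩ := exists_ray_lipschitz (k := k) (T := T) (G := ![L, N])
    (fun e => isInvertible_multiTwist hTi e) hTi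
    (fun e t => nonempty_multiTwist_single 2 _ e t) hA hn i
  have h2 : ∀ e : Fin 2 → ℕ, Nonempty (T e ≅ CohB1.tensorMod (CohB1.tensorPow L (e 0)) (CohB1.tensorPow N (e 1))) :=
    fun e => by
      simp only [T]
      rw [multiTwist_succ, multiTwist_succ]
      exact ⟨(tensor_congr ⟨Iso.refl _⟩ ⟨(tensor_comm _ _).some ≪≫ (tensor_one _).some⟩).some⟩
  have ha : ∀ p m : ℕ, Nonempty (CohB1.tensorPow (CohB1.tensorMod (CohB1.tensorPow L p) N) m ≅
      T (m • ![p, 1])) := fun p m =>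
    ⟨(Inter.tensorPow_tensorMod' (CohB1.tensorPow L p) N m).some ≪≫
      (tensor_congr ⟨(Inter.tensorPow_mul' L p m).some ≪≫ eqToIso (congrArg (CohB1.tensorPow L)
        (show p * m = (m • ![p, 1]) 0 by simp [mul_comm]))⟩
        ⟨eqToIso (congrArg (CohB1.tensorPow N) (show m = (m • ![p, 1]) 1 by simp))⟩).some ≪≫ (h2 _).some.symm⟩
  have hb : ∀ p m : ℕ, Nonempty (CohB1.tensorPow (CohB1.tensorPow L p) m ≅ T (m • ![p, 0])) := fun p m =>
    ⟨(Inter.tensorPow_mul' L p m).some ≪≫ (tensor_one _).some.symm ≪≫ (tensor_comm _ _).some ≪≫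
      (tensor_congr ⟨eqToIso (congrArg (CohB1.tensorPow L)
        (show p * m = (m • ![p, 0]) 0 by simp [mul_comm]))⟩
        ⟨eqToIso (congrArg (CohB1.tensorPow N) (show 0 = (m • ![p, 0]) 1 by simp))⟩).some ≪≫ (h2 _).some.symm⟩
  refine squeeze_zero_norm' (a := fun p : ℕ => D * 2 ^ n * (p : ℝ)⁻¹) ?_ ?_
  · filter_upwards [eventually_gt_atTop 0] with p hp
    have hp' : (1 : ℝ) ≤ p := by exact_mod_cast hp
    rw [hhat_eq_limsup_raySeq i (ha p), hhat_eq_limsup_raySeq i (hb p), Real.norm_eq_abs, abs_div,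
      abs_of_nonneg (by positivity : (0 : ℝ) ≤ (p : ℝ) ^ n), div_le_iff₀ (by positivity)]
    refine (hD (p + 1) ![p, 1] ![p, 0] (fun u => by fin_cases u <;> simp) (fun u => by fin_cases u <;> simp)).trans ?_
    have hsum : ∑ u, |((![p, 1] u : ℕ) : ℝ) - ((![p, 0] u : ℕ) : ℝ)| = 1 := by
      simp [Fin.sum_univ_two]
    rw [hsum]
    rcases n with _ | d
    · rw [if_pos rfl]; positivity
    · rw [if_neg (Nat.succ_ne_zero d), Nat.add_sub_cancel, mul_one]
      calc D * ((p + 1 : ℕ) : ℝ) ^ d ≤ D * (2 * (p : ℝ)) ^ d := by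
            gcongr; push_cast; linarith
        _ ≤ D * (2 * (p : ℝ)) ^ d * 2 := le_mul_of_one_le_right (by positivity) one_le_two
        _ = _ := by rw [mul_pow, pow_succ (p : ℝ), pow_succ (2 : ℝ)]; field_simp
  · simpa using (tendsto_inv_atTop_nhds_zero_nat (𝕜 := ℝ)).const_mul (D * 2 ^ n)

end Groth.Variety2.Growth
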