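import Groth.Agent.Variety2.Growth.Rank
import Groth.Agent.Duality.SupportVanish

/-!
# Higher cohomology of powers away from the stable base locus
-/

set_option autoImplicit false

universe u

open CategoryTheory CategoryTheory.Limits AlgebraicGeometry TopologicalSpace Opposite

noncomputable section

namespace Groth.Variety2.Growth

open Groth.PicAux Groth.HilbStab Groth.PropsBasic.Ample Groth.Inter

variable {k : Type u} [Field k] {X : Scheme.{u}} [X.Over (Spec (CommRingCat.of k))]
  [IsProper (X ↘ Spec (CommRingCat.of k))]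

lemma wgt_mono_right (n : ℕ) {i j : ℕ} (h : i ≤ j) : wgt n i ≤ wgt n j := by
  cases n with
  | zero => exact le_rfl
  | succ e => exact Nat.pow_le_pow_left (by omega) e

lemma wgt_mono_left {a b : ℕ} (h : a ≤ b) (j : ℕ) : wgt a j ≤ wgt b j := by
  cases a with
  | zero => exact Nat.zero_le _
  | succ e =>
    obtain ⟨f, rfl⟩ : ∃ f, b = f + 1 := ⟨b - 1, by omega⟩
    exact Nat.pow_le_pow_right j.succ_pos (by omega)

omit [X.Over (Spec (CommRingCat.of k))] [IsProper (X ↘ Spec (CommRingCat.of k))] in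
theorem isClosed_stableBaseLocus (L : X.Modules) :
    IsClosed (W4c5asymptcohfn.stableBaseLocus X L) := by
  refine isClosed_iInter fun m => ?_
  rw [show W4c5asymptcohfn.baseLocus X (CohB1.tensorPow L (m + 1)) =
    ⋂ s, ((CohB1.genLocus (CohB1.tensorPow L (m + 1)) s : X.Opens) : Set X)ᶜ by
      ext x; simp [W4c5asymptcohfn.baseLocus]]
  exact isClosed_iInter fun s => (CohB1.genLocus _ s).2.isClosed_compl

/-- Summing increments along steps of length `m`. -/
lemma exists_bound_of_periodic (e : ℕ → ℕ) (m c C : ℕ) (hm : 1 ≤ m)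
    (he : ∀ j, e (j + m) ≤ e j + C * wgt c j) :
    ∃ C', ∀ j, e j ≤ C' * wgt (c + 1) j := by
  let E := (Finset.range m).sup e
  refine ⟨E + C, fun j => ?_⟩
  have h : ∀ j, e j ≤ E + j * (C * wgt c j) := fun j => by
    induction j using Nat.strong_induction_on with
    | _ j ih =>
      rcases lt_or_ge j m with hj | hj
      · exact (Finset.le_sup (Finset.mem_range.2 hj)).trans (Nat.le_add_right _ _)
      obtain ⟨i, rfl⟩ : ∃ i, j = i + m := ⟨j - m, by omega⟩
      have h1 := he i
      have h2 := ih i (by omega)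
      have h3 := Nat.mul_le_mul_left C (wgt_mono_right c (Nat.le_add_right i m))
      have h4 := Nat.mul_le_mul_left i h3
      have h5 := Nat.mul_le_mul_right (C * wgt c (i + m)) hm
      rw [one_mul] at h5
      rw [add_mul]
      omega
  have hj : j * wgt c j ≤ wgt (c + 1) j := by
    cases c with
    | zero => exact (Nat.mul_zero j).trans_le (Nat.zero_le _)
    | succ f =>
      change j * (j + 1) ^ f ≤ (j + 1) ^ (f + 1)
      rw [pow_succ']
      exact Nat.mul_le_mul_right _ j.le_succ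
  calc e j ≤ E + j * (C * wgt c j) := h j
    _ = E * 1 + C * (j * wgt c j) := by ring
    _ ≤ E * wgt (c + 1) j + C * wgt (c + 1) j :=
      Nat.add_le_add (Nat.mul_le_mul_left _ (Nat.one_le_pow _ _ j.succ_pos)) (Nat.mul_le_mul_left _ hj)
    _ = _ := by ring

/-- Above the dimension `d` of the stable base locus, `h^i(F ⊗ L^j) = O(j^(dim F - d - 1))`. -/
theorem exists_bound_stableBase {L : X.Modules} (hL : PicF.IsInvertible L) {d : ℕ}
    (hB : topologicalKrullDim ↥(W4c5asymptcohfn.stableBaseLocus X L) ≤ (d : WithBot ℕ∞)) :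
    ∀ (r : ℕ) {F : X.Modules}, Coh.IsCoh F → topologicalKrullDim (CohB1.support F) ≤ (r : ℕ) →
      ∀ i, d < i → ∃ C : ℕ, ∀ j, hT k L F i j ≤ C * wgt (r - d) j := by
  have hN : IsNoetherian X := isNoetherian k
  have small : ∀ {F : X.Modules}, Coh.IsCoh F → ∀ {Z : Set X}, IsClosed Z →
      topologicalKrullDim Z ≤ (d : WithBot ℕ∞) → CohB1.support F ⊆ Z → ∀ i, d < i → ∀ j, hT k L F i j = 0 :=
    fun {F} hF {Z} hZ hd hs i hi j => by
      have : Subsingleton (Coh.HH X (CohB1.tensorMod F (CohB1.tensorPow L j)) i) :=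
        Groth.Duality.SupportVanish.subsingleton_HH_of_support _ hZ hd
          ((support_tensorMod_subset (isInvertible_tensorPow hL j) F).trans hs) hi
      exact Module.finrank_zero_of_subsingleton
  intro r
  induction r using Nat.strong_induction_on with
  | _ r IH =>
  intro F₀ hF₀ hd i hi
  rcases le_or_gt r d with hrd | hrd
  · exact ⟨0, fun j => by
      rw [small hF₀ (CohTwo.isClosed_support _ hF₀) (hd.trans (by exact_mod_cast hrd)) subset_rfl i hi]
      exact Nat.zero_le _⟩
  let P : X.Modules → Prop := fun F => ∀ i, d < i → ∃ C : ℕ, ∀ j, hT k L F i j ≤ C * wgt (r - d) j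
  refine CohTwo.coh_induction P (fun _ _ e b i hi => ?_) (fun _ h i _ => ?_)
    (fun S hS a b c p q i hi => ?_) (CohB1.support F₀) ?_ (CohTwo.isClosed_support F₀ hF₀) F₀ hF₀ subset_rfl i hi
  · obtain ⟨C, hC⟩ := b i hi
    exact ⟨C, fun j => (hT_congr k e.some.symm i j).trans_le (hC j)⟩
  · exact ⟨0, fun j => by rw [hT_isZero k h]; exact Nat.zero_le _⟩
  · obtain ⟨C₁, hC₁⟩ := p i hi
    obtain ⟨C₃, hC₃⟩ := q i hi
    refine ⟨C₁ + C₃, fun j => (hT_mid_le (k := k) hL hS a b c i j).trans ?_⟩
    rw [add_mul]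
    exact Nat.add_le_add (hC₁ j) (hC₃ j)
  intro Y ξ hY hYF G hG hkill _ i hi
  have := hG.1
  obtain rfl : Y = ⟨closure {ξ}, isClosed_closure⟩ := Closeds.ext hY
  have hGs : CohB1.support G ⊆ closure {ξ} := hkill.support_subset.trans (by
    rw [Scheme.IdealSheafData.coe_support_vanishingIdeal]; rfl)
  by_cases hξ : ξ ∈ W4c5asymptcohfn.stableBaseLocus X L
  · exact ⟨0, fun j => by
      rw [small hG (isClosed_stableBaseLocus L) hB
        (hGs.trans ((isClosed_stableBaseLocus L).closure_subset_iff.2 (Set.singleton_subset_iff.2 hξ))) i hi]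
      exact Nat.zero_le _⟩
  simp only [W4c5asymptcohfn.stableBaseLocus, W4c5asymptcohfn.baseLocus, Set.mem_iInter, Set.mem_setOf_eq,
    not_forall, not_not] at hξ
  obtain ⟨m₀, s, hs⟩ := hξ
  let M := CohB1.tensorPow L (m₀ + 1)
  have hM : PicF.IsInvertible M := isInvertible_tensorPow hL _
  let t : Γ(M, (⊤ : X.Opens)) := gsec s
  have ht : ξ ∈ gloc t := genLocus_eq_gloc s ▸ hs
  have hFM : Coh.IsCoh (CohB1.tensorMod G M) := RefRank.isCoh_tensorMod hG (isCoh_of_isInvertible hM)
  have := hFM.1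
  obtain ⟨I, π, ι, w₁, Q, c, w₂, s1, s2, hI, hQ, hK, ⟨eQ⟩⟩ :=
    exists_factor (L := L) hL (mulSec t G) hG hFM
  have hZd : topologicalKrullDim (closure ({ξ} : Set X)) ≤ (r : ℕ) :=
    (LocCohTransform.topologicalKrullDim_mono hYF).trans hd
  obtain ⟨r', rfl⟩ : ∃ r', r = r' + 1 := ⟨r - 1, by omega⟩
  have hlt : ∀ H : X.Modules, Coh.IsCoh H → CohB1.support H ⊆ CohB1.support G → ξ ∉ CohB1.support H →
      topologicalKrullDim (CohB1.support H) ≤ (r' : WithBot ℕ∞) := fun H hH hHs hξH =>
    topologicalKrullDim_le_of_lt (lt_of_lt_of_le (LocCohTransform.topologicalKrullDim_lt_of_ssubset (hHs.trans hGs)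
      (fun h => hξH (h (subset_closure rfl))) (CohTwo.isClosed_support H hH) isClosed_closure
      isIrreducible_singleton.closure
      (lt_of_le_of_lt hZd (WithBot.coe_lt_coe.2 (ENat.natCast_lt_top _)))) hZd)
  obtain ⟨CK, hCK⟩ := IH r' r'.lt_succ_self hK (hlt _ hK (CohTwo.support_subset_of_mono (kernel.ι _))
    fun hm => support_kernel_mulSec_subset t G hm ht) (i + 1) (by omega)
  have hC' : Coh.IsCoh (cokernel (mulSec t G)) := QCohMod.isCoh_cokernel _ hFM
  obtain ⟨CQ, hCQ⟩ := IH r' r'.lt_succ_self hC' (hlt _ hC'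
    ((CohTwo.support_subset_of_epi (cokernel.π (mulSec t G))).trans (support_tensorMod_subset hM G))
    fun hm => support_cokernel_mulSec_subset t G hm ht) i hi
  have hstep : ∀ j, hT k L G i (j + (m₀ + 1)) ≤ hT k L G i j + (CK + CQ) * wgt (r' - d) j := fun j => by
    have e : hT k L (CohB1.tensorMod G M) i j = hT k L G i (j + (m₀ + 1)) := by
      unfold hT
      exact h_congr k ((tensor_assoc G M _).some ≪≫ (tensor_congr ⟨Iso.refl G⟩
        ⟨(PicAux.tensorPow_add L (m₀ + 1) j).some.symm ≪≫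
          eqToIso (congrArg (CohB1.tensorPow L) (add_comm (m₀ + 1) j))⟩).some) i
    have h1 := hT_mid_le (k := k) hL s2 hI hFM hQ i j
    have h2 := hT_right_le (k := k) hL s1 hK hG hI i j
    have h3 := hT_congr k (L := L) eQ i j
    have h4 := hCK j
    have h5 := hCQ j
    dsimp only at h1 h2
    rw [add_mul]
    omega
  obtain ⟨C, hC⟩ := exists_bound_of_periodic (fun j => hT k L G i j) (m₀ + 1) (r' - d) (CK + CQ)
    (by omega) hstep
  exact ⟨C, fun j => (hC j).trans (Nat.mul_le_mul_left _ (wgt_mono_left (by omega) j))⟩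

end Groth.Variety2.Growth
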