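import Groth.Agent.Variety2.Growth.Rank
import Groth.Agent.Inter.Growth3

/-!
# Homogeneity of asymptotic cohomology
-/

set_option autoImplicit false

universe u

open CategoryTheory CategoryTheory.Limits AlgebraicGeometry TopologicalSpace Opposite Filter

noncomputable section

namespace Groth.Variety2.Growth

open Groth.PicAux Groth.HilbStab Groth.PropsBasic.Ample Groth.Inter

/-- Upper limits along the multiples of `a`, for sequences varying slowly. -/
theorem limsup_mul_eq {a n : ℕ} (ha : 1 ≤ a) {H : ℕ → ℝ} (hH : ∀ m, 0 ≤ H m) {B : ℝ}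
    (hB : ∀ᶠ m : ℕ in atTop, H m / (m : ℝ) ^ n ≤ B) {d : ℕ → ℝ} (hd : Tendsto d atTop (nhds 0))
    (hclose : ∀ᶠ m : ℕ in atTop, ∀ t < a, H (a * m + t) ≤ H (a * m) + d m * (m : ℝ) ^ n) :
    limsup (fun m : ℕ => H (a * m) / (m : ℝ) ^ n) atTop =
      (a : ℝ) ^ n * limsup (fun m : ℕ => H m / (m : ℝ) ^ n) atTop := by
  set u : ℕ → ℝ := fun m => H m / (m : ℝ) ^ n with hu
  set w : ℕ → ℝ := fun m => H (a * m) / (m : ℝ) ^ n with hw
  have ha' : (0 : ℝ) < a := by exact_mod_cast ha
  have han : (0 : ℝ) < (a : ℝ) ^ n := by positivity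
  have hwu : ∀ m, 0 < m → w m = (a : ℝ) ^ n * u (a * m) := fun m hm => by
    have : (0 : ℝ) < m := by exact_mod_cast hm
    simp only [hu, hw, Nat.cast_mul, mul_pow]
    field_simp
  have htend : Tendsto (fun m : ℕ => a * m) atTop atTop :=
    tendsto_atTop_mono (fun m => Nat.le_mul_of_pos_left m ha) tendsto_id
  have hwB : ∀ᶠ m in atTop, w m ≤ (a : ℝ) ^ n * B := by
    filter_upwards [htend.eventually hB, eventually_gt_atTop 0] with m hm hm0
    rw [hwu m hm0]
    exact mul_le_mul_of_nonneg_left hm han.le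
  have hu0 : ∀ m, 0 ≤ u m := fun m => div_nonneg (hH m) (by positivity)
  have hw0 : ∀ m, 0 ≤ w m := fun m => div_nonneg (hH _) (by positivity)
  have bu : IsBoundedUnder (· ≤ ·) atTop u := ⟨B, eventually_map.2 hB⟩
  have bw : IsBoundedUnder (· ≤ ·) atTop w := ⟨_, eventually_map.2 hwB⟩
  have cu : IsCoboundedUnder (· ≤ ·) atTop u :=
    IsBoundedUnder.isCoboundedUnder_le ⟨0, eventually_map.2 (Eventually.of_forall hu0)⟩
  have cw : IsCoboundedUnder (· ≤ ·) atTop w :=
    IsBoundedUnder.isCoboundedUnder_le ⟨0, eventually_map.2 (Eventually.of_forall hw0)⟩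
  refine le_antisymm ?_ ?_
  · refine le_of_forall_gt_imp_ge_of_dense fun b hb => limsup_le_of_le cw ?_
    have hb' : limsup u atTop < b / (a : ℝ) ^ n := (lt_div_iff₀' han).2 hb
    filter_upwards [htend.eventually (eventually_lt_of_limsup_lt hb' bu), eventually_gt_atTop 0]
      with m hm hm0
    rw [hwu m hm0]
    exact ((lt_div_iff₀' han).1 hm).le
  · rw [← le_div_iff₀' han]
    refine le_of_forall_gt_imp_ge_of_dense fun b hb => limsup_le_of_le cu ?_
    have hb' : limsup w atTop < (a : ℝ) ^ n * b := by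
      have := (div_lt_iff₀ han).1 hb
      linarith
    obtain ⟨c, hc, hcb⟩ := exists_between hb'
    have hd' : ∀ᶠ m in atTop, d m ≤ (a : ℝ) ^ n * b - c := hd.eventually (Iic_mem_nhds (sub_pos.2 hcb))
    obtain ⟨M, hM⟩ := eventually_atTop.1 (((eventually_lt_of_limsup_lt hc bw).and hd').and hclose)
    refine eventually_atTop.2 ⟨a * (M + 1), fun N hN => ?_⟩
    have hq : M + 1 ≤ N / a := (Nat.le_div_iff_mul_le ha).2 (by rwa [mul_comm])
    obtain ⟨⟨h1, h2⟩, h3⟩ := hM (N / a) (by omega)
    have hq0 : (0 : ℝ) < ((N / a : ℕ) : ℝ) := by exact_mod_cast (by omega : 0 < N / a)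
    have hqn : (0 : ℝ) < ((N / a : ℕ) : ℝ) ^ n := by positivity
    have h4 := h3 (N % a) (Nat.mod_lt _ ha)
    rw [Nat.div_add_mod] at h4
    have h5 : ((a : ℝ) * ((N / a : ℕ) : ℝ)) ^ n ≤ (N : ℝ) ^ n :=
      pow_le_pow_left₀ (by positivity) (by exact_mod_cast Nat.mul_div_le N a) n
    rw [mul_pow] at h5
    have h6 : H (a * (N / a)) < c * ((N / a : ℕ) : ℝ) ^ n := (div_lt_iff₀ hqn).1 h1
    have hb0 : 0 ≤ b := by
      by_contra hneg
      have : (a : ℝ) ^ n * b ≤ 0 := by nlinarith
      have := hw0 (N / a)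
      linarith
    change H N / (N : ℝ) ^ n ≤ b
    rw [div_le_iff₀ (lt_of_lt_of_le (by positivity) h5)]
    calc H N ≤ H (a * (N / a)) + d (N / a) * ((N / a : ℕ) : ℝ) ^ n := h4
      _ ≤ c * ((N / a : ℕ) : ℝ) ^ n + ((a : ℝ) ^ n * b - c) * ((N / a : ℕ) : ℝ) ^ n :=
        add_le_add h6.le (mul_le_mul_of_nonneg_right h2 hqn.le)
      _ = b * ((a : ℝ) ^ n * ((N / a : ℕ) : ℝ) ^ n) := by ring
      _ ≤ b * (N : ℝ) ^ n := mul_le_mul_of_nonneg_left h5 hb0

variable {k : Type u} [Field k] {X : Scheme.{u}} [X.Over (Spec (CommRingCat.of k))]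
  [IsProper (X ↘ Spec (CommRingCat.of k))] [IsIntegral X]
  {A L : X.Modules} (hA : CohB1.IsAmple A) (hL : PicF.IsInvertible L) {n : ℕ}
  (hn : topologicalKrullDim X = n)

include hA hL hn in
/-- Invertible modules look like `O` asymptotically. -/
theorem close_invertible {M : X.Modules} (hM : PicF.IsInvertible M) :
    Close k L (wgt n) M (Coh.structureModule X) := by
  have hO := EulerDeg.isInvertible_structureModule X
  have hMc := isCoh_of_isInvertible hM
  have hOc := isCoh_of_isInvertible hO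
  have := hMc.1
  have := hOc.1
  obtain ⟨p₁, hp₁⟩ := Chow.exists_isGloballyGenerated_twist hA M hMc.2
  obtain ⟨p₂, hp₂⟩ := Chow.exists_isGloballyGenerated_twist hA (Coh.structureModule X) hOc.2
  let P := CohB1.tensorPow A (p₁ + p₂)
  let C := CohB1.tensorMod (Coh.structureModule X) P
  let N := CohB1.tensorMod M P
  have hP : PicF.IsInvertible P := isInvertible_tensorPow hA.1 _
  have hC : PicF.IsInvertible C := isInvertible_tensorMod hO hP
  have hN : PicF.IsInvertible N := isInvertible_tensorMod hM hP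
  obtain ⟨c, hc⟩ := VarietyBC.GGen.exists_mem_gloc hC (hp₂ _ (Nat.le_add_left _ _)) (genericPoint X)
  obtain ⟨b, hb⟩ := VarietyBC.GGen.exists_mem_gloc hN (hp₁ _ (Nat.le_add_right _ _)) (genericPoint X)
  have c1 := close_of_generic (k := k) hA hL hn (mulSec c M) hMc
    (isCoh_of_isInvertible (isInvertible_tensorMod hM hC)) (mulSec_stalk_bijective c M hc)
  have c2 := close_of_generic (k := k) hA hL hn (mulSec b (Coh.structureModule X)) hOc
    (isCoh_of_isInvertible (isInvertible_tensorMod hO hN))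
    (mulSec_stalk_bijective b (Coh.structureModule X) hb)
  have e : CohB1.tensorMod M C ≅ CohB1.tensorMod (Coh.structureModule X) N :=
    (tensor_congr ⟨Iso.refl M⟩ (tensor_one P)).some ≪≫ (tensor_one N).some.symm
  exact (c1.trans (close_of_iso e)).trans c2.symm

include hA hL hn in
/-- `ĥ^i(L^a) = a^n ĥ^i(L)`. -/
theorem hhat_tensorPow (a : ℕ) (ha : 1 ≤ a) (i : ℕ) :
    W4c5asymptcohfn.hhat k X n i (CohB1.tensorPow L a) =
      (a : ℝ) ^ n * W4c5asymptcohfn.hhat k X n i L := by
  let H : ℕ → ℝ := fun m => (h k (CohB1.tensorPow L m) i : ℝ) * n.factorial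
  have e1 : W4c5asymptcohfn.hhat k X n i (CohB1.tensorPow L a) =
      limsup (fun m : ℕ => H (a * m) / (m : ℝ) ^ n) atTop := by
    unfold W4c5asymptcohfn.hhat
    refine congrArg (fun u => limsup u atTop) (funext fun m => ?_)
    simp only [H, h]
    rw [(EulerDeg.hEquiv k (Inter.tensorPow_mul' L a m).some i).finrank_eq]
  rw [e1]
  have hLa := isInvertible_tensorPow hL a
  choose C hC using fun t : ℕ =>
    close_invertible (k := k) hA hLa hn (isInvertible_tensorPow hL t) i
  let D := (Finset.range a).sup C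
  obtain ⟨B, hB⟩ := eventually_cohSeq_le (k := k) hA hL hn
    (isCoh_of_isInvertible (EulerDeg.isInvertible_structureModule X)) i
  refine limsup_mul_eq ha (fun m => by positivity) (B := B) ?_
    (wgt_div_tendsto n ((D : ℝ) * n.factorial)) ?_
  · filter_upwards [hB] with m hm
    rw [cohSeq_eq] at hm
    simp only [H]
    rwa [← h_congr k (tensor_one (CohB1.tensorPow L m)).some i]
  · filter_upwards [eventually_gt_atTop 0] with m hm t ht
    have h1 := (hC t m).1
    have e2 : hT k (CohB1.tensorPow L a) (CohB1.tensorPow L t) i m =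
        h k (CohB1.tensorPow L (a * m + t)) i :=
      h_congr k ((tensor_congr ⟨Iso.refl _⟩ (Inter.tensorPow_mul' L a m)).some ≪≫
        (PicAux.tensorPow_add L t (a * m)).some.symm ≪≫
          eqToIso (congrArg (CohB1.tensorPow L) (add_comm t (a * m)))) i
    have e3 : hT k (CohB1.tensorPow L a) (Coh.structureModule X) i m =
        h k (CohB1.tensorPow L (a * m)) i :=
      h_congr k ((tensor_one _).some ≪≫ (Inter.tensorPow_mul' L a m).some) i
    rw [e2, e3] at h1
    have hCD : C t * wgt n m ≤ D * wgt n m :=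
      Nat.mul_le_mul_right _ (Finset.le_sup (Finset.mem_range.2 ht))
    have h2 : h k (CohB1.tensorPow L (a * m + t)) i ≤ h k (CohB1.tensorPow L (a * m)) i + D * wgt n m :=
      h1.trans (Nat.add_le_add_left hCD _)
    have h3 : (h k (CohB1.tensorPow L (a * m + t)) i : ℝ) ≤
        h k (CohB1.tensorPow L (a * m)) i + (D : ℝ) * wgt n m := by exact_mod_cast h2
    have hm' : (m : ℝ) ^ n ≠ 0 := pow_ne_zero _ (by exact_mod_cast hm.ne')
    simp only [H]
    rw [div_mul_cancel₀ _ hm']
    calc (h k (CohB1.tensorPow L (a * m + t)) i : ℝ) * n.factorial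
        ≤ ((h k (CohB1.tensorPow L (a * m)) i : ℝ) + D * wgt n m) * n.factorial := by gcongr
      _ = _ := by ring

end Groth.Variety2.Growth
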