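import Groth.Agent.Variety2.Growth.Uniform
import Groth.Agent.Variety2.Growth.Homog

/-!
# Numerically trivial twists do not change asymptotic cohomology
-/

set_option autoImplicit false

universe u

open CategoryTheory CategoryTheory.Limits AlgebraicGeometry TopologicalSpace Opposite Filter

noncomputable section

namespace Groth.Variety2.Growth

open Groth.PicAux Groth.HilbStab Groth.PropsBasic.Ample Groth.Inter Groth.Misc13.NumTriv

variable {k : Type u} [Field k] {X : Scheme.{u}} [X.Over (Spec (CommRingCat.of k))]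
  [IsProper (X ↘ Spec (CommRingCat.of k))] [IsIntegral X]

omit [X.Over (Spec (CommRingCat.of k))] [IsProper (X ↘ Spec (CommRingCat.of k))] in
/-- An injection of invertible modules is bijective at the generic point. -/
theorem bijective_stalk_of_mono {M N : X.Modules} (hM : PicF.IsInvertible M) (hN : PicF.IsInvertible N)
    (f : M ⟶ N) [Mono f] : Function.Bijective ((QCohMod.stalk (genericPoint X)).map f) := by
  letI : Field (X.presheaf.stalk (genericPoint X)) := inferInstanceAs (Field X.functionField)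
  obtain ⟨a⟩ := exists_stalk_equiv hM (genericPoint X)
  obtain ⟨b⟩ := exists_stalk_equiv hN (genericPoint X)
  let g := RefHull.stalkMapₗ f (genericPoint X)
  have hg : Function.Injective g :=
    (AddCommGrpCat.mono_iff_injective ((Groth.QCohMod.stalk (genericPoint X)).map f)).1 inferInstance
  refine ⟨hg, fun y => ?_⟩
  have hg' : Function.Injective (b.symm.toLinearMap ∘ₗ g ∘ₗ a.toLinearMap) :=
    b.symm.injective.comp (hg.comp a.injective)
  obtain ⟨x, hx⟩ := LinearMap.surjective_of_injective hg' (b.symm y)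
  exact ⟨a x, b.symm.injective hx⟩

/-- `h^q(N ⊗ L^j) = h^q(L^j) + O(j^(n-1))`, uniformly in the numerically trivial `N`. -/
theorem exists_nt_close [Infinite k] {A L : X.Modules} (hA : CohB1.IsAmple A) (hL : PicF.IsInvertible L)
    {n : ℕ} (hn : topologicalKrullDim X = n) (q : ℕ) :
    ∃ C : ℕ, ∀ N : X.Modules, NT k N → ∀ j : ℕ,
      hT k L N q j ≤ hT k L (Coh.structureModule X) q j + C * wgt n j ∧
        hT k L (Coh.structureModule X) q j ≤ hT k L N q j + C * wgt n j := by
  have hN : IsNoetherian X := isNoetherian k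
  let O := Coh.structureModule X
  have hOi : PicF.IsInvertible O := EulerDeg.isInvertible_structureModule X
  have hOc : Coh.IsCoh O := isCoh_of_isInvertible hOi
  obtain ⟨m, hm⟩ := exists_h0_eq k hA
  let Am := CohB1.tensorPow A m
  have hAm : PicF.IsInvertible Am := isInvertible_tensorPow hA.1 m
  have hB : ∀ N : {N : X.Modules // NT k N}, PicF.IsInvertible (CohB1.tensorMod Am N.1) :=
    fun N => isInvertible_tensorMod hAm N.2.1
  choose s hs using fun N : {N : X.Modules // NT k N} => exists_ne_zero_of_finrank_pos k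
    (C := CohB1.tensorMod Am N.1) (by rw [(hm m le_rfl N.1 N.2).1]; exact (hm m le_rfl N.1 N.2).2)
  have hmono : ∀ N, Mono (mulSec (s N) O) := fun N => mono_mulSec_of_ne_zero (hB N) (hs N) hOi
  have hOB : ∀ N : {N : X.Modules // NT k N}, Coh.IsCoh (CohB1.tensorMod O (CohB1.tensorMod Am N.1)) :=
    fun N => RefRank.isCoh_tensorMod hOc (isCoh_of_isInvertible (hB N))
  have hQ : ∀ N, Coh.IsCoh (cokernel (mulSec (s N) O)) := fun N => by
    have := hOc.1
    have := (hOB N).1
    exact QCohMod.isCoh_cokernel _ (hOB N)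
  have hQd : ∀ N, topologicalKrullDim (CohB1.support (cokernel (mulSec (s N) O))) <
      ((n : ℕ) : WithBot ℕ∞) := fun N => by
    have := hmono N
    refine dim_lt_of_notMem hn (CohTwo.isClosed_support _ (hQ N)) fun hx => ?_
    exact KTheory.Devissage.subsingleton_cokernel_stalk _ (genericPoint X)
      (bijective_stalk_of_mono hOi (isInvertible_tensorMod hOi (hB N)) (mulSec (s N) O)).2 hx
  have bO : BddFam k (fun _ : {N : X.Modules // NT k N} => O) :=
    fun T _ q => ⟨h k (CohB1.tensorMod O T) q, fun _ => le_rfl⟩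
  have bOB : BddFam k (fun N : {N : X.Modules // NT k N} => CohB1.tensorMod O (CohB1.tensorMod Am N.1)) :=
    fun T hT q => by
      obtain ⟨C, hC⟩ := bddFam_nt (k := k) hA (isCoh_of_isInvertible hAm) T hT q
      exact ⟨C, fun N => (h_congr k (tensor_congr (tensor_one _) ⟨Iso.refl T⟩).some q).trans_le (hC N)⟩
  have bQ := bddFam_cokernel (k := k) (fun N => mulSec (s N) O) hmono (fun _ => hOc) hOB bO bOB
  let N₁ : {N : X.Modules // NT k N} := ⟨O, nt_one k⟩
  let Q₁ := cokernel (mulSec (s N₁) O)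
  have bQ₁ := bddFam_nt (k := k) hA (hQ N₁)
  have hQ₁d : ∀ N : {N : X.Modules // NT k N},
      topologicalKrullDim (CohB1.support (CohB1.tensorMod Q₁ N.1)) < ((n : ℕ) : WithBot ℕ∞) :=
    fun N => lt_of_le_of_lt
      (LocCohTransform.topologicalKrullDim_mono (HilbStab.support_tensorMod_subset N.2.1 Q₁)) (hQd N₁)
  have hQ₁c : ∀ N : {N : X.Modules // NT k N}, Coh.IsCoh (CohB1.tensorMod Q₁ N.1) :=
    fun N => RefRank.isCoh_tensorMod (hQ N₁) (isCoh_of_isInvertible N.2.1)
  obtain ⟨C₁, hC₁⟩ := exists_uniform_wgt (k := k) hA hL _ hQ bQ hQd q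
  obtain ⟨C₁', hC₁'⟩ := exists_uniform_wgt (k := k) hA hL _ hQ bQ hQd (q - 1)
  obtain ⟨C₂, hC₂⟩ := exists_uniform_wgt (k := k) hA hL _ hQ₁c bQ₁ hQ₁d q
  obtain ⟨C₂', hC₂'⟩ := exists_uniform_wgt (k := k) hA hL _ hQ₁c bQ₁ hQ₁d (q - 1)
  refine ⟨C₁ + C₁' + (C₂ + C₂'), fun N hN' j => ?_⟩
  have := hmono ⟨N, hN'⟩
  have := hmono N₁
  obtain ⟨a1, a2⟩ := hT_mono_le (k := k) hL (mulSec (s ⟨N, hN'⟩) O) hOc (hOB ⟨N, hN'⟩) q j
  have hNc := isCoh_of_isInvertible hN'.1
  have hS := shortExact_tensorRightMod hN'.1 (CohTwo.cokerSeq_shortExact (mulSec (s N₁) O))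
  have c1 := RefRank.isCoh_tensorMod hOc hNc
  have c2 := RefRank.isCoh_tensorMod (hOB N₁) hNc
  have c3 := hQ₁c ⟨N, hN'⟩
  have b1 : hT k L (CohB1.tensorMod (CohB1.tensorMod O (CohB1.tensorMod Am O)) N) q j ≤
      hT k L (CohB1.tensorMod O N) q j + hT k L (CohB1.tensorMod Q₁ N) q j :=
    hT_mid_le hL hS c1 c2 c3 q j
  have b2 : hT k L (CohB1.tensorMod O N) q j ≤
      hT k L (CohB1.tensorMod (CohB1.tensorMod O (CohB1.tensorMod Am O)) N) q j +
        hT k L (CohB1.tensorMod Q₁ N) (q - 1) j := by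
    cases q with
    | zero => exact (hT_left_zero_le hL hS c1 c2 c3 j).trans (Nat.le_add_right _ _)
    | succ q =>
      refine (hT_left_succ_le hL hS c1 c2 c3 q j).trans ?_
      rw [Nat.add_sub_cancel, Nat.add_comm]
      rfl
  have e1 : hT k L (CohB1.tensorMod (CohB1.tensorMod O (CohB1.tensorMod Am O)) N) q j =
      hT k L (CohB1.tensorMod O (CohB1.tensorMod Am N)) q j :=
    hT_congr k ((tensor_assoc O _ N).some ≪≫ (tensor_congr ⟨Iso.refl O⟩
      ⟨(tensor_assoc Am O N).some ≪≫ (tensor_congr ⟨Iso.refl Am⟩ (tensor_one N)).some⟩).some) q j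
  have e2 : hT k L (CohB1.tensorMod O N) q j = hT k L N q j := hT_congr k (tensor_one N).some q j
  rw [e1, e2] at b1 b2
  have h1 := hC₁ ⟨N, hN'⟩ j
  have h1' := hC₁' ⟨N, hN'⟩ j
  have h2 := hC₂ ⟨N, hN'⟩ j
  have h2' := hC₂' ⟨N, hN'⟩ j
  simp only [O, add_mul] at a1 a2 b1 b2 h1 h1' h2 h2' ⊢
  constructor <;> omega

/-- `ĥ^i(L ⊗ P) = ĥ^i(L)` for numerically trivial `P`. -/
theorem hhat_tensor_nt [Infinite k] {A L P : X.Modules} (hA : CohB1.IsAmple A) (hL : PicF.IsInvertible L)
    (hP : NT k P) {n : ℕ} (hn : topologicalKrullDim X = n) (i : ℕ) :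
    W4c5asymptcohfn.hhat k X n i (CohB1.tensorMod L P) = W4c5asymptcohfn.hhat k X n i L := by
  have hOc := isCoh_of_isInvertible (EulerDeg.isInvertible_structureModule X)
  obtain ⟨C, hC⟩ := exists_nt_close (k := k) hA hL hn i
  obtain ⟨B, hB⟩ := eventually_cohSeq_le (k := k) hA hL hn hOc i
  rw [← hhatF_structureModule n i L]
  unfold W4c5asymptcohfn.hhat W4c5asymptcohfn.hhatF
  refine limsup_eq_of_close (fun m => by positivity) (cohSeq_nonneg n i _ L) hB
    (wgt_div_tendsto n ((C : ℝ) * n.factorial)) (Eventually.of_forall fun m => ?_)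
  have e : hT k L (CohB1.tensorPow P m) i m = h k (CohB1.tensorPow (CohB1.tensorMod L P) m) i := by
    unfold hT
    exact h_congr k ((tensor_comm _ _).some ≪≫ (Inter.tensorPow_tensorMod' L P m).some.symm) i
  obtain ⟨h1, h2⟩ := hC (CohB1.tensorPow P m) (nt_pow k hP m) m
  rw [e] at h1 h2
  change |(h k (CohB1.tensorPow (CohB1.tensorMod L P) m) i : ℝ) * _ / _ - _| ≤ _
  rw [cohSeq_eq, ← sub_div, ← sub_mul, abs_div, abs_mul,
    abs_of_nonneg (by positivity : (0 : ℝ) ≤ (n.factorial : ℝ)),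
    abs_of_nonneg (by positivity : (0 : ℝ) ≤ (m : ℝ) ^ n)]
  have h1' : (h k (CohB1.tensorPow (CohB1.tensorMod L P) m) i : ℝ) ≤
      hT k L (Coh.structureModule X) i m + C * wgt n m := by exact_mod_cast h1
  have h2' : (hT k L (Coh.structureModule X) i m : ℝ) ≤
      h k (CohB1.tensorPow (CohB1.tensorMod L P) m) i + C * wgt n m := by exact_mod_cast h2
  calc _ ≤ (C : ℝ) * wgt n m * n.factorial / (m : ℝ) ^ n := by
        gcongr
        exact abs_le.2 ⟨by linarith, by linarith⟩
    _ = _ := by ring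

end Groth.Variety2.Growth
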