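import Groth.Agent.Variety2.Growth.GenFinite
import Groth.Agent.Inter.PushAcyc

/-!
# Cohomology of twists by pullbacks through acyclic direct images
-/

set_option autoImplicit false

universe u

open CategoryTheory CategoryTheory.Limits AlgebraicGeometry TopologicalSpace Opposite

noncomputable section

namespace Groth.Variety2.Growth

open Groth.PicAux Groth.HilbStab Groth.PropsBasic.Ample Groth.Inter Groth.CohBase

variable {X Y : Scheme.{u}}

/-- Acyclicity of a module on an open only depends on its restriction. -/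
theorem hVanish_of_restrict_iso {M N : Y.Modules} {W : Y.Opens} (e : M.restrict W.ι ≅ N.restrict W.ι)
    (n : ℕ) (h : HVanish (X := Y.toTopCat) (abSheaf M) n W) :
    HVanish (X := Y.toTopCat) (abSheaf N) n W := by
  obtain ⟨a⟩ := nonempty_equiv_HHon M W n
  obtain ⟨b⟩ := nonempty_equiv_HHon N W n
  have h1 : Subsingleton (Sheaf.H (abSheaf (N.restrict W.ι)) n : Type u) :=
    @Equiv.subsingleton _ _ (((Sheaf.functorH _ n).mapIso
      ((SheafOfModules.toSheaf.{u} W.toScheme.ringCatSheaf).mapIso e)).addCommGroupIsoToAddEquiv).toEquiv.symm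
      (@Equiv.subsingleton _ _ a.toEquiv h)
  exact @Equiv.subsingleton _ _ b.symm.toEquiv h1

/-- Acyclicity for a direct image is insensitive to twists by invertible modules of the target. -/
theorem pushAcyclic_twist (f : Y ⟶ X) {M : Y.Modules} (h : PushAcyclic f.base (abSheaf M))
    {N : X.Modules} (hN : PicF.IsInvertible N) :
    PushAcyclic f.base (abSheaf (CohB1.tensorMod M ((Scheme.Modules.pullback f).obj N))) := by
  intro V y hy
  obtain ⟨U₀, hyU, ⟨eN⟩⟩ := hN y
  obtain ⟨V', hle, hy', hvan⟩ := h (V ⊓ U₀) y ⟨hy, hyU⟩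
  have hle' : V' ≤ U₀ := le_trans hle inf_le_right
  let W : Y.Opens := f ⁻¹ᵁ V'
  let j : W.toScheme ⟶ U₀.toScheme := (f ∣_ V') ≫ X.homOfLE hle'
  have hj : j ≫ U₀.ι = W.ι ≫ f := by simp [j, W]
  have e1 : (Scheme.Modules.pullback W.ι).obj ((Scheme.Modules.pullback f).obj N) ≅
      Coh.structureModule W.toScheme :=
    (Scheme.Modules.pullbackComp W.ι f).app N ≪≫ (Scheme.Modules.pullbackCongr hj.symm).app N ≪≫
      ((Scheme.Modules.pullbackComp j U₀.ι).app N).symm ≪≫
      (Scheme.Modules.pullback j).mapIso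
        (((Scheme.Modules.restrictFunctorIsoPullback U₀.ι).app N).symm ≪≫ eN) ≪≫
      (pullback_structure_iso j).some
  have e : M.restrict W.ι ≅ (CohB1.tensorMod M ((Scheme.Modules.pullback f).obj N)).restrict W.ι :=
    (Scheme.Modules.restrictFunctorIsoPullback W.ι).app M ≪≫
      (tensor_one _).some.symm ≪≫ (tensor_comm _ _).some ≪≫
      (tensor_congr ⟨Iso.refl _⟩ ⟨e1.symm⟩).some ≪≫
      (exists_pullback_tensorMod W.ι M ((Scheme.Modules.pullback f).obj N)).choose.symm ≪≫
      ((Scheme.Modules.restrictFunctorIsoPullback W.ι).app _).symm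
  exact ⟨V', le_trans hle inf_le_left, hy', fun q => hVanish_of_restrict_iso e (q + 1) (hvan q)⟩

variable {k : Type u} [Field k] [X.Over (Spec (CommRingCat.of k))] [Y.Over (Spec (CommRingCat.of k))]

/-- `h^i(X, f_* M) = h^i(Y, M)` for acyclic `M`. -/
theorem h_push_acyclic (f : Y ⟶ X)
    (hf : f ≫ (X ↘ Spec (CommRingCat.of k)) = Y ↘ Spec (CommRingCat.of k)) {M : Y.Modules}
    (hM : PushAcyclic f.base (abSheaf M)) (q : ℕ) :
    h k ((Scheme.Modules.pushforward f).obj M) q = h k M q := by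
  rename_i instX instY
  cases instY with
  | ofHom g =>
  obtain rfl : f ≫ (X ↘ Spec (CommRingCat.of k)) = g := hf.trans rfl
  obtain ⟨e⟩ := nonempty_linearEquiv_push_acyclic f (X ↘ Spec (CommRingCat.of k)) q M hM
  exact e.finrank_eq

/-- `h^i(X, f_* M ⊗ N^m) = h^i(Y, M ⊗ (f^* N)^m)` for acyclic `M`. -/
theorem hT_push_acyclic (f : Y ⟶ X)
    (hf : f ≫ (X ↘ Spec (CommRingCat.of k)) = Y ↘ Spec (CommRingCat.of k)) {M : Y.Modules}
    (hM : PushAcyclic f.base (abSheaf M)) {L : X.Modules} (hL : PicF.IsInvertible L) (q m : ℕ) :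
    hT k L ((Scheme.Modules.pushforward f).obj M) q m =
      hT k ((Scheme.Modules.pullback f).obj L) M q m := by
  have hLm := isInvertible_tensorPow hL m
  obtain ⟨e, -⟩ := PnCoh.exists_projectionFormula f M hLm
  exact (h_congr k e q).trans ((h_push_acyclic f hf (pushAcyclic_twist f hM hLm) q).trans
    (h_congr k (tensor_congr ⟨Iso.refl M⟩ (pullback_tensorPow f L m)).some q))

/-- The stalk of a direct image at a point with a single preimage, under a closed map. -/
theorem bijective_pushStalk_of_unique (f : Y ⟶ X) (hc : IsClosedMap f) (y : Y)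
    (hu : ∀ z : Y, f z = f y → z = y) (M : Y.Modules) :
    Function.Bijective (CohTwo.pushStalk f M y) := by
  have key : ∀ W : Y.Opens, y ∈ W → ∃ V : X.Opens, f y ∈ V ∧ f ⁻¹ᵁ V ≤ W := fun W hW =>
    ⟨⟨(f '' (W : Set Y)ᶜ)ᶜ, (hc _ W.2.isClosed_compl).isOpen_compl⟩,
      fun ⟨z, hz, hfz⟩ => hz (hu z hfz ▸ hW),
      fun z hz => not_not.1 fun h => hz ⟨z, h, rfl⟩⟩
  refine ⟨(injective_iff_map_eq_zero _).2 fun t ht => ?_, fun z => ?_⟩
  · obtain ⟨U, hU, s, rfl⟩ := Groth.QCohMod.exists_germ _ (f y) t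
    let s' : Γ(M, f ⁻¹ᵁ U) := s
    have ht' : M.presheaf.germ (f ⁻¹ᵁ U) y hU s' = M.presheaf.germ (f ⁻¹ᵁ U) y hU 0 := by
      rw [map_zero]
      rw [← CohTwo.pushStalk_germ f M y hU s]
      exact ht
    obtain ⟨W, hW, i₁, i₂, hs⟩ := TopCat.Presheaf.germ_eq M.presheaf y hU hU s' 0 ht'
    rw [map_zero] at hs
    obtain ⟨V, hV, hle⟩ := key W hW
    have hle' : f ⁻¹ᵁ (V ⊓ U) ≤ W := fun z hz => hle hz.1
    refine (((Scheme.Modules.pushforward f).obj M).presheaf.germ_res_apply
      (homOfLE (inf_le_right : V ⊓ U ≤ U)) (f y) ⟨hV, hU⟩ s).symm.trans ?_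
    have h0 : ((Scheme.Modules.pushforward f).obj M).presheaf.map
        (homOfLE (inf_le_right : V ⊓ U ≤ U)).op s = 0 := by
      change M.presheaf.map ((Opens.map f.base).map (homOfLE (inf_le_right : V ⊓ U ≤ U))).op s' = 0
      have : ((Opens.map f.base).map (homOfLE (inf_le_right : V ⊓ U ≤ U))) = homOfLE hle' ≫ i₁ := rfl
      rw [this, op_comp, Functor.map_comp, ConcreteCategory.comp_apply, hs, map_zero]
    rw [h0, map_zero]
  · obtain ⟨W, hW, m, rfl⟩ := Groth.QCohMod.exists_germ M y z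
    obtain ⟨V, hV, hle⟩ := key W hW
    refine ⟨((Scheme.Modules.pushforward f).obj M).presheaf.germ V
      (f y) hV (show Γ((Scheme.Modules.pushforward f).obj M, V)
        from Groth.QCohMod.res M hle m), ?_⟩
    rw [CohTwo.pushStalk_germ]
    exact Groth.QCohMod.germ_res M hle y hV m

/-- Direct images keep generic isomorphisms, at a point with a single preimage. -/
theorem bijective_stalk_push_map (f : Y ⟶ X) (hc : IsClosedMap f) (y : Y)
    (hu : ∀ z : Y, f z = f y → z = y) {M N : Y.Modules} (φ : M ⟶ N)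
    (hφ : Function.Bijective ((QCohMod.stalk y).map φ)) :
    Function.Bijective ((QCohMod.stalk (f y)).map ((Scheme.Modules.pushforward f).map φ)) := by
  have hM := bijective_pushStalk_of_unique f hc y hu M
  have hN := bijective_pushStalk_of_unique f hc y hu N
  have hnat : ∀ t, CohTwo.pushStalk f N y ((QCohMod.stalk (f y)).map ((Scheme.Modules.pushforward f).map φ) t) =
      (QCohMod.stalk y).map φ (CohTwo.pushStalk f M y t) := fun t => by
    obtain ⟨U, hU, s, rfl⟩ := Groth.QCohMod.exists_germ _ (f y) t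
    refine (congrArg (CohTwo.pushStalk f N y) (QCohMod.stalk_map_germ _ (f y) hU s)).trans ?_
    refine (CohTwo.pushStalk_germ f N y hU _).trans ?_
    refine Eq.trans ?_ (congrArg ((QCohMod.stalk y).map φ) (CohTwo.pushStalk_germ f M y hU s)).symm
    exact (QCohMod.stalk_map_germ φ y (U := f ⁻¹ᵁ U) hU _).symm
  refine (Function.Bijective.of_comp_iff' hN _).1 ?_
  rw [show (⇑(CohTwo.pushStalk f N y) ∘ ⇑((QCohMod.stalk (f y)).map ((Scheme.Modules.pushforward f).map φ))) =
    ⇑((QCohMod.stalk y).map φ) ∘ ⇑(CohTwo.pushStalk f M y) from funext hnat]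
  exact hφ.comp hM

end Groth.Variety2.Growth
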