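import Groth.Agent.CohTwo.ExchangeFibre
import Groth.Agent.FlatStrata.Uniform

/-!
# Boundedness of the cohomology on all points of a Noetherian affine base

For a coherent module on a proper scheme over a Noetherian ring `A` the dimension of each
cohomology group of its inverse image along `A → K` is bounded, uniformly in the field `K`.
-/

set_option autoImplicit false

universe u

open CategoryTheory Limits AlgebraicGeometry TopologicalSpace Opposite
open scoped TensorProduct
open Groth.CohBase hiding res res_res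
open Groth.PicAux Groth.FlatStrata CxRank

namespace Groth.Variety2.Growth

variable {A : Type u} [CommRing A] {X : Scheme.{u}} [X.Over (Spec (CommRingCat.of A))]

/-- In the flat case the bound is the rank of a finite free model. -/
theorem exists_bound_bc_of_flat [IsNoetherianRing A] [IsProper (X ↘ Spec (CommRingCat.of A))]
    (F : X.Modules) (hF : Coh.IsCoh F)
    (hfl : FlatMod.IsFlatOver (X ↘ Spec (CommRingCat.of A)) F) (q : ℕ) :
    ∃ C : ℕ, ∀ (K : Type u) [Field K] [Algebra A K] (W : Scheme.{u})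
      [W.Over (Spec (CommRingCat.of K))] (g : W ⟶ X), IsBC (A := A) (A' := K) g →
      Module.finrank K (Coh.HH W ((Scheme.Modules.pullback g).obj F) q) ≤ C := by
  let f := X ↘ Spec (CommRingCat.of A)
  have := CohFin.compactSpace_of_proper f
  have := CohFin.isSeparated_of_proper f
  have := hF.1
  obtain ⟨G⟩ := exists_goodCover X
  obtain ⟨L, φ, hL, -, hq⟩ := exists_finiteFree_qis A G F hfl fun p =>
    CohFin.hFin_of_proper CohFin.projFinite p X f F hF
  refine ⟨Module.finrank A (L.X (q : ℤ)), fun K _ _ W _ g hsq => ?_⟩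
  rcases subsingleton_or_nontrivial A with hA | hA
  · exact absurd ((algebraMap A K).domain_nontrivial) (not_nontrivial A)
  obtain ⟨e, he⟩ := exists_bcEquiv hsq F G q
  let Kk : ModuleCat.{u} A := ModuleCat.of A K
  let η := tFunIso φ (q : ℤ) hq
  let e' : LinearMap.ker ((dq L (q : ℤ)).rTensor Kk) ≃+
      Coh.HH W ((Scheme.Modules.pullback g).obj F) q :=
    (tKerEquiv L Kk (q : ℤ)).symm.toAddEquiv.trans ((η.app Kk).toLinearEquiv.toAddEquiv.trans e)
  obtain ⟨t⟩ := exists_ker_baseChange_equiv (K := K) (dq L (q : ℤ)) e' fun b z w h => by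
    let m : Kk ⟶ Kk := ModuleCat.ofHom (LinearMap.mul A K b)
    obtain ⟨a, rfl⟩ := (tKerEquiv L Kk (q : ℤ)).surjective z
    have hw : w = tKerEquiv L Kk (q : ℤ) ((CohIII.TFun L (q : ℤ)).map m a) :=
      Subtype.ext (h.trans (tKerEquiv_map L Kk (q : ℤ) m a).symm)
    subst hw
    change e ((η.app Kk).toLinearEquiv ((tKerEquiv L Kk (q : ℤ)).symm (tKerEquiv L Kk (q : ℤ) _))) =
      b • (show Coh.HH W ((Scheme.Modules.pullback g).obj F) q from
        e ((η.app Kk).toLinearEquiv ((tKerEquiv L Kk (q : ℤ)).symm (tKerEquiv L Kk (q : ℤ) a))))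
    rw [LinearEquiv.symm_apply_apply, LinearEquiv.symm_apply_apply]
    have hnat : (η.app Kk).toLinearEquiv ((CohIII.TFun L (q : ℤ)).map m a) =
        (CohIII.TFun (cxA A G.U F) (q : ℤ)).map m ((η.app Kk).toLinearEquiv a) :=
      congr($(η.hom.naturality m) a)
    rw [hnat, he]
  have := (hL (q : ℤ)).1
  have := (hL (q : ℤ)).2
  refine t.finrank_eq.symm.le.trans ((Submodule.finrank_le _).trans ?_)
  let π : L.X (q : ℤ) →ₗ[A] Qc L (q : ℤ) := Submodule.mkQ _
  have hπ : Function.Surjective (π.baseChange K) :=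
    LinearMap.lTensor_surjective K (Submodule.mkQ_surjective _)
  have h := (π.baseChange K).finrank_range_le
  rw [LinearMap.range_eq_top.2 hπ, finrank_top] at h
  replace h := h.trans (Module.finrank_baseChange (R := K) (S := A) (M' := L.X (q : ℤ))).le
  exact h

/-- **Boundedness.** Over a Noetherian affine base the cohomology on the points is bounded. -/
theorem exists_bound_bc [IsNoetherianRing A] [IsProper (X ↘ Spec (CommRingCat.of A))]
    (F : X.Modules) (hF : Coh.IsCoh F) (q : ℕ) :
    ∃ C : ℕ, ∀ (K : Type u) [Field K] [Algebra A K] (W : Scheme.{u})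
      [W.Over (Spec (CommRingCat.of K))] (g : W ⟶ X), IsBC (A := A) (A' := K) g →
      Module.finrank K (Coh.HH W ((Scheme.Modules.pullback g).obj F) q) ≤ C := by
  suffices h : ∀ I : Ideal A, ∃ C : ℕ, ∀ (K : Type u) [Field K] [Algebra A K] (W : Scheme.{u})
      [W.Over (Spec (CommRingCat.of K))] (g : W ⟶ X), IsBC (A := A) (A' := K) g →
      I ≤ RingHom.ker (algebraMap A K) →
      Module.finrank K (Coh.HH W ((Scheme.Modules.pullback g).obj F) q) ≤ C by
    obtain ⟨C, h⟩ := h ⊥
    exact ⟨C, fun K _ _ W _ g hg => h K W g hg bot_le⟩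
  intro I
  induction I using WellFoundedGT.induction with
  | ind I ih =>
  by_cases htop : I = ⊤
  · exact ⟨0, fun K _ _ W _ g _ hK => absurd (top_le_iff.1 (htop ▸ hK)) (RingHom.ker_ne_top _)⟩
  by_cases hp : I.IsPrime
  swap
  · obtain ⟨x, hx, y, hy, hxy⟩ : ∃ x, x ∉ I ∧ ∃ y, y ∉ I ∧ x * y ∈ I := by
      by_contra hne
      push Not at hne
      exact hp ⟨htop, fun {x y} hxy => or_iff_not_imp_left.2 fun hx => by_contra fun hy => hne x hx y hy hxy⟩
    have hlt : ∀ x, x ∉ I → I < I ⊔ Ideal.span {x} := fun x hx =>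
      lt_of_le_of_ne le_sup_left fun h => hx (h.ge (Ideal.mem_sup_right (Ideal.mem_span_singleton_self x)))
    obtain ⟨C₁, h₁⟩ := ih _ (hlt x hx)
    obtain ⟨C₂, h₂⟩ := ih _ (hlt y hy)
    refine ⟨max C₁ C₂, fun K _ _ W _ g hg hK => ?_⟩
    rcases (RingHom.ker_isPrime (algebraMap A K)).mem_or_mem (hK hxy) with h | h
    · exact (h₁ K W g hg (sup_le hK ((Ideal.span_singleton_le_iff_mem _).2 h))).trans (le_max_left _ _)
    · exact (h₂ K W g hg (sup_le hK ((Ideal.span_singleton_le_iff_mem _).2 h))).trans (le_max_right _ _)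
  obtain ⟨a, ha, hflat⟩ := exists_flat_piece F hF I
  obtain ⟨C₁, h₁'⟩ := ih _ (show I < I ⊔ Ideal.span {a} from
    lt_of_le_of_ne le_sup_left fun h => ha (h.ge (Ideal.mem_sup_right (Ideal.mem_span_singleton_self a))))
  let A₁ := A ⧸ I
  let b : A₁ := Ideal.Quotient.mk I a
  let B := Localization.Away b
  have hb0 : b ≠ 0 := fun h => ha (Ideal.Quotient.eq_zero_iff_mem.1 h)
  have : IsNoetherianRing B := IsLocalization.isNoetherianRing (Submonoid.powers b) B inferInstance
  let Y := Limits.pullback (X ↘ Spec (CommRingCat.of A))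
    (Spec.map (CommRingCat.ofHom (algebraMap A A₁)))
  let : Y.Over (Spec (CommRingCat.of A₁)) := ⟨pullback.snd _ _⟩
  let p : Y ⟶ X := pullback.fst _ _
  have hY : IsBC (A := A) (A' := A₁) p := IsPullback.of_hasPullback _ _
  let Z := Limits.pullback (Y ↘ Spec (CommRingCat.of A₁))
    (Spec.map (CommRingCat.ofHom (algebraMap A₁ B)))
  let : Z.Over (Spec (CommRingCat.of B)) := ⟨pullback.snd _ _⟩
  let r : Z ⟶ Y := pullback.fst _ _
  have hr : IsBC (A := A₁) (A' := B) r := IsPullback.of_hasPullback _ _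
  have h₁₂ : IsBC (A := A) (A' := B) (r ≫ p) := isBC_comp hY hr
  have : IsProper (Z ↘ Spec (CommRingCat.of B)) :=
    MorphismProperty.of_isPullback h₁₂ inferInstance
  let g₁ := r ≫ p
  obtain ⟨C₂, h₂⟩ := exists_bound_bc_of_flat _ (FlatStrata.isCoh_pullback g₁ hF) (hflat Z b rfl g₁ h₁₂) q
  refine ⟨max C₁ C₂, fun K _ _ W _ g hg hK => ?_⟩
  by_cases hak : a ∈ RingHom.ker (algebraMap A K)
  · exact (h₁' K W g hg (sup_le hK ((Ideal.span_singleton_le_iff_mem _).2 hak))).trans (le_max_left _ _)
  let φ₁ : A₁ →+* K := Ideal.Quotient.lift I (algebraMap A K) fun x hx => hK hx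
  have hu : IsUnit (φ₁ b) := IsUnit.mk0 _ hak
  let : Algebra B K := (IsLocalization.Away.lift (S := B) b hu).toAlgebra
  have : IsScalarTower A B K := .of_algebraMap_eq fun x => by
    rw [IsScalarTower.algebraMap_apply A A₁ B x]
    exact (IsLocalization.Away.lift_eq b hu (Ideal.Quotient.mk I x)).symm
  obtain ⟨t, rfl, h₃⟩ := exists_bc_factor h₁₂ hg
  refine le_trans (le_of_eq ?_) ((h₂ K W t h₃).trans (le_max_right _ _))
  exact (haIsoEquiv (A := K) (W ↘ Spec (CommRingCat.of K))
    ((Scheme.Modules.pullbackComp t g₁).app F) q).finrank_eq.symm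

end Groth.Variety2.Growth
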