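import Groth.Agent.Variety2.Growth.FibreFam
import Groth.Agent.Variety2.Growth.FibreBdd
import Groth.Agent.OmegaSheaf.GroupScheme
import Groth.Agent.CohTwo.GGNhd
import Groth.Agent.PicAux.Powers
import Groth.Agent.Chow.QcohExtend
import Groth.Agent.SpectralTopology.Dim

/-!
# Uniform growth of cohomology on the points of an affine base

For a coherent `F` and an invertible `L` on a projective scheme over a Noetherian ring `A`, the
cohomology of `F ⊗ L^m` on the points of dimension `≤ d` with infinite field grows like `m^d`,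
uniformly in the point.
-/

set_option autoImplicit false

universe u

open CategoryTheory CategoryTheory.Limits AlgebraicGeometry TopologicalSpace Opposite

noncomputable section

namespace Groth.Variety2.Growth

open Groth.PicAux Groth.Inter Groth.CohBase

/-- Inverse images of globally generated modules are globally generated. -/
theorem gg_pullback {X Y : Scheme.{u}} (f : X ⟶ Y) {M : Y.Modules}
    (h : Curv2.IsGloballyGenerated M) :
    Curv2.IsGloballyGenerated ((Scheme.Modules.pullback f).obj M) := by
  obtain ⟨I, p, hp⟩ := h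
  obtain ⟨e⟩ := Groth.OmegaSheaf.nonempty_pullback_free f I
  have hep := @Functor.PreservesEpimorphisms.preserves _ _ _ _ _ (Functor.preservesEpimorphisms_of_adjunction
    (Scheme.Modules.pullbackPushforwardAdjunction f)) _ _ p hp
  exact ⟨I, e.inv ≫ (Scheme.Modules.pullback f).map p, @epi_comp _ _ _ _ _ e.inv inferInstance _ hep⟩

variable (A : Type u) [CommRing A] (X : Scheme.{u}) [X.Over (Spec (CommRingCat.of A))]

/-- A point of `X` over `A` with values in an infinite field, of dimension `≤ d`. -/
structure GeomPt (d : ℕ) : Type (u + 1) where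
  K : Type u
  [field : Field K]
  [alg : Algebra A K]
  [inf : Infinite K]
  W : Scheme.{u}
  [overK : W.Over (Spec (CommRingCat.of K))]
  g : W ⟶ X
  hg : IsBC (A := A) (A' := K) g
  hdim : topologicalKrullDim ↥W ≤ (d : WithBot ℕ∞)

attribute [instance] GeomPt.field GeomPt.alg GeomPt.inf GeomPt.overK

variable {A X}

/-- **Uniform growth on all points.** -/
theorem exists_affine_bound [IsNoetherianRing A] [IsProper (X ↘ Spec (CommRingCat.of A))]
    {Am : X.Modules} (hAm : CohB1.IsAmple Am) {F L : X.Modules} (hF : Coh.IsCoh F)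
    (hL : PicF.IsInvertible L) (d q : ℕ) :
    ∃ C : ℕ, ∀ (w : GeomPt A X d) (m : ℕ),
      Module.finrank w.K (Coh.HH w.W ((Scheme.Modules.pullback w.g).obj
        (CohB1.tensorMod F (CohB1.tensorPow L m))) q) ≤ C * (m + 1) ^ d := by
  have : IsLocallyNoetherian X := LocallyOfFiniteType.isLocallyNoetherian (X ↘ Spec (CommRingCat.of A))
  have hOi := EulerDeg.isInvertible_structureModule X
  have hOc := isCoh_of_isInvertible hOi
  have hLc := isCoh_of_isInvertible hL
  have := hLc.1
  have := hOc.1
  obtain ⟨p₁, hp₁⟩ := Chow.exists_isGloballyGenerated_twist hAm L hLc.2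
  obtain ⟨p₂, hp₂⟩ := Chow.exists_isGloballyGenerated_twist hAm (Coh.structureModule X) hOc.2
  let P₀ := CohB1.tensorPow Am (p₁ + p₂)
  have hP₀ : PicF.IsInvertible P₀ := isInvertible_tensorPow hAm.1 _
  have hgP : Curv2.IsGloballyGenerated P₀ :=
    CohTwo.GGNhd.gg_of_iso (tensor_one P₀).some (hp₂ _ (Nat.le_add_left _ _))
  have hgL : Curv2.IsGloballyGenerated (CohB1.tensorMod L P₀) := hp₁ _ (Nat.le_add_right _ _)
  let ι := GeomPt A X d
  let Li : ∀ w : ι, w.W.Modules := fun w => (Scheme.Modules.pullback w.g).obj L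
  let Pi' : ∀ w : ι, w.W.Modules := fun w => (Scheme.Modules.pullback w.g).obj P₀
  let G : ∀ w : ι, w.W.Modules := fun w => (Scheme.Modules.pullback w.g).obj F
  have hprop : ∀ w : ι, IsProper (w.W ↘ Spec (CommRingCat.of w.K)) := fun w =>
    MorphismProperty.of_isPullback w.hg inferInstance
  have hG : ∀ w, Coh.IsCoh (G w) := fun w => FlatStrata.isCoh_pullback w.g hF
  have hLi : ∀ w, PicF.IsInvertible (Li w) := fun w => isInvertible_pullback w.g hL
  have hPi : ∀ w, PicF.IsInvertible (Pi' w) := fun w => isInvertible_pullback w.g hP₀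
  have eLP : ∀ w : ι, (Scheme.Modules.pullback w.g).obj (CohB1.tensorMod L P₀) ≅
      CohB1.tensorMod (Li w) (Pi' w) := fun w => (exists_pullback_tensorMod w.g L P₀).choose
  have b : FamBdd (fun w : ι => w.K) Li Pi' G := fun a c q' => by
    obtain ⟨C, hC⟩ := exists_bound_bc (A := A) (CohB1.tensorMod F (CohB1.tensorMod
      (CohB1.tensorPow (CohB1.tensorMod L P₀) a) (CohB1.tensorPow P₀ c)))
      (RefRank.isCoh_tensorMod hF (isCoh_of_isInvertible (isInvertible_tensorMod
        (isInvertible_tensorPow (isInvertible_tensorMod hL hP₀) a) (isInvertible_tensorPow hP₀ c)))) q'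
    refine ⟨C, fun w => le_of_eq_of_le (h_congr w.K ?_ q').symm (hC w.K w.W w.g w.hg)⟩
    exact (exists_pullback_tensorMod w.g _ _).choose ≪≫ PicGrp.tensorModIso (Iso.refl _)
      ((exists_pullback_tensorMod w.g _ _).choose ≪≫ PicGrp.tensorModIso
        ((pullback_tensorPow w.g _ a).some ≪≫
          (nonempty_tensorPow_iso (eLP w) a).some)
        (pullback_tensorPow w.g P₀ c).some)
  obtain ⟨C, hC⟩ := exists_famBound hLi hPi (fun w => CohTwo.GGNhd.gg_of_iso (eLP w) (gg_pullback w.g hgL))
    (fun w => gg_pullback w.g hgP) d G hG b (fun w =>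
      (SpectralTopology.dim_le_of_subset (Set.subset_univ _)).trans
        ((Homeomorph.Set.univ _).isHomeomorph.topologicalKrullDim_eq.le.trans w.hdim)) q
  exact ⟨C, fun w m => le_of_eq_of_le (h_congr w.K (FlatStrata.nonempty_pullback_tw w.g F L m).some q)
    (hC w m)⟩

end Groth.Variety2.Growth
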