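import Groth.Agent.Variety2.Growth.FibreGrowth
import Groth.Agent.PicCurve.ZeroPull
import Groth.Agent.Divisors.IdealComap
import Groth.Agent.KTheory.RegSheaf
import Groth.Agent.PropsBasic.ProjImmAmple
import Groth.Agent.VarietyBC.GGen
import Groth.Agent.FlatStrata.Vanish
import Groth.Agent.CohFin.Proper
import Groth.Agent.PicAux.BaseChangeModel
import Groth.Agent.PnCoh.ToGlobal

/-!
# Subschemes cut out by sections of a fixed invertible module

The closed subschemes of a projective scheme over a field cut out by boundedly many sections of a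
fixed invertible module are the points of one family, so the cohomology of the powers of an
invertible module on them grows uniformly.
-/

set_option autoImplicit false

universe u

open CategoryTheory CategoryTheory.Limits AlgebraicGeometry TopologicalSpace Opposite

noncomputable section

namespace Groth.Variety2.Growth

open Groth.PicAux Groth.Inter Groth.PropsBasic.Ample Groth.PicCurve
open Groth.CohBase (IsBC)

section Zero

variable {X : Scheme.{u}} {L : X.Modules}

/-- Comparison of ideal sheaves on an affine cover. -/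
theorem ideal_le_of_cover {I J : X.IdealSheafData}
    (h : ∀ x : X, ∃ V : X.affineOpens, x ∈ V.1 ∧ I.ideal V ≤ J.ideal V) : I ≤ J := by
  refine sup_eq_right.1 (Divisors.ext_of_cover fun x => ?_)
  obtain ⟨V, hx, hle⟩ := h x
  exact ⟨V, hx, sup_eq_right.2 hle⟩

/-- The zero scheme of a linear combination contains the common zero scheme. -/
theorem zero_sum_le (hL : PicF.IsInvertible L) {κ : Type*} [Fintype κ] (a : κ → Γ(X, (⊤ : X.Opens)))
    (v : κ → Γ(L, (⊤ : X.Opens))) : zero L (∑ l, a l • v l) ≤ ⨆ l, zero L (v l) := by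
  refine ideal_le_of_cover fun x => ?_
  obtain ⟨U, e, hxU, he⟩ := (isInvertible_iff_exists_gen _).1 hL x
  obtain ⟨W, hxW, hWU⟩ := Divisors.exists_affine_le x U hxU
  have hc : ∀ l, ∃ c : Γ(X, W.1), res L (le_top : W.1 ≤ ⊤) (v l) = c • res L hWU e := fun l => by
    obtain ⟨c, hc⟩ := (he.res hWU).exists_coeff le_rfl (res L (le_top : W.1 ≤ ⊤) (v l))
    rw [res_self] at hc
    exact ⟨c, hc⟩
  choose c hc using hc
  refine ⟨W, hxW, ?_⟩
  have hs : res L (le_top : W.1 ≤ ⊤) (∑ l, a l • v l) =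
      (∑ l, resX X le_top (a l) * c l) • res L hWU e := by
    rw [show res L (le_top : W.1 ≤ ⊤) (∑ l, a l • v l) = ∑ l, res L (le_top : W.1 ≤ ⊤) (a l • v l) from
      map_sum (AddMonoidHom.mk' (fun z => res L (le_top : W.1 ≤ ⊤) z) (fun x y => res_add le_top x y)) _ _, Finset.sum_smul]
    exact Finset.sum_congr rfl fun l _ => by rw [res_smul, hc, smul_smul]
  rw [zero_ideal hL _ W (he.res hWU) hs, Ideal.span_le, Set.singleton_subset_iff,
    Scheme.IdealSheafData.ideal_iSup, iSup_apply]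
  refine Ideal.sum_mem _ fun l _ => Ideal.mem_iSup_of_mem l ?_
  rw [zero_ideal hL (v l) W (he.res hWU) (hc l)]
  exact Ideal.mul_mem_left _ _ (Ideal.mem_span_singleton_self _)

/-- Multiplication by a section does not shrink zero schemes. -/
theorem zero_tmul_le {M : X.Modules} (hL : PicF.IsInvertible L) (hM : PicF.IsInvertible M)
    (s : Γ(L, (⊤ : X.Opens))) (t : Γ(M, (⊤ : X.Opens))) :
    zero (CohB1.tensorMod L M) (tmulSec s t) ≤ zero L s := by
  refine ideal_le_of_cover fun x => ?_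
  obtain ⟨U, e, hxU, he⟩ := (isInvertible_iff_exists_gen _).1 hL x
  obtain ⟨U', e', hxU', he'⟩ := (isInvertible_iff_exists_gen _).1 hM x
  obtain ⟨W, hxW, hWU⟩ := Divisors.exists_affine_le x (U ⊓ U') ⟨hxU, hxU'⟩
  obtain ⟨h1, h2⟩ := le_inf_iff.1 hWU
  obtain ⟨c, hc⟩ := (he.res h1).exists_coeff le_rfl (res L (le_top : W.1 ≤ ⊤) s)
  obtain ⟨d, hd⟩ := (he'.res h2).exists_coeff le_rfl (res M (le_top : W.1 ≤ ⊤) t)
  rw [res_self] at hc hd
  refine ⟨W, hxW, ?_⟩
  rw [zero_ideal hL s W (he.res h1) hc, zero_ideal (isInvertible_tensorMod hL hM) _ W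
    ((he.res h1).tensor (he'.res h2)) (c := c * d)
    (by rw [res_tmulSec, hc, hd, tmulSec_smul_left, tmulSec_smul_right, mul_smul]),
    Ideal.span_le, Set.singleton_subset_iff]
  exact Ideal.mul_mem_right _ _ (Ideal.mem_span_singleton_self _)

/-- Near a point where `t` generates, `s ⊗ t` has the zero scheme of `s`. -/
theorem exists_zero_tmul_ideal_eq {M : X.Modules} (hL : PicF.IsInvertible L) (hM : PicF.IsInvertible M)
    (s : Γ(L, (⊤ : X.Opens))) {t : Γ(M, (⊤ : X.Opens))} {x : X} (hx : x ∈ gloc t) :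
    ∃ W : X.affineOpens, x ∈ W.1 ∧
      (zero (CohB1.tensorMod L M) (tmulSec s t)).ideal W = (zero L s).ideal W := by
  obtain ⟨U, e, hxU, he⟩ := (isInvertible_iff_exists_gen _).1 hL x
  obtain ⟨W, hxW, hWU⟩ := Divisors.exists_affine_le x (U ⊓ gloc t) ⟨hxU, hx⟩
  obtain ⟨h1, h2⟩ := le_inf_iff.1 hWU
  obtain ⟨c, hc⟩ := (he.res h1).exists_coeff le_rfl (res L (le_top : W.1 ≤ ⊤) s)
  rw [res_self] at hc
  refine ⟨W, hxW, ?_⟩
  rw [zero_ideal hL s W (he.res h1) hc, zero_ideal (isInvertible_tensorMod hL hM) _ W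
    ((he.res h1).tensor (gen_gloc t h2)) (c := c)
    (by rw [res_tmulSec, hc, tmulSec_smul_left])]

end Zero

/-- A very ample module has a section generating near any point. -/
theorem exists_mem_gloc_of_veryAmple {S X : Scheme.{u}} {f : X ⟶ S} {L : X.Modules}
    (hL : RelAmple.IsRelVeryAmplePn f L) (x : X) :
    ∃ t : Γ(L, (⊤ : X.Opens)), x ∈ gloc t := by
  obtain ⟨n, i, -, -, ⟨e⟩⟩ := hL
  let j : X ⟶ Proj (CohB1.polyGrading n (ULift.{u} ℤ)) :=
    i ≫ pullback.fst (CohB1.ProjSpace.toSpec n (ULift.{u} ℤ)) (specULiftZIsTerminal.from S)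
  let 𝒜 := CohB1.polyGrading n (ULift.{u} ℤ)
  let θ : L ≅ (Scheme.Modules.pullback j).obj (Twist.twist 𝒜 ((1 * 1 : ℕ) : ℤ)) :=
    e ≪≫ (Scheme.Modules.pullbackComp i _).app _
  have hex : ∀ y : Proj 𝒜, ∃ l : Fin (n + 1),
      y ∈ Proj.basicOpen 𝒜 (MvPolynomial.X l : MvPolynomial (Fin (n + 1)) (ULift.{u} ℤ)) := fun y => by
    by_contra hne
    push Not at hne
    refine (y : ProjectiveSpectrum 𝒜).not_irrelevant_le fun a ha => ?_
    refine (Ideal.span_le.2 ?_) (PnCoh.irrelevant_le_span_X n (ULift.{u} ℤ) ha)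
    rintro _ ⟨l, rfl⟩
    exact not_not.1 (hne l.down)
  have hmem : ∀ l : Fin (n + 1),
      (MvPolynomial.X l : MvPolynomial (Fin (n + 1)) (ULift.{u} ℤ)) ∈ 𝒜 (1 * 1) := fun l =>
    (MvPolynomial.mem_homogeneousSubmodule _ _).mpr (MvPolynomial.isHomogeneous_X _ _)
  have hcov : iSup (fun g : 𝒜 1 => j ⁻¹ᵁ Proj.basicOpen 𝒜 (g : _)) = ⊤ :=
    eq_top_iff.2 fun z _ => by
      obtain ⟨l, hl⟩ := hex (j z)
      exact Opens.mem_iSup.2 ⟨⟨MvPolynomial.X l, hmem l⟩, hl⟩
  obtain ⟨l, hl⟩ := hex (j x)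
  refine ⟨θ.inv.app ⊤ (pullSec j _ (Ega2Proj.globalSec (hmem l))), ?_⟩
  rw [gloc_map θ.inv, PropsBasic.ProjImmAmple.gloc_pullSec_globalSec j (hmem l) hcov]
  exact hl

/-- The constants as global functions. -/
def cst {X : Scheme.{u}} {A : Type u} [CommRing A] (f : X ⟶ Spec (CommRingCat.of A)) : A →+* Γ(X, (⊤ : X.Opens)) :=
  Coh.toGlobal f

/-- Inverse image of a global section, as a global section. -/
def pb {X Y : Scheme.{u}} (f : X ⟶ Y) (M : Y.Modules) (s : Γ(M, (⊤ : Y.Opens))) :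
    Γ((Scheme.Modules.pullback f).obj M, (⊤ : X.Opens)) := pullSec f M s

theorem pb_smul {X Y : Scheme.{u}} (f : X ⟶ Y) (M : Y.Modules) (r : Γ(Y, (⊤ : Y.Opens)))
    (s : Γ(M, (⊤ : Y.Opens))) : pb f M (r • s) = f.appTop r • pb f M s := pullSec_smul f M r s

theorem pb_sum {X Y : Scheme.{u}} (f : X ⟶ Y) (M : Y.Modules) {κ : Type*} (t : Finset κ)
    (g : κ → Γ(M, (⊤ : Y.Opens))) : pb f M (∑ l ∈ t, g l) = ∑ l ∈ t, pb f M (g l) :=
  map_sum (AddMonoidHom.mk' (pb f M) fun x y => Groth.PicAux.BC.pullSec_add f M x y) g t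

theorem zero_pb {X Y : Scheme.{u}} (f : X ⟶ Y) {M : Y.Modules} (hM : PicF.IsInvertible M)
    (s : Γ(M, (⊤ : Y.Opens))) :
    zero ((Scheme.Modules.pullback f).obj M) (pb f M s) = (zero M s).comap f := zero_pull f hM s

section Family

variable (k : Type u) [Field k] {X : Scheme.{u}} [X.Over (Spec (CommRingCat.of k))]
  [IsProper (X ↘ Spec (CommRingCat.of k))]

local notation "fX" => (X ↘ Spec (CommRingCat.of k))

/-- **Uniform growth on subschemes cut out by `N` sections.** -/
theorem exists_bound_cut [Infinite k] {H : X.Modules} (hH : CohB1.IsAmple H) {M D : X.Modules}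
    (hM : PicF.IsInvertible M) (hD : PicF.IsInvertible D) {N : ℕ}
    (e : Fin N → Γ(M, (⊤ : X.Opens))) (d q : ℕ) :
    ∃ C : ℕ, ∀ (a : Fin N → Fin N → k) (Z : Scheme.{u}) [Z.Over (Spec (CommRingCat.of k))]
      (ι : Z ⟶ X) [IsClosedImmersion ι], ι ≫ fX = Z ↘ Spec (CommRingCat.of k) →
      ι.ker = (⨆ j, zero M (∑ l, cst fX (a j l) • e l)) →
      topologicalKrullDim ↥Z ≤ (d : WithBot ℕ∞) → ∀ m : ℕ,
        Module.finrank k (Coh.HH Z ((Scheme.Modules.pullback ι).obj (CohB1.tensorPow D m)) q) ≤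
          C * (m + 1) ^ d := by
  let R := MvPolynomial (Fin N × Fin N) k
  let XR := Limits.pullback fX (Spec.map (CommRingCat.ofHom (algebraMap k R)))
  let pr : XR ⟶ X := pullback.fst _ _
  let fR : XR ⟶ Spec (CommRingCat.of R) := pullback.snd _ _
  have hq : IsPullback pr fR fX (Spec.map (CommRingCat.ofHom (algebraMap k R))) :=
    IsPullback.of_hasPullback _ _
  let MR := (Scheme.Modules.pullback pr).obj M
  let u : Fin N → Γ(MR, (⊤ : XR.Opens)) := fun j =>
    ∑ l, cst fR (MvPolynomial.X (j, l) : R) • pb pr M (e l)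
  let I : XR.IdealSheafData := ⨆ j, zero MR (u j)
  let W := I.subscheme
  let : W.Over (Spec (CommRingCat.of R)) := ⟨I.subschemeι ≫ fR⟩
  have : IsProper fR := MorphismProperty.of_isPullback hq inferInstance
  have : IsProper (W ↘ Spec (CommRingCat.of R)) := inferInstanceAs (IsProper (I.subschemeι ≫ fR))
  let q₀ : W ⟶ X := I.subschemeι ≫ pr
  have : IsAffineHom pr := MorphismProperty.of_isPullback hq.flip inferInstance
  have hAm := Chow.isAmple_pullback_of_isAffineHom q₀ hH
  have : IsLocallyNoetherian W :=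
    LocallyOfFiniteType.isLocallyNoetherian (W ↘ Spec (CommRingCat.of R))
  obtain ⟨C, hC⟩ := exists_affine_bound (A := R) (X := W) hAm
    (isCoh_of_isInvertible (EulerDeg.isInvertible_structureModule W))
    (isInvertible_pullback q₀ hD) d q
  refine ⟨C, fun a Z _ ι _ hι hker hdim m => ?_⟩
  let c : R →ₐ[k] k := MvPolynomial.aeval fun p : Fin N × Fin N => a p.1 p.2
  let : Algebra R k := c.toRingHom.toAlgebra
  have hc : Spec.map (CommRingCat.ofHom (algebraMap R k)) ≫
      Spec.map (CommRingCat.ofHom (algebraMap k R)) = 𝟙 _ := by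
    rw [← Spec.map_comp, ← CommRingCat.ofHom_comp,
      show (algebraMap R k).comp (algebraMap k R) = RingHom.id k from RingHom.ext c.commutes]
    exact Spec.map_id _
  let σ : X ⟶ XR := pullback.lift (𝟙 X) (fX ≫ Spec.map (CommRingCat.ofHom (algebraMap R k)))
    (by rw [Category.id_comp, Category.assoc, hc, Category.comp_id])
  have hσpr : σ ≫ pr = 𝟙 X := pullback.lift_fst _ _ _
  have hσ : IsPullback σ fX fR (Spec.map (CommRingCat.ofHom (algebraMap R k))) := by
    refine IsPullback.of_right ?_ (pullback.lift_snd _ _ _) hq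
    rw [show pullback.lift _ _ _ ≫ pr = 𝟙 X from hσpr, hc]
    exact IsPullback.of_horiz_isIso ⟨by simp⟩
  have hu : ∀ j, pb σ MR (u j) = pb σ MR (pb pr M (∑ l, cst fX (a j l) • e l)) := by
    intro j
    simp only [u, pb_sum, pb_smul]
    refine Finset.sum_congr rfl fun l _ => ?_
    congr 1
    change σ.appTop (Coh.toGlobal fR _) = σ.appTop (pr.appTop (Coh.toGlobal fX (a j l)))
    have e1 : ∀ z : R, σ.appTop (Coh.toGlobal fR z) = Coh.toGlobal fX (c z) := fun z => by
      rw [show Coh.toGlobal fX (c z) =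
        Coh.toGlobal (fX ≫ Spec.map (CommRingCat.ofHom (algebraMap R k))) z from
          (PnCoh.toGlobal_comp_specMap fX (algebraMap R k) z).symm,
        ← (pullback.lift_snd _ _ _ : σ ≫ fR = fX ≫ _)]
      rfl
    have e2 : ∀ z : k, σ.appTop (pr.appTop (Coh.toGlobal fX z)) = Coh.toGlobal fX z := fun z => by
      rw [← CommRingCat.comp_apply, ← Scheme.Hom.comp_appTop, hσpr]
      rfl
    rw [e1, e2]
    exact congrArg _ (MvPolynomial.aeval_X _ _)
  have hcomap : I.comap σ = ι.ker := by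
    rw [hker, (Scheme.IdealSheafData.map_gc σ).l_iSup]
    refine iSup_congr fun j => ?_
    rw [← zero_pb σ (isInvertible_pullback pr hM), hu, zero_pb σ (isInvertible_pullback pr hM),
      zero_pb pr hM, ← Scheme.IdealSheafData.comap_comp, hσpr, Scheme.IdealSheafData.comap_id]
  let g : Z ⟶ W := IsClosedImmersion.lift I.subschemeι (ι ≫ σ) (by
    rw [Scheme.IdealSheafData.ker_subschemeι, ← Scheme.IdealSheafData.map_ker]
    exact Scheme.IdealSheafData.le_map_iff_comap_le.2 hcomap.le)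
  have hgι : g ≫ I.subschemeι = ι ≫ σ := IsClosedImmersion.lift_fac _ _ _
  have hgq : g ≫ q₀ = ι := by
    rw [← Category.assoc, hgι, Category.assoc, hσpr, Category.comp_id]
  have hsq : IsPullback g ι I.subschemeι σ :=
    (isPullback_of_isClosedImmersion ι I.subschemeι g σ hgι.symm
      (by rw [Scheme.IdealSheafData.ker_subschemeι, hcomap])).flip
  have hg : IsBC (A := R) (A' := k) g := by
    have := hsq.paste_vert hσ
    rwa [hι] at this
  have h := hC ⟨k, Z, g, hg, hdim⟩ m
  refine le_of_eq_of_le (h_congr k ?_ q).symm h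
  exact (Scheme.Modules.pullback g).mapIso ((tensor_one _).some ≪≫ (pullback_tensorPow q₀ D m).some.symm) ≪≫
    (Scheme.Modules.pullbackComp g q₀).app _ ≪≫
    eqToIso (congrArg (fun b => (Scheme.Modules.pullback b).obj (CohB1.tensorPow D m)) hgq)

end Family

end Groth.Variety2.Growth
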