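import Groth.Agent.Variety2.Growth.Rank
import Groth.Agent.Divisors.Assoc
import Groth.Agent.S1576

/-!
# Sections avoiding the associated points
-/

set_option autoImplicit false

universe u

open CategoryTheory CategoryTheory.Limits AlgebraicGeometry TopologicalSpace Opposite

noncomputable section

namespace Groth.Variety2.Growth

open Groth.PicAux Groth.HilbStab Groth.PropsBasic.Ample Groth.Inter

variable {X : Scheme.{u}}

/-- The associated points of a coherent module on a Noetherian scheme are finite in number. -/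
theorem finite_assPoints [IsNoetherian X] {F : X.Modules} (hF : Coh.IsCoh F) :
    {x : X | Curv2.IsAssPoint F x}.Finite :=
  (Groth.Agent.S1576.result X F hF ⊤ CompactSpace.isCompact_univ).subset fun _ hx => ⟨trivial, hx⟩

/-- A section nonvanishing at the associated points multiplies injectively. -/
theorem mono_mulSec_of_assPoints [IsLocallyNoetherian X] {M F : X.Modules} (hF : Coh.IsCoh F)
    (s : Γ(M, (⊤ : X.Opens))) (hs : ∀ x : X, Curv2.IsAssPoint F x → x ∈ gloc s) :
    Mono (mulSec s F) := by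
  rw [Groth.CohTwo.mono_iff_app_injective]
  intro W a b hab
  have h0 : ∀ c : Γ(F, W), (mulSec s F).app W c = 0 → c = 0 := fun c hc => by
    have hU : W ⊓ gloc s ≤ W := inf_le_left
    refine Groth.Divisors.restrict_injective (F := F) hF.1 hU (fun x hx hwa =>
      ⟨hx, hs x (Groth.Divisors.isAssPoint_iff_weak.mpr hwa)⟩) ?_
    rw [map_zero]
    refine (mulSec_app_bijective s F (inf_le_right : W ⊓ gloc s ≤ gloc s)).1 ?_
    rw [map_zero]
    change (mulSec s F).app (W ⊓ gloc s) (res F hU c) = 0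
    rw [app_res, hc, res_zero]
  exact sub_eq_zero.1 (h0 (a - b) (by rw [map_sub, hab, sub_self]))

/-- Cutting by such a section drops the dimension. -/
theorem dim_cokernel_mulSec_lt [IsNoetherian X] {M F : X.Modules} (hF : Coh.IsCoh F)
    (hM : PicF.IsInvertible M) (s : Γ(M, (⊤ : X.Opens)))
    (hs : ∀ x : X, Curv2.IsAssPoint F x → x ∈ gloc s) (d : ℕ)
    (hd : topologicalKrullDim (CohB1.support F) ≤ (d : WithBot ℕ∞)) :
    topologicalKrullDim (CohB1.support (cokernel (mulSec s F))) < ((d : ℕ) : WithBot ℕ∞) := by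
  classical
  have hFM : Coh.IsCoh (CohB1.tensorMod F M) := RefRank.isCoh_tensorMod hF (isCoh_of_isInvertible hM)
  have := hF.1
  have := hFM.1
  have hQ : Coh.IsCoh (cokernel (mulSec s F)) := QCohMod.isCoh_cokernel _ hFM
  have hsub : CohB1.support (cokernel (mulSec s F)) ⊆ CohB1.support F :=
    (CohTwo.support_subset_of_epi (cokernel.π (mulSec s F))).trans (HilbStab.support_tensorMod_subset hM F)
  have hle : ∀ y ∈ CohB1.support F, Order.height y ≤ (d : ℕ∞) := fun y hy => by
    rw [Groth.Variety2.Dim.dim_closed (CohTwo.isClosed_support _ hF)] at hd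
    exact WithBot.coe_le_coe.1 ((le_iSup₂ (f := fun z (_ : z ∈ CohB1.support F) =>
      ((Order.height z : ℕ∞) : WithBot ℕ∞)) y hy).trans hd)
  have hlt : ∀ x ∈ CohB1.support (cokernel (mulSec s F)), Order.height x < (d : ℕ∞) := fun x hx => by
    let P : ℕ → Prop := fun m => ∃ y ∈ CohB1.support F, y ⤳ x ∧ Order.height y = (m : ℕ∞)
    obtain ⟨m₀, hm₀⟩ := ENat.ne_top_iff_exists.1 (ne_top_of_le_ne_top (ENat.natCast_ne_top d) (hle x (hsub hx)))
    have hm₀d : m₀ ≤ d := by
      have := hle x (hsub hx)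
      rw [← hm₀] at this
      exact_mod_cast this
    obtain ⟨y, hy, hyx, hh⟩ : P (Nat.findGreatest P d) :=
      Nat.findGreatest_spec (P := P) hm₀d ⟨x, hsub hx, specializes_rfl, hm₀.symm⟩
    have hmax : ∀ z ∈ CohB1.support F, z ⤳ y → z = y := fun z hz hzy => by
      by_contra hne
      have hlt' : Order.height y < Order.height z :=
        Order.height_strictMono (lt_of_le_not_ge hzy fun h => hne (hzy.antisymm h).eq)
          (hh ▸ ENat.natCast_lt_top _)
      obtain ⟨m, hm⟩ := ENat.ne_top_iff_exists.1 (ne_top_of_le_ne_top (ENat.natCast_ne_top d) (hle z hz))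
      have hmd : m ≤ d := by
        have := hle z hz
        rw [← hm] at this
        exact_mod_cast this
      have := Nat.le_findGreatest (P := P) hmd ⟨z, hz, hzy.trans hyx, hm.symm⟩
      rw [hh, ← hm] at hlt'
      exact absurd (by exact_mod_cast hlt' : Nat.findGreatest P d < m) (not_lt.2 this)
    have hys : y ∈ gloc s := hs y (Groth.Divisors.isAssPoint_iff_weak.mpr
      (Groth.Divisors.weakAss_of_maximal_support hF.1 hy hmax))
    have hne : y ≠ x := fun h => support_cokernel_mulSec_subset s F hx (h ▸ hys)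
    exact lt_of_lt_of_le (Order.height_strictMono (lt_of_le_not_ge hyx fun h => hne (hyx.antisymm h).eq)
      (lt_of_le_of_lt (hle x (hsub hx)) (ENat.natCast_lt_top d))) (hle y hy)
  rw [Groth.Variety2.Dim.dim_closed (CohTwo.isClosed_support _ hQ)]
  cases d with
  | zero =>
    rw [show CohB1.support (cokernel (mulSec s F)) = ∅ from Set.eq_empty_of_forall_notMem fun x hx =>
      (by simpa using hlt x hx)]
    simp
  | succ e =>
    refine lt_of_le_of_lt (iSup₂_le fun x hx => WithBot.coe_le_coe.2 (?_ : Order.height x ≤ (e : ℕ∞)))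
      (WithBot.coe_lt_coe.2 (by exact_mod_cast e.lt_succ_self))
    have := hlt x hx
    push_cast at this
    exact (ENat.lt_add_one_iff (ENat.natCast_ne_top e)).1 this

variable (k : Type u) [Field k] [X.Over (Spec (CommRingCat.of k))]

/-- Over an infinite field a globally generated invertible module has a section nonvanishing at
finitely many prescribed points. -/
theorem exists_mem_gloc_finite [Infinite k] {H : X.Modules} (hH : PicF.IsInvertible H)
    (hgg : Curv2.IsGloballyGenerated H) {S : Set X} (hS : S.Finite) :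
    ∃ t : Γ(H, (⊤ : X.Opens)), ∀ x ∈ S, x ∈ gloc t := by
  refine Set.Finite.induction_on S hS ⟨0, by simp⟩ ?_
  intro x S _ hS' ⟨t₁, ht₁⟩
  by_cases hx : x ∈ gloc t₁
  · exact ⟨t₁, by rintro y (rfl | hy); exacts [hx, ht₁ y hy]⟩
  obtain ⟨t₂, ht₂⟩ := VarietyBC.GGen.exists_mem_gloc hH hgg x
  let g : k →+* Γ(X, (⊤ : X.Opens)) := Coh.toGlobal (X ↘ Spec (CommRingCat.of k))
  let T : k → Γ(H, (⊤ : X.Opens)) := fun a => g a • t₁ + t₂
  have key : ∀ y : X, ∃ (U : X.Opens) (hy : y ∈ U) (c₁ c₂ : Γ(X, U)),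
      (∀ a : k, y ∈ gloc (T a) ↔
        IsUnit (X.presheaf.germ U y hy (resX X le_top (g a) * c₁ + c₂))) ∧
      (y ∈ gloc t₁ ↔ IsUnit (X.presheaf.germ U y hy c₁)) ∧
      (y ∈ gloc t₂ ↔ IsUnit (X.presheaf.germ U y hy c₂)) := fun y => by
    obtain ⟨U, e, -, hy, he⟩ := exists_affine_gen_mem hH y
    obtain ⟨c₁, hc₁⟩ := he.exists_coeff le_rfl (res H le_top t₁)
    obtain ⟨c₂, hc₂⟩ := he.exists_coeff le_rfl (res H le_top t₂)
    rw [res_self] at hc₁ hc₂
    have h1 : ∀ (t : Γ(H, (⊤ : X.Opens))) (c : Γ(X, U)), res H le_top t = c • e →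
        (y ∈ gloc t ↔ IsUnit (X.presheaf.germ U y hy c)) := fun t c hc => by
      rw [← Scheme.mem_basicOpen _ c y hy, ← gloc_inf_eq_basicOpen he hc]
      exact ⟨fun h => ⟨h, hy⟩, fun h => h.1⟩
    refine ⟨U, hy, c₁, c₂, fun a => h1 (T a) _ ?_, h1 t₁ c₁ hc₁, h1 t₂ c₂ hc₂⟩
    rw [res_add, res_smul, hc₁, hc₂, smul_smul, ← add_smul]
  have hbad : ∀ y ∈ S, {a : k | y ∉ gloc (T a)}.Subsingleton := fun y hyS a ha b hb => by
    obtain ⟨U, hy, c₁, c₂, hT, h1, -⟩ := key y
    by_contra hab
    have ha' : ¬ IsUnit (X.presheaf.germ U y hy (resX X le_top (g a) * c₁ + c₂)) := fun h => ha ((hT a).2 h)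
    have hb' : ¬ IsUnit (X.presheaf.germ U y hy (resX X le_top (g b) * c₁ + c₂)) := fun h => hb ((hT b).2 h)
    rw [← mem_nonunits_iff] at ha' hb'
    have hsub := (IsLocalRing.maximalIdeal (X.presheaf.stalk y)).sub_mem ha' hb'
    have hu : IsUnit ((X.presheaf.germ U y hy).hom (resX X le_top (g (a - b)))) :=
      ((sub_ne_zero.2 hab).isUnit.map g).map ((X.presheaf.germ U y hy).hom.comp (resX X le_top))
    refine (mem_nonunits_iff.1 hsub) ?_
    rw [← map_sub, show resX X le_top (g a) * c₁ + c₂ - (resX X le_top (g b) * c₁ + c₂) =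
      resX X le_top (g (a - b)) * c₁ by rw [map_sub, map_sub]; ring, map_mul]
    exact hu.mul (h1.1 (ht₁ y hyS))
  obtain ⟨a, ha⟩ : ∃ a : k, ∀ y ∈ S, y ∈ gloc (T a) := by
    by_contra hne
    simp only [not_exists, not_forall] at hne
    refine (Set.infinite_univ (α := k)) ((hS'.biUnion fun y hy => (hbad y hy).finite).subset fun a _ => ?_)
    obtain ⟨y, hy, h⟩ := hne a
    exact Set.mem_iUnion₂.2 ⟨y, hy, h⟩
  refine ⟨T a, ?_⟩
  rintro y (rfl | hy)
  · obtain ⟨U, hy, c₁, c₂, hT, h1, h2⟩ := key y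
    refine (hT a).2 ?_
    rw [map_add]
    by_contra h
    have hc₁ : ¬ IsUnit (X.presheaf.germ U y hy c₁) := fun h' => hx (h1.2 h')
    rw [← mem_nonunits_iff] at h hc₁
    have hm : X.presheaf.germ U y hy (resX X le_top (g a) * c₁) ∈ IsLocalRing.maximalIdeal (X.presheaf.stalk y) := by
      rw [map_mul]
      exact Ideal.mul_mem_left _ _ hc₁
    have := (IsLocalRing.maximalIdeal (X.presheaf.stalk y)).sub_mem h hm
    rw [add_sub_cancel_left] at this
    exact mem_nonunits_iff.1 this (h2.1 ht₂)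
  · exact ha y hy

end Groth.Variety2.Growth
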