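import Groth.Agent.Variety2.Growth.Homog
import Groth.Agent.Inter.Snapper

/-!
# Growth of cohomology in families of invertible twists
-/

set_option autoImplicit false

universe u

open CategoryTheory CategoryTheory.Limits AlgebraicGeometry TopologicalSpace Opposite

noncomputable section

namespace Groth.Variety2.Growth

open Groth.PicAux Groth.HilbStab Groth.PropsBasic.Ample Groth.Inter

variable (k : Type u) [Field k] {X : Scheme.{u}} [X.Over (Spec (CommRingCat.of k))]

variable {ι : Type} (B : ι → X.Modules)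

/-- `dim H^q(F ⊗ B i)`. -/
def hF (F : X.Modules) (q : ℕ) (i : ι) : ℕ := h k (CohB1.tensorMod F (B i)) q

lemma hF_isZero {F : X.Modules} (hz : IsZero F) (q : ℕ) (i : ι) : hF k B F q i = 0 :=
  h_isZero k ((DCoh.tensorRightMod (B i)).map_isZero hz) q

lemma hF_congr {F G : X.Modules} (e : F ≅ G) (q : ℕ) (i : ι) : hF k B F q i = hF k B G q i :=
  h_congr k (tensor_congr ⟨e⟩ ⟨Iso.refl _⟩).some q

variable [IsProper (X ↘ Spec (CommRingCat.of k))]

/-- `h^q(F ⊗ B i) = O(w i)` in every degree. -/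
def BndF (w : ι → ℕ) (F : X.Modules) : Prop :=
  ∀ q : ℕ, ∃ C : ℕ, ∀ j : ι, hF k B F q j ≤ C * w j

/-- `h^q(F ⊗ B i) - h^q(G ⊗ B i) = O(w i)` in every degree. -/
def CloseF (w : ι → ℕ) (F G : X.Modules) : Prop :=
  ∀ q : ℕ, ∃ C : ℕ, ∀ j : ι,
    hF k B F q j ≤ hF k B G q j + C * w j ∧ hF k B G q j ≤ hF k B F q j + C * w j

variable {k B} {w : ι → ℕ}

omit [IsProper (X ↘ Spec (CommRingCat.of k))] in
theorem bndF_iso {F G : X.Modules} (e : F ≅ G) (b : BndF k B w F) : BndF k B w G := fun q => by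
  obtain ⟨C, hC⟩ := b q
  exact ⟨C, fun j => (hF_congr k B e.symm q j).trans_le (hC j)⟩

omit [IsProper (X ↘ Spec (CommRingCat.of k))] in
theorem bndF_isZero {F : X.Modules} (hz : IsZero F) : BndF k B w F :=
  fun q => ⟨0, fun j => by rw [hF_isZero k B hz]; exact Nat.zero_le _⟩

omit [IsProper (X ↘ Spec (CommRingCat.of k))] in
theorem closeF_of_iso {F G : X.Modules} (e : F ≅ G) : CloseF k B w F G :=
  fun q => ⟨0, fun j => by rw [hF_congr k B e]; exact ⟨Nat.le_add_right _ _, Nat.le_add_right _ _⟩⟩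

omit [IsProper (X ↘ Spec (CommRingCat.of k))] in
theorem CloseF.symm {F G : X.Modules} (c : CloseF k B w F G) : CloseF k B w G F := fun q => by
  obtain ⟨C, hC⟩ := c q
  exact ⟨C, fun j => (hC j).symm⟩

omit [IsProper (X ↘ Spec (CommRingCat.of k))] in
theorem CloseF.trans {F G H : X.Modules} (c : CloseF k B w F G) (c' : CloseF k B w G H) :
    CloseF k B w F H := fun q => by
  obtain ⟨C, hC⟩ := c q
  obtain ⟨C', hC'⟩ := c' q
  refine ⟨C + C', fun j => ?_⟩
  have := hC j
  have := hC' j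
  rw [add_mul]
  omega

lemma isCoh_fam (hB : ∀ i, PicF.IsInvertible (B i)) {F : X.Modules} (hF : Coh.IsCoh F) (j : ι) :
    Coh.IsCoh (CohB1.tensorMod F (B j)) :=
  RefRank.isCoh_tensorMod hF (isCoh_of_isInvertible (hB j))

variable (hB : ∀ i, PicF.IsInvertible (B i))

section ShortExact

variable {S : ShortComplex X.Modules} (hS : S.ShortExact) (h₁ : Coh.IsCoh S.X₁) (h₂ : Coh.IsCoh S.X₂)
  (h₃ : Coh.IsCoh S.X₃)

include hB hS h₁ h₂ h₃

theorem hF_mid_le (q : ℕ) (j : ι) : hF k B S.X₂ q j ≤ hF k B S.X₁ q j + hF k B S.X₃ q j :=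
  h_mid_le k (shortExact_tensorRightMod (hB j) hS) (isCoh_fam hB h₁ j) (isCoh_fam hB h₂ j) (isCoh_fam hB h₃ j) q

theorem hF_right_le (q : ℕ) (j : ι) : hF k B S.X₃ q j ≤ hF k B S.X₂ q j + hF k B S.X₁ (q + 1) j :=
  h_right_le k (shortExact_tensorRightMod (hB j) hS) (isCoh_fam hB h₁ j) (isCoh_fam hB h₂ j) (isCoh_fam hB h₃ j) q

theorem hF_left_zero_le (j : ι) : hF k B S.X₁ 0 j ≤ hF k B S.X₂ 0 j := by
  have := h_left_zero_le k (shortExact_tensorRightMod (hB j) hS)
    (isCoh_fam hB h₁ j) (isCoh_fam hB h₂ j) (isCoh_fam hB h₃ j)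
  unfold hF
  exact this

theorem hF_left_succ_le (q : ℕ) (j : ι) :
    hF k B S.X₁ (q + 1) j ≤ hF k B S.X₃ q j + hF k B S.X₂ (q + 1) j :=
  h_left_succ_le k (shortExact_tensorRightMod (hB j) hS) (isCoh_fam hB h₁ j) (isCoh_fam hB h₂ j) (isCoh_fam hB h₃ j) q

theorem bndF_mid (b₁ : BndF k B w S.X₁) (b₃ : BndF k B w S.X₃) : BndF k B w S.X₂ := fun q => by
  obtain ⟨C₁, hC₁⟩ := b₁ q
  obtain ⟨C₃, hC₃⟩ := b₃ q
  refine ⟨C₁ + C₃, fun j => (hF_mid_le hB hS h₁ h₂ h₃ q j).trans ?_⟩
  rw [add_mul]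
  exact Nat.add_le_add (hC₁ j) (hC₃ j)

theorem bndF_left (b₂ : BndF k B w S.X₂) (b₃ : BndF k B w S.X₃) : BndF k B w S.X₁ := fun q => by
  cases q with
  | zero =>
    obtain ⟨C₂, hC₂⟩ := b₂ 0
    exact ⟨C₂, fun j => (hF_left_zero_le hB hS h₁ h₂ h₃ j).trans (hC₂ j)⟩
  | succ q =>
    obtain ⟨C₂, hC₂⟩ := b₂ (q + 1)
    obtain ⟨C₃, hC₃⟩ := b₃ q
    refine ⟨C₃ + C₂, fun j => (hF_left_succ_le hB hS h₁ h₂ h₃ q j).trans ?_⟩
    rw [add_mul]
    exact Nat.add_le_add (hC₃ j) (hC₂ j)

/-- Removing a small sub-module. -/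
theorem closeF_of_left (b₁ : BndF k B w S.X₁) : CloseF k B w S.X₂ S.X₃ := fun q => by
  obtain ⟨C, hC⟩ := b₁ q
  obtain ⟨C', hC'⟩ := b₁ (q + 1)
  refine ⟨C + C', fun j => ?_⟩
  have q1 := hF_mid_le (k := k) hB hS h₁ h₂ h₃ q j
  have q2 := hF_right_le (k := k) hB hS h₁ h₂ h₃ q j
  have := hC j
  have := hC' j
  rw [add_mul]
  omega

/-- Removing a small quotient. -/
theorem closeF_of_right (b₃ : BndF k B w S.X₃) : CloseF k B w S.X₁ S.X₂ := fun q => by
  cases q with
  | zero =>
    obtain ⟨C, hC⟩ := b₃ 0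
    refine ⟨C, fun j => ?_⟩
    have q1 := hF_mid_le (k := k) hB hS h₁ h₂ h₃ 0 j
    have q2 := hF_left_zero_le (k := k) hB hS h₁ h₂ h₃ j
    have := hC j
    omega
  | succ q =>
    obtain ⟨C, hC⟩ := b₃ (q + 1)
    obtain ⟨C', hC'⟩ := b₃ q
    refine ⟨C + C', fun j => ?_⟩
    have q1 := hF_mid_le (k := k) hB hS h₁ h₂ h₃ (q + 1) j
    have q2 := hF_left_succ_le (k := k) hB hS h₁ h₂ h₃ q j
    have := hC j
    have := hC' j
    rw [add_mul]
    omega

end ShortExact

include hB in
/-- A morphism with small kernel and cokernel. -/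
theorem closeF_of_hom {M N : X.Modules} (f : M ⟶ N) (hM : Coh.IsCoh M) (hN : Coh.IsCoh N)
    (bK : BndF k B w (kernel f)) (bQ : BndF k B w (cokernel f)) : CloseF k B w M N := by
  have : IsNoetherian X := isNoetherian k
  obtain ⟨I, π, ι, w₁, Q, c, w₂, s1, s2, hI, hQ, hK, ⟨e⟩⟩ := exists_factor (L := Coh.structureModule X) (EulerDeg.isInvertible_structureModule X) f hM hN
  have c1 := closeF_of_left (k := k) (w := w) hB s1 hK hM hI bK
  have c2 := closeF_of_right (k := k) (w := w) hB s2 hI hN hQ (bndF_iso e bQ)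
  exact c1.trans c2

variable {s : Type} [Fintype s] [DecidableEq s] {T : (s → ℕ) → X.Modules} {G : s → X.Modules}
  (hT : ∀ e, PicF.IsInvertible (T e)) (hG : ∀ t, PicF.IsInvertible (G t))
  (hstep : ∀ e t, Nonempty (T (e + Pi.single t 1) ≅ CohB1.tensorMod (T e) (G t)))

include hT hG hstep in
/-- Raising one exponent, when the modules missing the chosen point are small. -/
theorem exists_stepF {A : X.Modules} (hA : CohB1.IsAmple A) {F : X.Modules} (hF' : Coh.IsCoh F) (ξ : X)
    {w : (s → ℕ) → ℕ} (hsmall : ∀ H : X.Modules, Coh.IsCoh H → CohB1.support H ⊆ CohB1.support F →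
      ξ ∉ CohB1.support H → BndF k T w H) :
    ∀ q : ℕ, ∃ D : ℕ, ∀ e t,
      hF k T F q (e + Pi.single t 1) ≤ hF k T F q e + D * (w e + w (e + Pi.single t 1)) ∧
      hF k T F q e ≤ hF k T F q (e + Pi.single t 1) + D * (w e + w (e + Pi.single t 1)) := by
  have hN : IsNoetherian X := isNoetherian k
  have hOc := isCoh_of_isInvertible (EulerDeg.isInvertible_structureModule X)
  have := hOc.1
  choose p₁ hp₁ using fun t =>
    haveI := (isCoh_of_isInvertible (hG t)).1
    Chow.exists_isGloballyGenerated_twist hA (G t) (isCoh_of_isInvertible (hG t)).2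
  obtain ⟨p₂, hp₂⟩ := Chow.exists_isGloballyGenerated_twist hA (Coh.structureModule X) hOc.2
  let P := CohB1.tensorPow A (Finset.univ.sup p₁ + p₂)
  let C := CohB1.tensorMod (Coh.structureModule X) P
  let Bt := fun t => CohB1.tensorMod (G t) P
  have hP : PicF.IsInvertible P := isInvertible_tensorPow hA.1 _
  have hBt : ∀ t, PicF.IsInvertible (Bt t) := fun t => isInvertible_tensorMod (hG t) hP
  have hC : PicF.IsInvertible C :=
    isInvertible_tensorMod (EulerDeg.isInvertible_structureModule X) hP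
  choose b hb using fun t => VarietyBC.GGen.exists_mem_gloc (hBt t)
    (hp₁ t _ (le_trans (Finset.le_sup (Finset.mem_univ t)) (Nat.le_add_right _ _))) ξ
  obtain ⟨c, hc⟩ := VarietyBC.GGen.exists_mem_gloc hC (hp₂ _ (Nat.le_add_left _ _)) ξ
  have := hF'.1
  have key : ∀ (M : X.Modules) (t : Γ(M, (⊤ : X.Opens))), PicF.IsInvertible M → ξ ∈ gloc t →
      CloseF k T w F (CohB1.tensorMod F M) := fun M t hM ht => by
    have hFM : Coh.IsCoh (CohB1.tensorMod F M) := RefRank.isCoh_tensorMod hF' (isCoh_of_isInvertible hM)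
    have := hFM.1
    refine closeF_of_hom hT (mulSec t F) hF' hFM ?_ ?_
    · exact hsmall _ (QCohMod.isCoh_kernel _ hF') (CohTwo.support_subset_of_mono (kernel.ι _))
        fun hm => support_kernel_mulSec_subset t F hm ht
    · refine hsmall _ (QCohMod.isCoh_cokernel _ hFM) (fun x hx => ?_)
        fun hm => support_cokernel_mulSec_subset t F hm ht
      have := (isCoh_of_isInvertible hM).1
      have hx' : x ∈ CohB1.support (CohB1.tensorMod F M) :=
        CohTwo.support_subset_of_epi (cokernel.π (mulSec t F)) hx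
      rw [Groth.QCohMod.support_tensorMod F M hF'.2 (isCoh_of_isInvertible hM).2] at hx'
      exact hx'.1
  intro q
  choose D₁ hD₁ using fun t => key (Bt t) (b t) (hBt t) (hb t) q
  obtain ⟨D₂, hD₂⟩ := key C c hC hc q
  refine ⟨Finset.univ.sup D₁ + D₂, fun e t => ?_⟩
  obtain ⟨es⟩ := hstep e t
  have e' : hF k T (CohB1.tensorMod F C) q (e + Pi.single t 1) = hF k T (CohB1.tensorMod F (Bt t)) q e :=
    h_congr k ((tensor_assoc F C _).some ≪≫ (tensor_congr ⟨Iso.refl F⟩
      ⟨(tensor_congr ⟨Iso.refl C⟩ ⟨es⟩).some ≪≫ (tensor_comm C _).some ≪≫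
        (tensor_assoc (T e) (G t) C).some ≪≫ (tensor_congr ⟨Iso.refl (T e)⟩
        (tensor_congr ⟨Iso.refl (G t)⟩ (tensor_one P))).some ≪≫ (tensor_comm (T e) (Bt t)).some⟩).some ≪≫
      (tensor_assoc F (Bt t) (T e)).some.symm) q
  have h1 := hD₁ t e
  have h2 := hD₂ (e + Pi.single t 1)
  have h3 : D₁ t ≤ Finset.univ.sup D₁ := Finset.le_sup (Finset.mem_univ t)
  have h4 := Nat.mul_le_mul_right (w e) h3
  have h5 : (Finset.univ.sup D₁ + D₂) * (w e + w (e + Pi.single t 1)) =
      Finset.univ.sup D₁ * w e + Finset.univ.sup D₁ * w (e + Pi.single t 1) +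
        (D₂ * w e + D₂ * w (e + Pi.single t 1)) := by ring
  constructor <;> omega

omit [Fintype s] in
/-- Walk between two exponents one step at a time. -/
lemma walk_le (g : (s → ℕ) → ℕ) (R K : ℕ) (S : Finset s)
    (hg : ∀ e t, (∀ u, e u + (Pi.single t 1 : s → ℕ) u ≤ R) →
      g (e + Pi.single t 1) ≤ g e + K ∧ g e ≤ g (e + Pi.single t 1) + K) :
    ∀ (N : ℕ) (a b : s → ℕ), (∀ u, a u ≤ R) → (∀ u, b u ≤ R) → (∀ u ∉ S, a u = b u) →
      (∑ u ∈ S, ((a u - b u) + (b u - a u))) ≤ N → g a ≤ g b + N * K := by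
  intro N
  induction N with
  | zero =>
    intro a b _ _ hS h
    have hab : a = b := funext fun u => by
      by_cases hu : u ∈ S
      · have := Finset.sum_eq_zero_iff.1 (Nat.le_zero.1 h) u hu
        omega
      · exact hS u hu
    rw [hab]
    exact Nat.le_add_right _ _
  | succ N ih =>
    intro a b ha hb hS h
    by_cases h0 : (∑ u ∈ S, ((a u - b u) + (b u - a u))) ≤ N
    · exact (ih a b ha hb hS h0).trans (by rw [add_mul, one_mul]; omega)
    obtain ⟨t, ht, hne⟩ : ∃ t ∈ S, a t ≠ b t := by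
      by_contra hall
      simp only [not_exists, not_and, not_not] at hall
      exact h0 ((Finset.sum_eq_zero fun u hu => by rw [hall u hu]; omega).trans_le (Nat.zero_le N))
    have hsum : ∀ a' : s → ℕ, (∀ u ≠ t, a' u = a u) →
        (a' t - b t) + (b t - a' t) + 1 = (a t - b t) + (b t - a t) →
        (∑ u ∈ S, ((a' u - b u) + (b u - a' u))) ≤ N := fun a' ha' h1 => by
      rw [← Finset.add_sum_erase _ _ ht]
      rw [← Finset.add_sum_erase _ _ ht] at h
      have : ∑ u ∈ S.erase t, ((a' u - b u) + (b u - a' u)) = ∑ u ∈ S.erase t, ((a u - b u) + (b u - a u)) :=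
        Finset.sum_congr rfl fun u hu => by rw [ha' u (Finset.ne_of_mem_erase hu)]
      omega
    rcases lt_or_gt_of_ne hne with hlt | hgt
    · have ha1 : ∀ u, a u + (Pi.single t 1 : s → ℕ) u ≤ R := fun u => by
        by_cases hu : u = t
        · subst hu; rw [Pi.single_eq_same]; have := hb u; omega
        · rw [Pi.single_eq_of_ne hu]; have := ha u; omega
      have h1 := (hg a t ha1).2
      have h2 := ih (a + Pi.single t 1) b ha1 hb
        (fun u hu => by
          rw [Pi.add_apply, Pi.single_eq_of_ne (fun h : u = t => hu (h ▸ ht)), add_zero]; exact hS u hu)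
        (hsum _ (fun u hu => by rw [Pi.add_apply, Pi.single_eq_of_ne hu, add_zero])
          (by rw [Pi.add_apply, Pi.single_eq_same]; omega))
      rw [add_mul, one_mul]
      omega
    · let a' := Function.update a t (a t - 1)
      have hea : a' + Pi.single t 1 = a := funext fun u => by
        by_cases hu : u = t
        · subst hu; simp only [a', Pi.add_apply, Function.update_self, Pi.single_eq_same]; omega
        · simp only [a', Pi.add_apply, Function.update_of_ne hu, Pi.single_eq_of_ne hu, add_zero]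
      have h1 := hg a' t (fun u => (congrFun hea u).trans_le (ha u))
      rw [hea] at h1
      have h2 := ih a' b (fun u => le_trans (le_trans (Nat.le_add_right _ _) (congrFun hea u).le) (ha u)) hb
        (fun u hu => by
          simp only [a', Function.update_of_ne (fun h : u = t => hu (h ▸ ht))]; exact hS u hu)
        (hsum _ (fun u hu => by simp only [a', Function.update_of_ne hu])
          (by simp only [a', Function.update_self]; omega))
      rw [add_mul, one_mul]
      have := h1.1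
      omega

/-- The weight `(|e| + 1)^r`. -/
def fwgt (r : ℕ) (e : s → ℕ) : ℕ := ((∑ t, e t) + 1) ^ r

include hT hG hstep in
/-- `h^q(F ⊗ T e) = O((|e| + 1)^{dim F})`. -/
theorem bndF_of_dim {A : X.Modules} (hA : CohB1.IsAmple A) :
    ∀ (r : ℕ) {F : X.Modules}, Coh.IsCoh F → topologicalKrullDim (CohB1.support F) ≤ (r : ℕ) →
      BndF k T (fwgt r) F := by
  have hN : IsNoetherian X := isNoetherian k
  intro r
  induction r using Nat.strong_induction_on with
  | _ r IH =>
  intro F₀ hF₀ hd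
  refine CohTwo.coh_induction (BndF k T (fwgt r)) (fun _ _ e b => bndF_iso e.some b)
    (fun _ h => bndF_isZero h) (fun S hS a b c p q => bndF_mid hT hS a b c p q) (CohB1.support F₀) ?_
    (CohTwo.isClosed_support F₀ hF₀) F₀ hF₀ subset_rfl
  intro Y ξ hY hYF M hM hkill hsmall
  have := hM.1
  obtain rfl : Y = ⟨closure {ξ}, isClosed_closure⟩ := Closeds.ext hY
  have hGs : CohB1.support M ⊆ closure {ξ} := hkill.support_subset.trans (by
    rw [Scheme.IdealSheafData.coe_support_vanishingIdeal]; rfl)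
  have hZd : topologicalKrullDim (closure ({ξ} : Set X)) ≤ (r : ℕ) :=
    (LocCohTransform.topologicalKrullDim_mono hYF).trans hd
  have hlt : ∀ H : X.Modules, Coh.IsCoh H → CohB1.support H ⊆ CohB1.support M → ξ ∉ CohB1.support H →
      topologicalKrullDim (CohB1.support H) < ((r : ℕ) : WithBot ℕ∞) := fun H hH hHs hξH =>
    lt_of_lt_of_le (LocCohTransform.topologicalKrullDim_lt_of_ssubset (hHs.trans hGs)
      (fun h => hξH (h (subset_closure rfl))) (CohTwo.isClosed_support H hH) isClosed_closure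
      isIrreducible_singleton.closure
      (lt_of_le_of_lt hZd (WithBot.coe_lt_coe.2 (ENat.natCast_lt_top _)))) hZd
  intro q
  cases r with
  | zero =>
    obtain ⟨D, hD⟩ := exists_stepF (k := k) hT hG hstep hA hM ξ (w := fun _ => 0) (fun H hH hHs hξH =>
      bndF_isZero (k := k) ((QCohMod.isZero_iff_support_eq_empty _).2
        (eq_empty_of_dim_lt_zero (hlt H hH hHs hξH)))) q
    refine ⟨hF k T M q 0, fun e => ?_⟩
    simp only [fwgt, pow_zero, mul_one]
    exact (walk_le (fun e => hF k T M q e) (∑ t, e t) 0 Finset.univ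
      (fun a t _ => by simpa using hD a t) _ e 0
      (fun u => Finset.single_le_sum (fun _ _ => Nat.zero_le _) (Finset.mem_univ u)) (fun u => Nat.zero_le _)
      (fun u hu => absurd (Finset.mem_univ u) hu) le_rfl).trans_eq (by simp)
  | succ d =>
    obtain ⟨D, hD⟩ := exists_stepF (k := k) hT hG hstep hA hM ξ (w := fwgt d) (fun H hH hHs hξH =>
      IH d (Nat.lt_succ_self d) hH (topologicalKrullDim_le_of_lt (hlt H hH hHs hξH))) q
    let c := Fintype.card s
    refine ⟨hF k T M q 0 + 2 * D * (c + 1) ^ d, fun e => ?_⟩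
    let E := ∑ t, e t
    have hw : ∀ a : s → ℕ, (∀ u, a u ≤ E) → fwgt d a ≤ (c + 1) ^ d * (E + 1) ^ d := fun a ha => by
      rw [fwgt, ← mul_pow]
      refine Nat.pow_le_pow_left ?_ d
      have : ∑ t, a t ≤ c * E := by
        refine (Finset.sum_le_card_nsmul _ _ E fun t _ => ha t).trans_eq ?_
        rw [smul_eq_mul, Finset.card_univ]
      nlinarith
    have h1 := walk_le (fun e => hF k T M q e) E (2 * D * ((c + 1) ^ d * (E + 1) ^ d)) Finset.univ
      (fun a t hat => by
        have w1 := hw a (fun u => le_trans (Nat.le_add_right _ _) (hat u))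
        have w2 := hw (a + Pi.single t 1) hat
        have h2 := hD a t
        have h3 := Nat.mul_le_mul_left D (Nat.add_le_add w1 w2)
        rw [← two_mul, ← mul_assoc, mul_comm D 2] at h3
        constructor <;> omega)
      E e 0 (fun u => Finset.single_le_sum (fun _ _ => Nat.zero_le _) (Finset.mem_univ u))
      (fun u => Nat.zero_le _) (fun u hu => absurd (Finset.mem_univ u) hu) (by simp [E])
    refine h1.trans ?_
    have h5 : (fwgt (d + 1) e) = (E + 1) ^ d * E + (E + 1) ^ d := by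
      simp only [fwgt, E]; ring
    rw [h5, add_mul]
    refine Nat.add_le_add ?_ (le_of_eq_of_le ?_ (Nat.mul_le_mul_left _ (Nat.le_add_right _ _)))
    · calc hF k T M q 0 ≤ hF k T M q 0 * 1 := (mul_one _).ge
        _ ≤ _ := Nat.mul_le_mul_left _ (le_add_left (Nat.one_le_pow _ _ (Nat.succ_pos _)))
    · ring

include hT hG hstep in
/-- Consecutive members of the family differ by `O((|e|+1)^{n-1})`. -/
theorem exists_lipschitz [IsIntegral X] {A : X.Modules} (hA : CohB1.IsAmple A) {n : ℕ}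
    (hn : topologicalKrullDim X = n) (F : X.Modules) (hF' : Coh.IsCoh F) (q : ℕ) :
    ∃ D : ℕ, ∀ (R : ℕ) (a b : s → ℕ), (∀ u, a u ≤ R) → (∀ u, b u ≤ R) →
      hF k T F q a ≤ hF k T F q b + (∑ u, ((a u - b u) + (b u - a u))) * (D * wgt n R) := by
  have hsm : ∀ {w : (s → ℕ) → ℕ}, (∀ H : X.Modules, Coh.IsCoh H →
      topologicalKrullDim (CohB1.support H) < ((n : ℕ) : WithBot ℕ∞) → BndF k T w H) →
      ∀ H : X.Modules, Coh.IsCoh H → CohB1.support H ⊆ CohB1.support F →
        genericPoint X ∉ CohB1.support H → BndF k T w H := fun h H hH _ hξ =>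
    h H hH (dim_lt_of_notMem hn (CohTwo.isClosed_support H hH) hξ)
  cases n with
  | zero =>
    obtain ⟨D, hD⟩ := exists_stepF (k := k) hT hG hstep hA hF' (genericPoint X) (w := fun _ => 0)
      (hsm fun H hH hd => haveI := hH.1
        bndF_isZero (k := k) ((QCohMod.isZero_iff_support_eq_empty _).2 (eq_empty_of_dim_lt_zero hd))) q
    refine ⟨0, fun R a b ha hb => ?_⟩
    rw [zero_mul, mul_zero, add_zero]
    exact (walk_le (fun e => hF k T F q e) R 0 Finset.univ (fun a t _ => by simpa using hD a t) _ a b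
      ha hb (fun u hu => absurd (Finset.mem_univ u) hu) le_rfl).trans_eq (by simp)
  | succ d =>
    obtain ⟨D, hD⟩ := exists_stepF (k := k) hT hG hstep hA hF' (genericPoint X) (w := fwgt d)
      (hsm fun H hH hd => bndF_of_dim hT hG hstep hA d hH (topologicalKrullDim_le_of_lt hd)) q
    refine ⟨2 * D * (Fintype.card s + 1) ^ d, fun R a b ha hb => ?_⟩
    refine walk_le (fun e => hF k T F q e) R _ Finset.univ (fun a t hat => ?_) _ a b
      ha hb (fun u hu => absurd (Finset.mem_univ u) hu) le_rfl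
    have hw : ∀ a : s → ℕ, (∀ u, a u ≤ R) → fwgt d a ≤ (Fintype.card s + 1) ^ d * (R + 1) ^ d := fun a ha => by
      rw [fwgt, ← mul_pow]
      refine Nat.pow_le_pow_left ?_ d
      have : ∑ t, a t ≤ Fintype.card s * R := by
        refine (Finset.sum_le_card_nsmul _ _ R fun t _ => ha t).trans_eq ?_
        rw [smul_eq_mul, Finset.card_univ]
      nlinarith
    have w1 := hw a (fun u => le_trans (Nat.le_add_right _ _) (hat u))
    have w2 := hw (a + Pi.single t 1) hat
    have h2 := hD a t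
    have h3 := Nat.mul_le_mul_left D (Nat.add_le_add w1 w2)
    have h4 : D * ((Fintype.card s + 1) ^ d * (R + 1) ^ d + (Fintype.card s + 1) ^ d * (R + 1) ^ d) =
        2 * D * (Fintype.card s + 1) ^ d * wgt (d + 1) R := by simp only [wgt]; ring
    constructor <;> omega

end Groth.Variety2.Growth
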