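import Groth.Agent.Variety2.Growth.Uniform
import Groth.Agent.Variety2.Growth.StableBase

/-!
# Uniform growth in families of proper schemes over varying fields

A family of coherent modules, each on its own proper scheme over its own infinite field, whose
cohomology is bounded after the twists by two globally generated modules `L ⊗ P` and `P`, grows
like `j^d` under twisting by powers of `L`, uniformly in the family, when the supports have
dimension `≤ d`.
-/

set_option autoImplicit false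

universe u v

open CategoryTheory CategoryTheory.Limits AlgebraicGeometry TopologicalSpace Opposite

noncomputable section

namespace Groth.Variety2.Growth

open Groth.PicAux Groth.HilbStab Groth.PropsBasic.Ample Groth.Inter

variable {ι : Type v} {K : ι → Type u} [∀ i, Field (K i)] {Z : ι → Scheme.{u}}
  [∀ i, (Z i).Over (Spec (CommRingCat.of (K i)))] (L P : ∀ i, (Z i).Modules)

/-- The twists `(L ⊗ P)^a ⊗ P^b`. -/
def twAB (a b : ℕ) (i : ι) : (Z i).Modules :=
  CohB1.tensorMod (CohB1.tensorPow (CohB1.tensorMod (L i) (P i)) a) (CohB1.tensorPow (P i) b)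

variable (K) in
/-- Bounded cohomology after all twists `(L ⊗ P)^a ⊗ P^b`. -/
def FamBdd (G : ∀ i, (Z i).Modules) : Prop :=
  ∀ a b q : ℕ, ∃ C : ℕ, ∀ i, h (K i) (CohB1.tensorMod (G i) (twAB L P a b i)) q ≤ C

variable {L P}

lemma nonempty_twist_left (G : ∀ i, (Z i).Modules) (a b : ℕ) (i : ι) :
    Nonempty (CohB1.tensorMod (CohB1.tensorMod (G i) (CohB1.tensorMod (L i) (P i))) (twAB L P a b i) ≅
      CohB1.tensorMod (G i) (twAB L P (a + 1) b i)) := by
  set H := CohB1.tensorMod (L i) (P i)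
  set Pa := CohB1.tensorPow H a
  set Pb := CohB1.tensorPow (P i) b
  exact ⟨(tensor_assoc (G i) H _).some ≪≫ (tensor_congr ⟨Iso.refl (G i)⟩
    ⟨(tensor_assoc H Pa Pb).some.symm ≪≫ (tensor_congr (tensor_comm H Pa) ⟨Iso.refl Pb⟩).some⟩).some⟩

lemma nonempty_twist_right (G : ∀ i, (Z i).Modules) (a b : ℕ) (i : ι) :
    Nonempty (CohB1.tensorMod (CohB1.tensorMod (G i) (P i)) (twAB L P a b i) ≅
      CohB1.tensorMod (G i) (twAB L P a (b + 1) i)) := by
  set Pa := CohB1.tensorPow (CohB1.tensorMod (L i) (P i)) a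
  set Pb := CohB1.tensorPow (P i) b
  exact ⟨(tensor_assoc (G i) (P i) _).some ≪≫ (tensor_congr ⟨Iso.refl (G i)⟩
    ⟨(tensor_comm (P i) _).some ≪≫ (tensor_assoc Pa Pb (P i)).some⟩).some⟩

variable [∀ i, IsProper (Z i ↘ Spec (CommRingCat.of (K i)))]

lemma isInvertible_twAB (hL : ∀ i, PicF.IsInvertible (L i)) (hP : ∀ i, PicF.IsInvertible (P i))
    (a b : ℕ) (i : ι) : PicF.IsInvertible (twAB L P a b i) :=
  isInvertible_tensorMod (isInvertible_tensorPow (isInvertible_tensorMod (hL i) (hP i)) a)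
    (isInvertible_tensorPow (hP i) b)

/-- Cokernels of injections between bounded families are bounded. -/
theorem famBdd_cokernel (hL : ∀ i, PicF.IsInvertible (L i)) (hP : ∀ i, PicF.IsInvertible (P i))
    {G G' : ∀ i, (Z i).Modules} (f : ∀ i, G i ⟶ G' i) (hf : ∀ i, Mono (f i))
    (hG : ∀ i, Coh.IsCoh (G i)) (hG' : ∀ i, Coh.IsCoh (G' i)) (b : FamBdd K L P G) (b' : FamBdd K L P G') :
    FamBdd K L P (fun i => cokernel (f i)) := fun a c q => by
  obtain ⟨C, hC⟩ := b a c (q + 1)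
  obtain ⟨C', hC'⟩ := b' a c q
  refine ⟨C' + C, fun i => ?_⟩
  have : IsNoetherian (Z i) := isNoetherian (K i)
  have := hf i
  have := (hG i).1
  have := (hG' i).1
  have hT := isInvertible_twAB hL hP a c i
  have hQ : Coh.IsCoh (cokernel (f i)) := QCohMod.isCoh_cokernel (f i) (hG' i)
  exact (h_right_le (K i) (shortExact_tensorRightMod hT (CohTwo.cokerSeq_shortExact (f i)))
    (RefRank.isCoh_tensorMod (hG i) (isCoh_of_isInvertible hT))
    (RefRank.isCoh_tensorMod (hG' i) (isCoh_of_isInvertible hT))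
    (RefRank.isCoh_tensorMod hQ (isCoh_of_isInvertible hT)) q).trans (Nat.add_le_add (hC' i) (hC i))

/-- One cut by general sections of one of the two twisting modules. -/
theorem exists_famCut [∀ i, Infinite (K i)] (hL : ∀ i, PicF.IsInvertible (L i))
    (hP : ∀ i, PicF.IsInvertible (P i)) {G : ∀ i, (Z i).Modules} (hG : ∀ i, Coh.IsCoh (G i))
    (b : FamBdd K L P G) {H : ∀ i, (Z i).Modules} (b' : FamBdd K L P (fun i => CohB1.tensorMod (G i) (H i)))
    (hH : ∀ i, PicF.IsInvertible (H i)) (hgg : ∀ i, Curv2.IsGloballyGenerated (H i)) {d : ℕ}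
    (hd : ∀ i, topologicalKrullDim (CohB1.support (G i)) ≤ (d : WithBot ℕ∞)) :
    ∃ t : ∀ i, Γ(H i, (⊤ : (Z i).Opens)), (∀ i, Mono (mulSec (t i) (G i))) ∧
      (∀ i, Coh.IsCoh (cokernel (mulSec (t i) (G i)))) ∧
      FamBdd K L P (fun i => cokernel (mulSec (t i) (G i))) ∧
      ∀ i, topologicalKrullDim (CohB1.support (cokernel (mulSec (t i) (G i)))) < ((d : ℕ) : WithBot ℕ∞) := by
  have hN : ∀ i, IsNoetherian (Z i) := fun i => isNoetherian (K i)
  choose t ht using fun i => exists_mem_gloc_finite (K i) (hH i) (hgg i) (finite_assPoints (hG i))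
  have hm : ∀ i, Mono (mulSec (t i) (G i)) := fun i =>
    mono_mulSec_of_assPoints (hG i) (t i) (ht i)
  have hGH : ∀ i, Coh.IsCoh (CohB1.tensorMod (G i) (H i)) := fun i =>
    RefRank.isCoh_tensorMod (hG i) (isCoh_of_isInvertible (hH i))
  refine ⟨t, hm, fun i => ?_, famBdd_cokernel hL hP _ hm hG hGH b b',
    fun i => dim_cokernel_mulSec_lt (hG i) (hH i) (t i) (ht i) d (hd i)⟩
  have := (hG i).1
  have := (hGH i).1
  exact QCohMod.isCoh_cokernel _ (hGH i)

/-- **Uniform growth.** In a bounded family with supports of dimension `≤ d` the twists by powers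
of `L` grow like `j^d`, uniformly. -/
theorem exists_famBound [∀ i, Infinite (K i)] (hL : ∀ i, PicF.IsInvertible (L i))
    (hP : ∀ i, PicF.IsInvertible (P i))
    (hggL : ∀ i, Curv2.IsGloballyGenerated (CohB1.tensorMod (L i) (P i)))
    (hggP : ∀ i, Curv2.IsGloballyGenerated (P i)) :
    ∀ (d : ℕ) (G : ∀ i, (Z i).Modules), (∀ i, Coh.IsCoh (G i)) → FamBdd K L P G →
      (∀ i, topologicalKrullDim (CohB1.support (G i)) ≤ (d : WithBot ℕ∞)) →
      ∀ q : ℕ, ∃ C : ℕ, ∀ i j, hT (K i) (L i) (G i) q j ≤ C * (j + 1) ^ d := by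
  intro d
  induction d using Nat.strong_induction_on with
  | _ d IH =>
  intro G hG b hd q
  have bl : FamBdd K L P (fun i => CohB1.tensorMod (G i) (CohB1.tensorMod (L i) (P i))) := fun a c q => by
    obtain ⟨C, hC⟩ := b (a + 1) c q
    exact ⟨C, fun i => (h_congr (K i) (nonempty_twist_left G a c i).some q).trans_le (hC i)⟩
  have br : FamBdd K L P (fun i => CohB1.tensorMod (G i) (P i)) := fun a c q => by
    obtain ⟨C, hC⟩ := b a (c + 1) q
    exact ⟨C, fun i => (h_congr (K i) (nonempty_twist_right G a c i).some q).trans_le (hC i)⟩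
  have hH₁ := fun i => isInvertible_tensorMod (hL i) (hP i)
  obtain ⟨t₁, hm₁, hc₁, b₁, hd₁⟩ := exists_famCut hL hP hG b bl hH₁ hggL hd
  obtain ⟨t₂, hm₂, hc₂, b₂, hd₂⟩ := exists_famCut hL hP hG b br hP hggP hd
  have small : ∀ Q : ∀ i, (Z i).Modules, (∀ i, Coh.IsCoh (Q i)) → FamBdd K L P Q →
      (∀ i, topologicalKrullDim (CohB1.support (Q i)) < ((d : ℕ) : WithBot ℕ∞)) →
      ∀ q, ∃ C : ℕ, ∀ i j, hT (K i) (L i) (Q i) q j ≤ C * wgt d j := fun Q hQ bQ hQd q => by
    cases d with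
    | zero =>
      refine ⟨0, fun i j => ?_⟩
      have := (hQ i).1
      rw [hT_isZero (K i) ((QCohMod.isZero_iff_support_eq_empty _).2 (eq_empty_of_dim_lt_zero (hQd i)))]
      exact Nat.zero_le _
    | succ e => exact IH e e.lt_succ_self Q hQ bQ (fun i => topologicalKrullDim_le_of_lt (hQd i)) q
  obtain ⟨C₁', hC₁'⟩ := small _ hc₁ b₁ hd₁ q
  obtain ⟨C₂, hC₂⟩ := small _ hc₂ b₂ hd₂ (q - 1)
  obtain ⟨C₀, hC₀⟩ := b 0 0 q
  have hstep : ∀ i j, hT (K i) (L i) (G i) q (j + 1) ≤
      hT (K i) (L i) (G i) q j + (C₁' + C₂) * wgt d (j + 1) := fun i j => by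
    have := hm₁ i
    have := hm₂ i
    have q1 := (hT_mono_le (k := K i) (hL i) (mulSec (t₁ i) (G i)) (hG i)
      (RefRank.isCoh_tensorMod (hG i) (isCoh_of_isInvertible (hH₁ i))) q j).1
    have q2 := (hT_mono_le (k := K i) (hL i) (mulSec (t₂ i) (G i)) (hG i)
      (RefRank.isCoh_tensorMod (hG i) (isCoh_of_isInvertible (hP i))) q (j + 1)).2
    have e : hT (K i) (L i) (CohB1.tensorMod (G i) (P i)) q (j + 1) =
        hT (K i) (L i) (CohB1.tensorMod (G i) (CohB1.tensorMod (L i) (P i))) q j := by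
      unfold hT
      refine h_congr (K i) ((tensor_assoc (G i) (P i) _).some ≪≫ (tensor_congr ⟨Iso.refl (G i)⟩ ⟨?_⟩).some ≪≫
        (tensor_assoc (G i) _ _).some.symm) q
      exact (tensor_comm (P i) _).some ≪≫ (tensor_assoc (CohB1.tensorPow (L i) j) (L i) (P i)).some ≪≫
        (tensor_comm _ _).some
    have h1 := (hC₁' i j).trans (Nat.mul_le_mul_left C₁' (wgt_mono_right d (Nat.le_add_right j 1)))
    have h2 := hC₂ i (j + 1)
    rw [add_mul]
    omega
  refine ⟨C₀ + (C₁' + C₂) * 2 ^ d, fun i j => ?_⟩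
  have h0 : hT (K i) (L i) (G i) q 0 ≤ C₀ := by
    refine le_of_eq_of_le (h_congr (K i) (tensor_congr ⟨Iso.refl (G i)⟩ ⟨?_⟩).some q) (hC₀ i)
    exact (tensor_one (Coh.structureModule (Z i))).some.symm
  have hind : ∀ j, hT (K i) (L i) (G i) q j ≤ C₀ + j * ((C₁' + C₂) * wgt d j) := fun j => by
    induction j with
    | zero => simpa using h0
    | succ j ih =>
      have h1 := Nat.mul_le_mul_left j (Nat.mul_le_mul_left (C₁' + C₂) (wgt_mono_right d (Nat.le_add_right j 1)))
      have h2 := hstep i j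
      rw [Nat.succ_mul]
      omega
  have hj : j * wgt d j ≤ (j + 1) ^ d := by
    cases d with
    | zero => exact (Nat.mul_zero j).trans_le (Nat.zero_le _)
    | succ e =>
      rw [pow_succ', wgt]
      exact Nat.mul_le_mul_right _ j.le_succ
  calc hT (K i) (L i) (G i) q j ≤ C₀ + j * ((C₁' + C₂) * wgt d j) := hind j
    _ = C₀ * 1 + (C₁' + C₂) * (j * wgt d j) := by ring
    _ ≤ C₀ * (j + 1) ^ d + (C₁' + C₂) * 2 ^ d * (j + 1) ^ d :=
      Nat.add_le_add (Nat.mul_le_mul_left _ (Nat.one_le_pow _ _ j.succ_pos))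
        (Nat.mul_le_mul (Nat.le_mul_of_pos_right _ (by positivity)) hj)
    _ = _ := by ring

end Groth.Variety2.Growth
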