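import Groth.Agent.Variety2.Growth.Avoid
import Groth.Agent.Misc13.NumTriv.Uniform
import Groth.Agent.Duality.SupportVanish
import Groth.Agent.Pi1Ample.FiniteAffine

/-!
# Uniform growth of cohomology in bounded families

A family of coherent modules is bounded here when, after each fixed invertible twist, all its
cohomology dimensions are bounded. For such a family of dimension `≤ d` the twists by `L^j` grow
like `j^d`, uniformly in the family. Numerically trivial twists of a fixed module form such a family.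
-/

set_option autoImplicit false

universe u v

open CategoryTheory CategoryTheory.Limits AlgebraicGeometry TopologicalSpace Opposite

noncomputable section

namespace Groth.Variety2.Growth

open Groth.PicAux Groth.HilbStab Groth.PropsBasic.Ample Groth.Inter Groth.Misc13.NumTriv

variable (k : Type u) [Field k] {X : Scheme.{u}} [X.Over (Spec (CommRingCat.of k))]
  [IsProper (X ↘ Spec (CommRingCat.of k))]

/-- A bounded family: bounded cohomology after every invertible twist. -/
def BddFam {ι : Type v} (G : ι → X.Modules) : Prop :=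
  ∀ T : X.Modules, PicF.IsInvertible T → ∀ q : ℕ, ∃ C : ℕ, ∀ i, h k (CohB1.tensorMod (G i) T) q ≤ C

variable {k}

/-- A monomorphism changes `h^q` at most by the cohomology of the cokernel. -/
theorem hT_mono_le {L : X.Modules} (hL : PicF.IsInvertible L) {M N : X.Modules} (f : M ⟶ N) [Mono f]
    (hM : Coh.IsCoh M) (hN : Coh.IsCoh N) (q j : ℕ) :
    hT k L N q j ≤ hT k L M q j + hT k L (cokernel f) q j ∧
      hT k L M q j ≤ hT k L N q j + hT k L (cokernel f) (q - 1) j := by
  have : IsNoetherian X := isNoetherian k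
  have := hM.1
  have := hN.1
  have hQ : Coh.IsCoh (cokernel f) := QCohMod.isCoh_cokernel f hN
  have hS := CohTwo.cokerSeq_shortExact f
  refine ⟨hT_mid_le hL hS hM hN hQ q j, ?_⟩
  cases q with
  | zero => exact (hT_left_zero_le hL hS hM hN hQ j).trans (Nat.le_add_right _ _)
  | succ q =>
    refine (hT_left_succ_le hL hS hM hN hQ q j).trans ?_
    rw [Nat.add_sub_cancel, Nat.add_comm]

/-- Cokernels of injections between bounded families form a bounded family. -/
theorem bddFam_cokernel {ι : Type v} {G G' : ι → X.Modules} (f : ∀ i, G i ⟶ G' i) (hf : ∀ i, Mono (f i))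
    (hG : ∀ i, Coh.IsCoh (G i)) (hG' : ∀ i, Coh.IsCoh (G' i)) (b : BddFam k G) (b' : BddFam k G') :
    BddFam k (fun i => cokernel (f i)) := fun T hT q => by
  have : IsNoetherian X := isNoetherian k
  obtain ⟨C, hC⟩ := b T hT (q + 1)
  obtain ⟨C', hC'⟩ := b' T hT q
  refine ⟨C' + C, fun i => ?_⟩
  have := hf i
  have := (hG i).1
  have := (hG' i).1
  have hQ : Coh.IsCoh (cokernel (f i)) := QCohMod.isCoh_cokernel (f i) (hG' i)
  exact (h_right_le k (shortExact_tensorRightMod hT (CohTwo.cokerSeq_shortExact (f i)))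
    (RefRank.isCoh_tensorMod (hG i) (isCoh_of_isInvertible hT))
    (RefRank.isCoh_tensorMod (hG' i) (isCoh_of_isInvertible hT))
    (RefRank.isCoh_tensorMod hQ (isCoh_of_isInvertible hT)) q).trans (Nat.add_le_add (hC' i) (hC i))

omit [IsProper (X ↘ Spec (CommRingCat.of k))] in
theorem bddFam_twist {ι : Type v} {G : ι → X.Modules} (b : BddFam k G) {H : X.Modules}
    (hH : PicF.IsInvertible H) : BddFam k (fun i => CohB1.tensorMod (G i) H) := fun T hT q => by
  obtain ⟨C, hC⟩ := b (CohB1.tensorMod H T) (isInvertible_tensorMod hH hT) q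
  exact ⟨C, fun i => (h_congr k (tensor_assoc (G i) H T).some q).trans_le (hC i)⟩

/-- One cut: the cokernels of general sections of a fixed module form a bounded family of smaller
dimension. -/
theorem exists_cut [Infinite k] {ι : Type v} {G : ι → X.Modules} (hG : ∀ i, Coh.IsCoh (G i))
    (b : BddFam k G) {d : ℕ} (hd : ∀ i, topologicalKrullDim (CohB1.support (G i)) ≤ (d : WithBot ℕ∞))
    {H : X.Modules} (hH : PicF.IsInvertible H) (hgg : Curv2.IsGloballyGenerated H) :
    ∃ t : ι → Γ(H, (⊤ : X.Opens)), (∀ i, Mono (mulSec (t i) (G i))) ∧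
      (∀ i, Coh.IsCoh (cokernel (mulSec (t i) (G i)))) ∧
      BddFam k (fun i => cokernel (mulSec (t i) (G i))) ∧
      ∀ i, topologicalKrullDim (CohB1.support (cokernel (mulSec (t i) (G i)))) < ((d : ℕ) : WithBot ℕ∞) := by
  have : IsNoetherian X := isNoetherian k
  choose t ht using fun i => exists_mem_gloc_finite k hH hgg (finite_assPoints (hG i))
  have hm : ∀ i, Mono (mulSec (t i) (G i)) := fun i =>
    mono_mulSec_of_assPoints (hG i) (t i) (ht i)
  have hGH : ∀ i, Coh.IsCoh (CohB1.tensorMod (G i) H) := fun i =>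
    RefRank.isCoh_tensorMod (hG i) (isCoh_of_isInvertible hH)
  refine ⟨t, hm, fun i => ?_, bddFam_cokernel _ hm hG hGH b (bddFam_twist b hH),
    fun i => dim_cokernel_mulSec_lt (hG i) hH (t i) (ht i) d (hd i)⟩
  have := (hG i).1
  have := (hGH i).1
  exact QCohMod.isCoh_cokernel _ (hGH i)

/-- In a bounded family of dimension `≤ d` the twists by powers grow like `j^d`, uniformly. -/
theorem exists_uniform_bound [Infinite k] {A L : X.Modules} (hA : CohB1.IsAmple A)
    (hL : PicF.IsInvertible L) : ∀ (d : ℕ) {ι : Type v} (G : ι → X.Modules), (∀ i, Coh.IsCoh (G i)) →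
      BddFam k G → (∀ i, topologicalKrullDim (CohB1.support (G i)) ≤ (d : WithBot ℕ∞)) →
      ∀ q : ℕ, ∃ C : ℕ, ∀ i j, hT k L (G i) q j ≤ C * (j + 1) ^ d := by
  have hN : IsNoetherian X := isNoetherian k
  have hOi := EulerDeg.isInvertible_structureModule X
  have hOc := isCoh_of_isInvertible hOi
  have hLc := isCoh_of_isInvertible hL
  have := hLc.1
  have := hOc.1
  obtain ⟨p₁, hp₁⟩ := Chow.exists_isGloballyGenerated_twist hA L hLc.2
  obtain ⟨p₂, hp₂⟩ := Chow.exists_isGloballyGenerated_twist hA (Coh.structureModule X) hOc.2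
  let P := CohB1.tensorPow A (p₁ + p₂)
  let H₁ := CohB1.tensorMod L P
  let H₂ := CohB1.tensorMod (Coh.structureModule X) P
  have hP : PicF.IsInvertible P := isInvertible_tensorPow hA.1 _
  have hH₁ : PicF.IsInvertible H₁ := isInvertible_tensorMod hL hP
  have hH₂ : PicF.IsInvertible H₂ := isInvertible_tensorMod hOi hP
  intro d
  induction d using Nat.strong_induction_on with
  | _ d IH =>
  intro ι G hG b hd q
  obtain ⟨t₁, hm₁, hc₁, b₁, hd₁⟩ := exists_cut hG b hd hH₁ (hp₁ _ (Nat.le_add_right _ _))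
  obtain ⟨t₂, hm₂, hc₂, b₂, hd₂⟩ := exists_cut hG b hd hH₂ (hp₂ _ (Nat.le_add_left _ _))
  have small : ∀ Q : ι → X.Modules, (∀ i, Coh.IsCoh (Q i)) → BddFam k Q →
      (∀ i, topologicalKrullDim (CohB1.support (Q i)) < ((d : ℕ) : WithBot ℕ∞)) →
      ∀ q, ∃ C : ℕ, ∀ i j, hT k L (Q i) q j ≤ C * wgt d j := fun Q hQ bQ hQd q => by
    cases d with
    | zero =>
      refine ⟨0, fun i j => ?_⟩
      have := (hQ i).1
      rw [hT_isZero k ((QCohMod.isZero_iff_support_eq_empty _).2 (eq_empty_of_dim_lt_zero (hQd i)))]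
      exact Nat.zero_le _
    | succ e => exact IH e e.lt_succ_self Q hQ bQ (fun i => topologicalKrullDim_le_of_lt (hQd i)) q
  obtain ⟨C₁, hC₁⟩ := small _ hc₁ b₁ hd₁ (q - 1)
  obtain ⟨C₁', hC₁'⟩ := small _ hc₁ b₁ hd₁ q
  obtain ⟨C₂, hC₂⟩ := small _ hc₂ b₂ hd₂ (q - 1)
  obtain ⟨C₂', hC₂'⟩ := small _ hc₂ b₂ hd₂ q
  obtain ⟨C₀, hC₀⟩ := b (Coh.structureModule X) hOi q
  have hstep : ∀ i j, hT k L (G i) q (j + 1) ≤ hT k L (G i) q j + (C₁' + C₂) * wgt d (j + 1) := fun i j => by
    have := hm₁ i
    have := hm₂ i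
    have q1 := (hT_mono_le (k := k) hL (mulSec (t₁ i) (G i)) (hG i)
      (RefRank.isCoh_tensorMod (hG i) (isCoh_of_isInvertible hH₁)) q j).1
    have q2 := (hT_mono_le (k := k) hL (mulSec (t₂ i) (G i)) (hG i)
      (RefRank.isCoh_tensorMod (hG i) (isCoh_of_isInvertible hH₂)) q (j + 1)).2
    have e : hT k L (CohB1.tensorMod (G i) H₂) q (j + 1) = hT k L (CohB1.tensorMod (G i) H₁) q j := by
      unfold hT
      refine h_congr k ((tensor_assoc (G i) H₂ _).some ≪≫ (tensor_congr ⟨Iso.refl (G i)⟩ ⟨?_⟩).some ≪≫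
        (tensor_assoc (G i) H₁ _).some.symm) q
      exact (tensor_congr (tensor_one P) ⟨Iso.refl _⟩).some ≪≫ (tensor_comm P _).some ≪≫
        (tensor_congr (tensor_comm (CohB1.tensorPow L j) L) ⟨Iso.refl P⟩).some ≪≫
        (tensor_assoc L (CohB1.tensorPow L j) P).some ≪≫
        (tensor_congr ⟨Iso.refl L⟩ (tensor_comm (CohB1.tensorPow L j) P)).some ≪≫
        (tensor_assoc L P (CohB1.tensorPow L j)).some.symm
    have w1 : wgt d j ≤ wgt d (j + 1) := by
      cases d with
      | zero => exact le_rfl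
      | succ e => exact Nat.pow_le_pow_left (Nat.le_succ _) e
    have h1 := (hC₁' i j).trans (Nat.mul_le_mul_left C₁' w1)
    have h2 := hC₂ i (j + 1)
    rw [add_mul]
    omega
  refine ⟨C₀ + (C₁' + C₂) * 2 ^ d, fun i j => ?_⟩
  have hind : ∀ j, hT k L (G i) q j ≤ C₀ + j * ((C₁' + C₂) * wgt d j) := fun j => by
    induction j with
    | zero => simpa [hT, CohB1.tensorPow] using hC₀ i
    | succ j ih =>
      have w1 : wgt d j ≤ wgt d (j + 1) := by
        cases d with
        | zero => exact le_rfl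
        | succ e => exact Nat.pow_le_pow_left (Nat.le_succ _) e
      have h1 := Nat.mul_le_mul_left j (Nat.mul_le_mul_left (C₁' + C₂) w1)
      have h2 := hstep i j
      rw [Nat.succ_mul]
      omega
  have hj : j * wgt d j ≤ (j + 1) ^ d := by
    cases d with
    | zero => exact (Nat.mul_zero j).trans_le (Nat.zero_le _)
    | succ e =>
      rw [pow_succ', wgt]
      exact Nat.mul_le_mul_right _ j.le_succ
  calc hT k L (G i) q j ≤ C₀ + j * ((C₁' + C₂) * wgt d j) := hind j
    _ = C₀ * 1 + (C₁' + C₂) * (j * wgt d j) := by ring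
    _ ≤ C₀ * (j + 1) ^ d + (C₁' + C₂) * 2 ^ d * (j + 1) ^ d :=
      Nat.add_le_add (Nat.mul_le_mul_left _ (Nat.one_le_pow _ _ j.succ_pos))
        (Nat.mul_le_mul (Nat.le_mul_of_pos_right _ (by positivity)) hj)
    _ = _ := by ring

/-- A variant with the weights used for comparisons. -/
theorem exists_uniform_wgt [Infinite k] {A L : X.Modules} (hA : CohB1.IsAmple A) (hL : PicF.IsInvertible L)
    {n : ℕ} {ι : Type v} (G : ι → X.Modules) (hG : ∀ i, Coh.IsCoh (G i)) (b : BddFam k G)
    (hd : ∀ i, topologicalKrullDim (CohB1.support (G i)) < ((n : ℕ) : WithBot ℕ∞)) (q : ℕ) :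
    ∃ C : ℕ, ∀ i j, hT k L (G i) q j ≤ C * wgt n j := by
  cases n with
  | zero =>
    refine ⟨0, fun i j => ?_⟩
    have := (hG i).1
    rw [hT_isZero k ((QCohMod.isZero_iff_support_eq_empty _).2 (eq_empty_of_dim_lt_zero (hd i)))]
    exact Nat.zero_le _
  | succ e => exact exists_uniform_bound hA hL e G hG b (fun i => topologicalKrullDim_le_of_lt (hd i)) q

/-- All cohomology of numerically trivial twists of a fixed coherent module is bounded. -/
theorem exists_bound_nt {A : X.Modules} (hA : CohB1.IsAmple A) : ∀ (q : ℕ) {F : X.Modules}, Coh.IsCoh F →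
    ∃ C : ℕ, ∀ N : X.Modules, NT k N → h k (CohB1.tensorMod F N) q ≤ C := by
  have hN : IsNoetherian X := isNoetherian k
  intro q
  induction q with
  | zero =>
    intro F hF
    exact bndNT k hA hF
  | succ q ih =>
    intro F hF
    obtain ⟨m₀, hm₀⟩ := exists_vanishing k hA hF
    obtain ⟨p, t, ht, -, -⟩ := exists_affine_gloc_finite hA _ (finite_assPoints hF) ⊤ (fun _ _ => trivial)
    obtain ⟨s, hs⟩ := exists_gloc_transport (p + 1) (m₀ + 1) (powSec t (m₀ + 1))
    rw [gloc_powSec (isInvertible_tensorPow hA.1 _) t m₀.succ_pos] at hs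
    let M := CohB1.tensorPow A ((p + 1) * (m₀ + 1))
    have hM : PicF.IsInvertible M := isInvertible_tensorPow hA.1 _
    have hm : Mono (mulSec s F) := mono_mulSec_of_assPoints hF s (fun x hx => hs ▸ ht hx)
    have hFM := RefRank.isCoh_tensorMod hF (isCoh_of_isInvertible hM)
    have := hF.1
    have := hFM.1
    have hQ : Coh.IsCoh (cokernel (mulSec s F)) := QCohMod.isCoh_cokernel _ hFM
    obtain ⟨C, hC⟩ := ih hQ
    refine ⟨C, fun N hN' => ?_⟩
    have hNc := isCoh_of_isInvertible hN'.1
    refine (h_left_succ_le k (shortExact_tensorRightMod hN'.1 (CohTwo.cokerSeq_shortExact (mulSec s F)))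
      (RefRank.isCoh_tensorMod hF hNc) (RefRank.isCoh_tensorMod hFM hNc) (RefRank.isCoh_tensorMod hQ hNc) q).trans ?_
    have h0 := hm₀ ((p + 1) * (m₀ + 1)) (le_trans (Nat.le_succ _) (Nat.le_mul_of_pos_left _ p.succ_pos))
      N hN' (q + 1) q.succ_pos
    have : h k (CohB1.tensorMod (CohB1.tensorMod F M) N) (q + 1) = 0 := by
      rw [h_congr k ((tensor_assoc F M N).some ≪≫ (tensor_congr ⟨Iso.refl F⟩ (tensor_comm M N)).some ≪≫
        (tensor_assoc F N M).some.symm) (q + 1)]
      exact Module.finrank_zero_of_subsingleton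
    change h k (CohB1.tensorMod (cokernel (mulSec s F)) N) q + h k (CohB1.tensorMod (CohB1.tensorMod F M) N) (q + 1) ≤ C
    rw [this, add_zero]
    exact hC N hN'

/-- The numerically trivial twists of a fixed coherent module form a bounded family. -/
theorem bddFam_nt {A : X.Modules} (hA : CohB1.IsAmple A) {F : X.Modules} (hF : Coh.IsCoh F) :
    BddFam k (fun N : {N : X.Modules // NT k N} => CohB1.tensorMod F N.1) := fun T hT q => by
  obtain ⟨C, hC⟩ := exists_bound_nt (k := k) hA q (RefRank.isCoh_tensorMod hF (isCoh_of_isInvertible hT))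
  exact ⟨C, fun N => (h_congr k ((tensor_assoc F N.1 T).some ≪≫
    (tensor_congr ⟨Iso.refl F⟩ (tensor_comm N.1 T)).some ≪≫ (tensor_assoc F T N.1).some.symm) q).trans_le
      (hC N.1 N.2)⟩

end Groth.Variety2.Growth
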